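import Cfsg.Agent.Lib.H47.RootCent
import Cfsg.Agent.Lib.H22.ChevRC

/-!
Boolean checks for the hypotheses of the centraliser theorem.
-/

set_option autoImplicit false

namespace H47.RootCent

open H22.RGD H22.Coord H22.RCCheck H22.RCComb H22.ChevTri H22.ChevRel H22.ChevSys H22.ChevMain
open H22.ChevStd H22.ChevUni
open Cfsg.Lie (ChevalleyDatum)
open scoped MatrixGroups Matrix

variable {D : ChevalleyDatum} {F : Type*} [Field F] (R : Rel D F) {X : RCX D} (Z : Lex X.rc)

/-- commutator terms vanish mod `p` or lie in `p0` -/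
def okT (D : ChevalleyDatum) (p : ℕ) (p0 : List ℕ) (r s : ℕ) : Bool :=
  Nat.beq s r || (!(Nat.beq s (D.neg r)) &&
    (D.commTerms r s).all fun c => Nat.beq (c.2.1.natAbs % p) 0 || p0.elem c.1)

theorem conj_terms {r s : ℕ} (hr : r < D.nroots) (hs : s < D.nroots) (h1 : s ≠ r)
    (h2 : s ≠ D.neg r) (t u : F) : xg R r t * xg R s u * (xg R r t)⁻¹ * (xg R s u)⁻¹ =
      xg R s u * wg R (D.commWord F r s (-t) u) * (xg R s u)⁻¹ := by
  have h3 := comm_g R hr hs h1 h2 (-t) u
  have h4 : xg R r t * xg R s u * (xg R r t)⁻¹ = xg R s u * wg R (D.commWord F r s (-t) u) := by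
    rw [xg_inv, mul_assoc, h3, ← xg_inv]
    simp [mul_assoc]
  rw [h4]

theorem wg_mem_of_ok {p : ℕ} [CharP F p] {p0 : List ℕ} {r s : ℕ}
    (hr : r < D.nroots) (hs : s < D.nroots) (Q : RC D)
    (h : (D.commTerms r s).all (fun c => Nat.beq (c.2.1.natAbs % p) 0 || p0.elem c.1) = true)
    {K : Subgroup (GL D.Idx F)} (hK : ∀ k < D.nroots, k ∈ p0 → ∀ v : F, xg R k v ∈ K) (t u : F) :
    wg R (D.commWord F r s t u) ∈ K := by
  refine wg_mem R _ fun q hq => ?_
  unfold ChevalleyDatum.commWord at hq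
  simp only [List.mem_map] at hq
  obtain ⟨c, hc, rfl⟩ := hq
  rw [List.all_eq_true] at h
  have h1 := h c hc
  rw [Bool.or_eq_true] at h1
  obtain ⟨g1, _⟩ := commTerms_co Q hr hs hc
  rcases h1 with h1 | h1
  · have h2 : c.2.1.natAbs % p = 0 := Nat.eq_of_beq_eq_true h1
    have h3 : ((c.2.1 : ℤ) : F) = 0 := by
      rw [CharP.intCast_eq_zero_iff F p]
      exact Int.natCast_dvd.2 (Nat.dvd_of_mod_eq_zero h2)
    simp only [h3, zero_mul, xg_zero]
    exact K.one_mem
  · exact hK _ g1 (by simpa using h1) _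

theorem comm_of_ok {p : ℕ} [CharP F p] {r s : ℕ} (hr : r < D.nroots) (hs : s < D.nroots) (Q : RC D)
    (h : okT D p [] r s = true) (a b : F) : Commute (xg R r a) (xg R s b) := by
  unfold okT at h
  rw [Bool.or_eq_true, Bool.and_eq_true, Bool.not_eq_true'] at h
  rcases h with h | ⟨h1, h2⟩
  · rw [Nat.eq_of_beq_eq_true h]; exact H47.ChevSub.xg_comm R _ _ _
  · by_cases hsr : s = r
    · rw [hsr]; exact H47.ChevSub.xg_comm R _ _ _
    · have h3 : s ≠ D.neg r := by rintro rfl; rw [Nat.beq_refl] at h1; exact absurd h1 (by decide)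
      have h4 := conj_terms R hr hs hsr h3 a b
      have h5 : wg R (D.commWord F r s (-a) b) ∈ (⊥ : Subgroup (GL D.Idx F)) :=
        wg_mem_of_ok R (p := p) hr hs Q h2 (fun k _ hk => absurd hk (by simp)) _ _
      rw [Subgroup.mem_bot] at h5
      rw [h5, mul_one, mul_inv_cancel, mul_inv_eq_one, mul_inv_eq_iff_eq_mul] at h4
      exact h4

theorem conj_of_ok {p : ℕ} [CharP F p] {p0 : List ℕ} {r s : ℕ} (hr : r < D.nroots)
    (hs : s < D.nroots) (Q : RC D) (h : okT D p p0 r s = true) {K : Subgroup (GL D.Idx F)}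
    (hK : ∀ k < D.nroots, k ∈ p0 → ∀ v : F, xg R k v ∈ K)
    (hcs : ∀ y ∈ K, ∀ v : F, Commute y (xg R s v)) (t u : F) :
    xg R r t * xg R s u * (xg R r t)⁻¹ * (xg R s u)⁻¹ ∈ K := by
  unfold okT at h
  rw [Bool.or_eq_true, Bool.and_eq_true, Bool.not_eq_true'] at h
  by_cases hsr : s = r
  · rw [hsr, H47.ChevSub.xg_comm R r t u]
    simp [K.one_mem]
  · rcases h with h | ⟨h1, h2⟩
    · exact absurd (Nat.eq_of_beq_eq_true h) hsr
    · have h3 : s ≠ D.neg r := by rintro rfl; rw [Nat.beq_refl] at h1; exact absurd h1 (by decide)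
      rw [conj_terms R hr hs hsr h3]
      have h5 := wg_mem_of_ok R (p := p) (p0 := p0) hr hs Q h2 hK (-t) u
      have h6 := hcs _ h5 u
      rw [← h6.eq, mul_assoc, mul_inv_cancel, mul_one]
      exact h5

/-- invariance of a predicate under the simple reflections -/
def ckInv (D : ChevalleyDatum) (T : ℕ → Bool) : Bool :=
  (List.range D.rank).all fun i => (List.range D.nroots).all fun s =>
    T (D.reflectRoot i s) == T s

theorem inv_of {T : ℕ → Bool} (h : ckInv D T = true) {w : Equiv.Perm (Fin D.nroots)}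
    (hw : w ∈ (comb X).W) (r : Fin D.nroots) : T (w r : Fin D.nroots) = T r := by
  unfold ckInv at h
  simp only [List.all_eq_true, List.mem_range, beq_iff_eq] at h
  obtain ⟨L, rfl⟩ := (comb X).exists_word hw
  induction L with
  | nil => rfl
  | cons i L ih =>
    rw [RootComb.w_cons, Equiv.Perm.mul_apply, comb_refl_val, h i i.2 _ ((comb X).w L r).2]
    exact ih ((comb X).w_mem L)

theorem pair_eq (X : RCX D) (i : Fin D.rank) (r : Fin D.nroots) :
    (coord X).pair i r = D.cartan i r := by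
  rw [X.rc.cartan_eq i i.2 r r.2]
  exact Fin.sum_univ_eq_sum_range (fun k => X.rc.A i k * X.rc.co r k) D.rank

/-- the boolean check -/
def chk (X : RCX D) (p : ℕ) (b0 p0 : List ℕ) (x0 : ℕ → ℤ) (J0 : List ℕ) (T : ℕ → Bool) : Bool :=
  decide ((b0 ++ p0).Nodup) &&
  ((b0 ++ p0).all fun r => Nat.ble X.rc.half r && Nat.blt r D.nroots) &&
  ((b0 ++ p0).all fun r => (b0 ++ p0).all fun s => okT D p [] r s) &&
  ((List.range D.nroots).all fun r => Nat.blt r X.rc.half || (b0 ++ p0).all fun s => okT D p p0 r s) &&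
  (b0.all fun r => decide (0 ≤ x0 r)) &&
  ((List.range D.rank).all fun i =>
    decide (0 ≤ (b0.map fun r => x0 r * D.cartan i r).sum) &&
    (J0.elem i || !(decide ((b0.map fun r => x0 r * D.cartan i r).sum = 0)))) &&
  ckInv D T &&
  (b0.all fun r => (b0 ++ p0).all fun s => !(T s == T r) ||
    (List.range D.rank).all fun j => decide (X.rc.co r j ≤ X.rc.co s j)) &&
  (J0.all fun j => Nat.blt j D.rank && b0.all fun r => okT D p [] (D.simple j) r &&
    okT D p [] (D.neg (D.simple j)) r)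

/-- lift a list of indices -/
def lift (n : ℕ) (l : List ℕ) : List (Fin n) := l.filterMap fun r => if h : r < n then some ⟨r, h⟩ else none

theorem mem_lift {n : ℕ} {l : List ℕ} {r : Fin n} : r ∈ lift n l ↔ (r : ℕ) ∈ l := by
  unfold lift
  rw [List.mem_filterMap]
  constructor
  · rintro ⟨a, ha, h⟩
    split_ifs at h with h1
    · cases h; exact ha
  · intro h
    exact ⟨r, h, by rw [dif_pos r.2]⟩

theorem lift_map_val {n : ℕ} {l : List ℕ} (h : ∀ r ∈ l, r < n) : (lift n l).map Fin.val = l := by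
  induction l with
  | nil => rfl
  | cons a l ih =>
    have h1 := h a (by simp)
    unfold lift at ih ⊢
    rw [List.filterMap_cons]
    simp only [dif_pos h1, List.map_cons]
    rw [ih fun r hr => h r (by simp [hr])]

theorem lift_append {n : ℕ} (l l' : List ℕ) : lift n (l ++ l') = lift n l ++ lift n l' := by
  unfold lift; rw [List.filterMap_append]

theorem hyp_of_chk {p : ℕ} [CharP F p] {b0 p0 : List ℕ} {x0 : ℕ → ℤ} {J0 : List ℕ} {T : ℕ → Bool}
    (h : chk X p b0 p0 x0 J0 T = true)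
    (htorus : ∀ h ∈ Hs R, (∀ r ∈ b0, ∀ t : F, Commute h (xg R r t)) →
      h ∈ MJ R (fun j : Fin D.rank => (j : ℕ) ∈ J0)) :
    Hyp R X (lift D.nroots b0) (lift D.nroots p0) (fun r => x0 r)
      (fun j : Fin D.rank => (j : ℕ) ∈ J0) := by
  unfold chk at h
  simp only [Bool.and_eq_true] at h
  obtain ⟨⟨⟨⟨⟨⟨⟨⟨h1, h2⟩, h3⟩, h4⟩, h5⟩, h6⟩, h7⟩, h8⟩, h9⟩ := h
  simp only [decide_eq_true_eq] at h1
  simp only [List.all_eq_true, Bool.and_eq_true, Nat.ble_eq, Nat.blt_eq] at h2
  simp only [List.all_eq_true] at h3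
  simp only [List.all_eq_true, List.mem_range, Bool.or_eq_true, Nat.blt_eq] at h4
  simp only [List.all_eq_true, decide_eq_true_eq] at h5
  simp only [List.all_eq_true, List.mem_range, Bool.and_eq_true, Bool.or_eq_true,
    Bool.not_eq_true', decide_eq_true_eq, decide_eq_false_iff_not, List.elem_eq_mem] at h6
  simp only [List.all_eq_true, Bool.or_eq_true, Bool.not_eq_true', beq_eq_false_iff_ne,
    List.mem_range, decide_eq_true_eq] at h8
  simp only [List.all_eq_true, Bool.and_eq_true, Nat.blt_eq] at h9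
  have hmem : ∀ r : Fin D.nroots, r ∈ lift D.nroots b0 ++ lift D.nroots p0 ↔ (r : ℕ) ∈ b0 ++ p0 := by
    intro r; rw [← lift_append]; exact mem_lift
  have hcomm : Comm R (lift D.nroots b0 ++ lift D.nroots p0) := by
    intro r hr s hs a b
    exact comm_of_ok R (p := p) r.2 s.2 X.rc (h3 r ((hmem r).1 hr) s ((hmem s).1 hs)) a b
  have hcc : ∀ i : Fin D.rank, cc X (lift D.nroots b0) (fun r => x0 r) i =
      (b0.map fun r => x0 r * D.cartan i r).sum := by
    intro i
    unfold cc
    have e := lift_map_val (n := D.nroots) (l := b0) (fun r hr => (h2 r (by simp [hr])).2)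
    have e2 : b0.map (fun r => x0 r * D.cartan i r) =
        (lift D.nroots b0).map (fun r : Fin D.nroots => x0 r * D.cartan i r) := by
      conv_lhs => rw [← e]
      rw [List.map_map]; rfl
    rw [e2]
    congr 1
    apply List.map_congr_left
    intro r _
    rw [pair_eq]
  refine ⟨?_, ?_, hcomm, ?_, ?_, ?_, ?_, ?_, ?_, ?_⟩
  · rw [← lift_append]
    apply List.Nodup.of_map Fin.val
    rw [lift_map_val (fun r hr => (h2 r hr).2)]
    exact h1
  · intro r hr
    exact (h2 r ((hmem r).1 hr)).1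
  · intro r hr s hs t u
    have h10 := (h4 r r.2).resolve_left (not_lt.2 hr) s ((hmem s).1 hs)
    refine conj_of_ok R (p := p) r.2 s.2 X.rc h10 ?_ ?_ t u
    · intro k hk hkp v
      exact Subgroup.subset_closure ⟨⟨k, hk⟩, mem_lift.2 hkp, v, rfl⟩
    · intro y hy v
      have h11 : Subgroup.closure {g | ∃ k ∈ lift D.nroots p0, ∃ v : F,
          g = xg R ((k : Fin D.nroots) : ℕ) v} ≤ Subgroup.centralizer {xg R (s : ℕ) v} := by
        rw [Subgroup.closure_le]
        rintro _ ⟨k, hk, v', rfl⟩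
        exact Subgroup.mem_centralizer_singleton_iff.2
          (hcomm k (List.mem_append_right _ hk) s hs v' v)
      exact Subgroup.mem_centralizer_singleton_iff.1 (h11 hy)
  · intro r hr
    exact h5 r (mem_lift.1 hr)
  · intro i
    rw [hcc]; exact (h6 i i.2).1
  · intro i hi
    rw [hcc] at hi
    exact (h6 i i.2).2.resolve_right (fun h => h hi)
  · intro r hr w hw hwr j
    have h10 := h8 r (mem_lift.1 hr) _ ((hmem _).1 hwr)
    rcases h10 with h10 | h10
    · exact absurd (inv_of h7 hw r) h10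
    · exact h10 j j.2
  · intro j hj r hr c d
    obtain ⟨g1, g2⟩ := h9 j hj
    obtain ⟨g3, g4⟩ := g2 r (mem_lift.1 hr)
    exact ⟨comm_of_ok R (p := p) (X.rc.simple_lt j j.2) r.2 X.rc g3 c d,
      comm_of_ok R (p := p) (neg_lt X.rc (X.rc.simple_lt j j.2)) r.2 X.rc g4 c d⟩
  · intro h hh hc
    refine htorus h hh fun r hr t => ?_
    have := hc ⟨r, (h2 r (by simp [hr])).2⟩ (mem_lift.2 hr) t
    exact this

end H47.RootCent
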