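import Cfsg.Agent.Lib.H47.RootCentT

/-!
The subgroup generated by the highest root subgroup and one of its conjugates.
-/

set_option autoImplicit false

namespace H47.RootPair

open H22.RGD H22.Coord H22.RCCheck H22.RCComb H22.ChevTri H22.ChevRel H22.ChevSys H22.ChevMain
open H22.ChevStd H22.ChevUni H47.RootCent
open Cfsg.Lie (ChevalleyDatum)
open scoped MatrixGroups Matrix

variable {D : ChevalleyDatum} {F : Type*} [Field F] (R : Rel D F) {X : RCX D} (Z : Lex X.rc)

theorem xg_pow (r : ℕ) (t : F) (n : ℕ) : xg R r t ^ n = xg R r (n * t) := by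
  induction n with
  | zero => simp [xg_zero]
  | succ n ih => rw [pow_succ, ih, xg_mul]; congr 1; push_cast; ring

/-- check -/
def ckPair (D : ChevalleyDatum) (p : ℕ) (T : ℕ → Bool) : Bool :=
  (List.range D.nroots).all fun s => !(T s) || Nat.beq s (D.nroots - 1) ||
    Nat.beq s (D.neg (D.nroots - 1)) || (D.commTerms (D.nroots - 1) s).all fun c =>
      okT D p [] c.1 s && okT D p [] (D.nroots - 1) c.1 &&
      (D.commTerms (D.nroots - 1) s).all fun c' => okT D p [] c.1 c'.1

theorem isPGroup_closure {p : ℕ} {G : Type*} [Group G] {S : Set G} (hc : ∀ a ∈ S, ∀ b ∈ S, Commute a b)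
    (hp : ∀ a ∈ S, a ^ p = 1) : IsPGroup p (Subgroup.closure S) := by
  have h0 : ∀ a ∈ S, ∀ z ∈ Subgroup.closure S, Commute z a := by
    intro a ha z hz
    have h1 : Subgroup.closure S ≤ Subgroup.centralizer {a} := by
      rw [Subgroup.closure_le]
      intro b hb
      exact Subgroup.mem_centralizer_singleton_iff.2 (hc b hb a ha)
    exact Subgroup.mem_centralizer_singleton_iff.1 (h1 hz)
  have h1 : ∀ y ∈ Subgroup.closure S, ∀ z ∈ Subgroup.closure S, Commute y z := by
    intro y hy z hz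
    have h1 : Subgroup.closure S ≤ Subgroup.centralizer {z} := by
      rw [Subgroup.closure_le]
      intro a ha
      exact Subgroup.mem_centralizer_singleton_iff.2 (h0 a ha z hz).symm
    exact Subgroup.mem_centralizer_singleton_iff.1 (h1 hy)
  have h2 : ∀ y ∈ Subgroup.closure S, y ^ p = 1 := by
    intro y hy
    induction hy using Subgroup.closure_induction with
    | mem a ha => exact hp a ha
    | one => exact one_pow _
    | mul a b ha hb iha ihb => rw [(h1 a ha b hb).mul_pow, iha, ihb, one_mul]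
    | inv a ha iha => rw [inv_pow, iha, inv_one]
  intro y
  refine ⟨1, Subtype.ext ?_⟩
  rw [pow_one]
  exact h2 y y.2

variable {p : ℕ} [CharP F p]

include R in
theorem isPGroup_root (r : ℕ) : IsPGroup p (D.rootSubgroup F r) := by
  intro y
  obtain ⟨t, ht⟩ := (mem_rootSubgroup R).1 y.2
  refine ⟨1, Subtype.ext ?_⟩
  rw [pow_one, Subgroup.coe_pow, ht, xg_pow, CharP.cast_eq_zero, zero_mul, xg_zero]
  rfl

include R in
theorem isPGroup_pair [Fact p.Prime] (Q : RC D) {T : ℕ → Bool} (h : ckPair D p T = true) {s : ℕ}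
    (hs : s < D.nroots) (hT : T s = true) (hne : s ≠ D.neg (D.nroots - 1)) :
    IsPGroup p (D.rootSubgroup F (D.nroots - 1) ⊔ D.rootSubgroup F s : Subgroup (GL D.Idx F)) := by
  have hr := H47.ChevLong.top_lt Q
  set r := D.nroots - 1 with hr0
  by_cases hsr : s = r
  · subst hsr
    rw [sup_idem]
    exact isPGroup_root R _
  unfold ckPair at h
  rw [List.all_eq_true] at h
  have h1 := h s (List.mem_range.2 hs)
  rw [hT] at h1
  simp only [Bool.not_true, Bool.false_or, Bool.or_eq_true] at h1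
  rcases h1 with (h1 | h1) | h1
  · exact absurd (Nat.eq_of_beq_eq_true h1) hsr
  · exact absurd (Nat.eq_of_beq_eq_true h1) hne
  simp only [List.all_eq_true, Bool.and_eq_true] at h1
  set ks := (D.commTerms r s).map fun c => c.1 with hks
  have hklt : ∀ k ∈ ks, k < D.nroots := by
    intro k hk
    simp only [hks, List.mem_map] at hk
    obtain ⟨c, hc, rfl⟩ := hk
    exact (commTerms_co Q hr hs hc).1
  set S : Set (GL D.Idx F) := {g | ∃ i, (i = s ∨ i ∈ ks) ∧ ∃ t : F, g = xg R i t} with hS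
  have hcomm : ∀ k ∈ ks, (∀ a b : F, Commute (xg R k a) (xg R s b)) ∧
      (∀ a b : F, Commute (xg R r a) (xg R k b)) ∧
      ∀ k' ∈ ks, ∀ a b : F, Commute (xg R k a) (xg R k' b) := by
    intro k hk
    have hk0 := hklt k hk
    simp only [hks, List.mem_map] at hk
    obtain ⟨c, hc, rfl⟩ := hk
    obtain ⟨⟨g1, g2⟩, g3⟩ := h1 c hc
    refine ⟨fun a b => comm_of_ok R (p := p) hk0 hs Q g1 a b,
      fun a b => comm_of_ok R (p := p) hr hk0 Q g2 a b, fun k' hk' a b => ?_⟩
    have hk0' := hklt k' hk'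
    simp only [hks, List.mem_map] at hk'
    obtain ⟨c', hc', rfl⟩ := hk'
    exact comm_of_ok R (p := p) hk0 hk0' Q (g3 c' hc') a b
  have hSc : ∀ a ∈ S, ∀ b ∈ S, Commute a b := by
    rintro _ ⟨i, hi, t, rfl⟩ _ ⟨j, hj, u, rfl⟩
    rcases hi with rfl | hi <;> rcases hj with rfl | hj
    · exact H47.ChevSub.xg_comm R _ _ _
    · exact ((hcomm j hj).1 _ _).symm
    · exact (hcomm i hi).1 _ _
    · exact (hcomm i hi).2.2 j hj _ _
  have hE : IsPGroup p (Subgroup.closure S) := by
    refine isPGroup_closure hSc ?_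
    rintro _ ⟨i, _, t, rfl⟩
    rw [xg_pow, CharP.cast_eq_zero, zero_mul, xg_zero]
  have hconj : ∀ t : F, ∀ a ∈ Subgroup.closure S, xg R r t * a * (xg R r t)⁻¹ ∈ Subgroup.closure S := by
    intro t a ha
    induction ha using Subgroup.closure_induction with
    | mem y hy =>
      obtain ⟨i, hi, u, rfl⟩ := hy
      rcases hi with rfl | hi
      · have h3 := comm_g R hr hs hsr hne (-t) u
        have h4 : xg R r t * xg R i u * (xg R r t)⁻¹ = xg R i u * wg R (D.commWord F r i (-t) u) := by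
          rw [xg_inv, mul_assoc, h3, ← xg_inv]
          simp [mul_assoc]
        rw [h4]
        refine Subgroup.mul_mem _ (Subgroup.subset_closure ⟨i, Or.inl rfl, u, rfl⟩)
          (wg_mem R _ fun q hq => ?_)
        unfold ChevalleyDatum.commWord at hq
        simp only [List.mem_map] at hq
        obtain ⟨c, hc, rfl⟩ := hq
        refine Subgroup.subset_closure ⟨c.1, Or.inr ?_, _, rfl⟩
        rw [hks, List.mem_map]
        exact ⟨c, hc, rfl⟩
      · rw [((hcomm i hi).2.1 t u).eq, mul_assoc, mul_inv_cancel, mul_one]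
        exact Subgroup.subset_closure ⟨i, Or.inr hi, u, rfl⟩
    | one => simp
    | mul y z _ _ hy hz =>
      have e : xg R r t * (y * z) * (xg R r t)⁻¹ = (xg R r t * y * (xg R r t)⁻¹) *
          (xg R r t * z * (xg R r t)⁻¹) := by simp [mul_assoc]
      rw [e]; exact Subgroup.mul_mem _ hy hz
    | inv y _ hy =>
      have e : xg R r t * y⁻¹ * (xg R r t)⁻¹ = (xg R r t * y * (xg R r t)⁻¹)⁻¹ := by simp [mul_assoc]
      rw [e]; exact Subgroup.inv_mem _ hy
  have hnorm : D.rootSubgroup F r ≤ Subgroup.normalizer (Subgroup.closure S : Set (GL D.Idx F)) := by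
    rw [← stabSub_eq_normalizer]
    apply le_stabSub_of_conj
    intro a ha y hy
    obtain ⟨t, rfl⟩ := (mem_rootSubgroup R).1 ha
    exact hconj t y hy
  refine (IsPGroup.to_sup_of_normal_right' (isPGroup_root R r) hE hnorm).to_le ?_
  refine sup_le_sup_left ?_ _
  intro y hy
  obtain ⟨t, rfl⟩ := (mem_rootSubgroup R).1 hy
  exact Subgroup.subset_closure ⟨s, Or.inl rfl, t, rfl⟩

include R Z in
theorem main [Fact p.Prime] {T : ℕ → Bool} (h : ckPair D p T = true) (hinv : ckInv D T = true)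
    (hT : T (D.nroots - 1) = true) {g : GL D.Idx F} (hg : g ∈ D.group F) :
    IsPGroup p ↥(D.rootSubgroup F (D.nroots - 1) ⊔
      (D.rootSubgroup F (D.nroots - 1)).map (MulAut.conj g).toMonoidHom) ∨
    ∃ h ∈ D.group F, (D.rootSubgroup F (D.nroots - 1) ⊔
      (D.rootSubgroup F (D.nroots - 1)).map (MulAut.conj g).toMonoidHom).map
        (MulAut.conj h).toMonoidHom = D.rootSubgroup F (D.nroots - 1) ⊔ D.rootSubgroup F 0 := by
  have hr := H47.ChevLong.top_lt X.rc
  set r := D.nroots - 1 with hr0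
  set S := chevSys R X with hS
  have hcj : ∀ (a : GL D.Idx F) (K : Subgroup (GL D.Idx F)), K.map (MulAut.conj a).toMonoidHom =
      cj a K := fun _ _ => rfl
  have hgΓ : g ∈ S.Γ := by rw [hS, chevSys_Γ]; exact hg
  obtain ⟨β, hβ, n, w, hn, u, hu, rfl⟩ := S.normal_form hgΓ
  obtain ⟨v, hv, t, ht, rfl⟩ := S.mem_B.1 hβ
  have huU := S.Um_le_U w hu
  have cU : ∀ y ∈ S.U, cj y (D.rootSubgroup F r) = D.rootSubgroup F r := by
    intro y hy
    have key : ∀ y ∈ S.U, cj y (D.rootSubgroup F r) ≤ D.rootSubgroup F r := by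
      rintro y hy _ ⟨a, ha, rfl⟩
      obtain ⟨c, rfl⟩ := (mem_rootSubgroup R).1 ha
      show y * xg R r c * y⁻¹ ∈ _
      rw [(H47.ChevLong.U_comm R Z hy c).eq, mul_assoc, mul_inv_cancel, mul_one]
      exact xg_mem R _ _
    apply le_antisymm (key y hy)
    have h2 := cj_mono (g := y) (key y⁻¹ (S.U.inv_mem hy))
    rwa [cj_cj_inv] at h2
  have e1 : cj (v * t * n * u) (D.rootSubgroup F r) =
      cj v (D.rootSubgroup F (w ⟨r, hr⟩ : Fin D.nroots)) := by
    rw [cj_mul, cU u huU, cj_mul, cj_mul]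
    have h1 : cj n (D.rootSubgroup F r) = D.rootSubgroup F (w ⟨r, hr⟩ : Fin D.nroots) :=
      hn.2.2 ⟨r, hr⟩
    rw [h1]
    congr 1
    exact S.cj_H (w ⟨r, hr⟩) ht
  have e2 : D.rootSubgroup F r ⊔ cj v (D.rootSubgroup F (w ⟨r, hr⟩ : Fin D.nroots)) =
      cj v (D.rootSubgroup F r ⊔ D.rootSubgroup F (w ⟨r, hr⟩ : Fin D.nroots)) := by
    rw [cj_sup, cU v hv]
  have e3 : D.rootSubgroup F r ⊔ (D.rootSubgroup F r).map
      (MulAut.conj (v * t * n * u)).toMonoidHom =
      cj v (D.rootSubgroup F r ⊔ D.rootSubgroup F (w ⟨r, hr⟩ : Fin D.nroots)) := by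
    rw [hcj, e1, e2]
  rw [e3]
  have hvG : v ∈ D.group F := by
    rw [← chevSys_Γ R X]; exact S.B_le_Γ (S.U_le_B hv)
  by_cases hw : (w ⟨r, hr⟩ : ℕ) = D.neg r
  · right
    refine ⟨v⁻¹, (D.group F).inv_mem hvG, ?_⟩
    rw [hcj, cj_inv_cj, hw, X.rc.neg_eq r hr]
    congr 2
    omega
  · left
    have h1 := isPGroup_pair (p := p) R X.rc h (w ⟨r, hr⟩).2
      (by rw [inv_of hinv hn.2.1]; exact hT) hw
    exact h1.map (MulAut.conj v).toMonoidHom

end H47.RootPair
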