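import Cfsg.Agent.Lib.H47.ChevSt
import Cfsg.Agent.Lib.H47.RootPair

/-!
Conjugation of words in root elements, characteristic two; conjugating into `U`.
-/

set_option autoImplicit false

namespace H47.CjRoot

open H22.RGD H22.Coord H22.RCCheck H22.RCComb H22.ChevTri H22.ChevRel H22.ChevSys H22.ChevMain
open H22.ChevStd H22.ChevUni H47.RootCent
open Cfsg.Lie (ChevalleyDatum)
open scoped MatrixGroups Matrix

variable {D : ChevalleyDatum} {F : Type*} [Field F] (R : Rel D F) {X : RCX D}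

/-- conjugacy under the Chevalley group -/
def Cj (D : ChevalleyDatum) {F : Type*} [Field F] (g g' : GL D.Idx F) : Prop :=
  ∃ h ∈ D.group F, h * g * h⁻¹ = g'

theorem Cj.refl (g : GL D.Idx F) : Cj D g g := ⟨1, (D.group F).one_mem, by simp⟩

theorem Cj.symm {g g' : GL D.Idx F} (h : Cj D g g') : Cj D g' g := by
  obtain ⟨x, hx, e⟩ := h
  exact ⟨x⁻¹, (D.group F).inv_mem hx, by rw [← e]; simp [mul_assoc]⟩

theorem Cj.trans {g g' g'' : GL D.Idx F} (h : Cj D g g') (h' : Cj D g' g'') : Cj D g g'' := by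
  obtain ⟨x, hx, e⟩ := h
  obtain ⟨y, hy, e'⟩ := h'
  exact ⟨y * x, (D.group F).mul_mem hy hx, by rw [← e', ← e]; simp [mul_assoc]⟩

theorem Cj.mem {g g' : GL D.Idx F} (h : Cj D g g') (hg : g ∈ D.group F) : g' ∈ D.group F := by
  obtain ⟨x, hx, e⟩ := h
  rw [← e]
  exact (D.group F).mul_mem ((D.group F).mul_mem hx hg) ((D.group F).inv_mem hx)

theorem cj_of_eq {g g' h : GL D.Idx F} (hh : h ∈ D.group F) (e : h * g = g' * h) : Cj D g g' :=
  ⟨h, hh, by rw [e]; simp⟩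

theorem wg_cons (p : ℕ × F) (w : List (ℕ × F)) : wg R (p :: w) = xg R p.1 p.2 * wg R w := by
  simp [wg]

theorem neg_one_eq [CharP F 2] : (-1 : F) = 1 := CharTwo.neg_eq 1

/-- `n_i` acts on words (characteristic two) -/
theorem ns_word [CharP F 2] (i : Fin D.rank) (w : List (ℕ × F)) (hw : ∀ p ∈ w, p.1 < D.nroots) :
    ns R i * wg R w * (ns R i)⁻¹ = wg R (w.map fun p => (D.reflectRoot i p.1, p.2)) := by
  obtain ⟨η, h1, h2⟩ := exists_sign R i
  have h3 : ∀ s < D.nroots, η s = 1 := by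
    intro s hs
    rcases (h1 s hs).1 with h | h
    · exact h
    · rw [h, neg_one_eq]
  induction w with
  | nil => simp [wg]
  | cons p w ih =>
    rw [wg_cons, List.map_cons, wg_cons, ← ih fun q hq => hw q (by simp [hq])]
    have hp := hw p (by simp)
    have h4 := h2 p.1 hp p.2
    rw [h3 _ hp, one_mul] at h4
    rw [← h4]
    simp [mul_assoc]

include R X in
theorem ns_mem (i : Fin D.rank) : ns R i ∈ D.group F := by
  rw [← chevSys_Γ R X]
  exact (chevSys R X).N_le_Γ ((chevSys R X).n_mem_N i)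

include X in
theorem cj_ns [CharP F 2] (i : Fin D.rank) (w : List (ℕ × F)) (hw : ∀ p ∈ w, p.1 < D.nroots) :
    Cj D (wg R w) (wg R (w.map fun p => (D.reflectRoot i p.1, p.2))) :=
  ⟨ns R i, ns_mem R (X := X) i, ns_word R i w hw⟩

/-- `h_i(d)` acts on words -/
theorem hs_word (Q : RC D) {i : ℕ} (hi : i < D.rank) {d : F} (hd : d ≠ 0) (w : List (ℕ × F))
    (hw : ∀ p ∈ w, p.1 < D.nroots) :
    hs R i d * wg R w * (hs R i d)⁻¹ = wg R (w.map fun p => (p.1, d ^ D.cartan i p.1 * p.2)) := by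
  induction w with
  | nil => simp [wg]
  | cons p w ih =>
    rw [wg_cons, List.map_cons, wg_cons, ← ih fun q hq => hw q (by simp [hq]),
      ← hs_conj R hi hd (hw p (by simp)) Q]
    simp [mul_assoc]

include R X in
theorem hs_mem_group {i : ℕ} (hi : i < D.rank) {d : F} (hd : d ≠ 0) : hs R i d ∈ D.group F := by
  rw [← chevSys_Γ R X]
  apply (chevSys R X).B_le_Γ
  apply (chevSys R X).H_le_B
  rw [chevSys_H, diagonalSubgroup_eq R X]
  exact hs_mem R hi hd

include X in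
theorem cj_hs {i : ℕ} (hi : i < D.rank) {d : F} (hd : d ≠ 0) (w : List (ℕ × F))
    (hw : ∀ p ∈ w, p.1 < D.nroots) :
    Cj D (wg R w) (wg R (w.map fun p => (p.1, d ^ D.cartan i p.1 * p.2))) :=
  ⟨hs R i d, hs_mem_group R (X := X) hi hd, hs_word R X.rc hi hd w hw⟩

/-- conjugation by a root element -/
theorem cj_xg {r : ℕ} (hr : r < D.nroots) (t : F) {g g' : GL D.Idx F}
    (e : xg R r t * g = g' * xg R r t) : Cj D g g' :=
  cj_of_eq (xg_mem_group R hr t) e

include R X in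
/-- a `p`-element is conjugate into `U` -/
theorem cj_U [Fintype F] (p : ℕ) [Fact p.Prime] [CharP F p] {g : GL D.Idx F} (hg : g ∈ D.group F)
    {k : ℕ} (hk : g ^ p ^ k = 1) : ∃ g' ∈ D.posUnipotent F, Cj D g g' := by
  obtain ⟨P, hP⟩ := H47.ChevSt.s2326 R X (F := F) p
  have h1 : IsPGroup p (Subgroup.zpowers (⟨g, hg⟩ : D.group F)) := by
    rintro ⟨y, hy⟩
    obtain ⟨m, rfl⟩ := Subgroup.mem_zpowers_iff.1 hy
    refine ⟨k, Subtype.ext ?_⟩
    rw [Subgroup.coe_pow, Subgroup.coe_one]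
    show ((⟨g, hg⟩ : D.group F) ^ m) ^ p ^ k = 1
    have h2 : (⟨g, hg⟩ : D.group F) ^ p ^ k = 1 := Subtype.ext hk
    rw [← zpow_natCast, ← zpow_mul, mul_comm, zpow_mul, zpow_natCast, h2, one_zpow]
  obtain ⟨Q, hQ⟩ := h1.exists_le_sylow
  obtain ⟨x, hx⟩ := MulAction.exists_smul_eq (D.group F) Q P
  have h3 : (⟨g, hg⟩ : D.group F) ∈ (Q : Subgroup (D.group F)) := hQ (Subgroup.mem_zpowers _)
  have h4 : x * ⟨g, hg⟩ * x⁻¹ ∈ (P : Subgroup (D.group F)) := by
    rw [← hx, Sylow.coe_subgroup_smul]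
    exact ⟨⟨g, hg⟩, h3, rfl⟩
  rw [hP, Subgroup.mem_subgroupOf] at h4
  exact ⟨_, h4, x, x.2, rfl⟩

end H47.CjRoot
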