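import Cfsg.Agent.Lib.H47.RootCentCk

/-!
Torus lemmas and the final form of the centraliser theorem.
-/

set_option autoImplicit false

namespace H47.RootCent

open H22.RGD H22.Coord H22.RCCheck H22.RCComb H22.ChevTri H22.ChevRel H22.ChevSys H22.ChevMain
open H22.ChevStd H22.ChevUni
open Cfsg.Lie (ChevalleyDatum)
open scoped MatrixGroups Matrix

variable {D : ChevalleyDatum} {F : Type*} [Field F] (R : Rel D F) {X : RCX D} (Z : Lex X.rc)

/-- part of the torus -/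
def HP (P : ℕ → Prop) : Subgroup (GL D.Idx F) :=
  Subgroup.closure {g : GL D.Idx F | ∃ j < D.rank, P j ∧ ∃ c : F, c ≠ 0 ∧ g = hs R j c}

theorem HP_le (P : ℕ → Prop) : HP R P ≤ Hs R := by
  unfold HP
  rw [Subgroup.closure_le]
  rintro _ ⟨j, hj, _, c, hc, rfl⟩
  exact hs_mem R hj hc

theorem Hs_eq_HP : Hs R = HP R (fun _ => True) := by
  apply le_antisymm
  · unfold Hs
    rw [Subgroup.closure_le]
    rintro _ ⟨j, hj, c, hc, rfl⟩
    exact Subgroup.subset_closure ⟨j, hj, trivial, c, hc, rfl⟩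
  · exact HP_le R _

theorem Hs_comm (Q : RC D) : ∀ a ∈ Hs R, ∀ b ∈ Hs R, a * b = b * a := by
  intro a ha b hb
  obtain ⟨χ, _, _, e1⟩ := H47.ChevSub.exists_char R Q ha
  obtain ⟨ψ, _, _, e2⟩ := H47.ChevSub.exists_char R Q hb
  apply Units.ext
  rw [Units.val_mul, Units.val_mul, e1, e2, Matrix.diagonal_mul_diagonal,
    Matrix.diagonal_mul_diagonal]
  congr 1; funext z; rw [mul_comm]

theorem split (Q : RC D) {P : ℕ → Prop} {m : ℕ} (hm : m < D.rank) {h : GL D.Idx F}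
    (hh : h ∈ HP R P) : ∃ h' ∈ HP R (fun j => P j ∧ j ≠ m), ∃ c : F, c ≠ 0 ∧ h = h' * hs R m c := by
  set HJ := HP R (fun j => P j ∧ j ≠ m) with hHJ
  have hle : HJ ≤ Hs R := HP_le R _
  have hcomm := Hs_comm R Q
  unfold HP at hh
  induction hh using Subgroup.closure_induction with
  | mem x hx =>
    obtain ⟨j, hj, hPj, c, hc, rfl⟩ := hx
    by_cases hjm : j = m
    · subst hjm
      exact ⟨1, HJ.one_mem, c, hc, by simp⟩
    · exact ⟨_, Subgroup.subset_closure ⟨j, hj, ⟨hPj, hjm⟩, c, hc, rfl⟩, 1, one_ne_zero, by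
        rw [hs_one R hm, mul_one]⟩
  | one => exact ⟨1, HJ.one_mem, 1, one_ne_zero, by rw [hs_one R hm, mul_one]⟩
  | mul x y _ _ hx hy =>
    obtain ⟨a, ha, c, hc, rfl⟩ := hx
    obtain ⟨b, hb, d, hd, rfl⟩ := hy
    refine ⟨a * b, HJ.mul_mem ha hb, c * d, mul_ne_zero hc hd, ?_⟩
    rw [← hs_mul R hm hc hd]
    have := hcomm _ (hs_mem R hm hc) _ (hle hb)
    calc a * hs R m c * (b * hs R m d) = a * (hs R m c * b) * hs R m d := by simp only [mul_assoc]
      _ = _ := by rw [this]; simp only [mul_assoc]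
  | inv x _ hx =>
    obtain ⟨a, ha, c, hc, rfl⟩ := hx
    refine ⟨a⁻¹, HJ.inv_mem ha, c⁻¹, inv_ne_zero hc, ?_⟩
    rw [mul_inv_rev, hs_inv R hm hc]
    exact hcomm _ (hs_mem R hm (inv_ne_zero hc)) _ (hle (HJ.inv_mem ha))

theorem HP_comm (Q : RC D) {P : ℕ → Prop} {r : ℕ} (hr : r < D.nroots)
    (h0 : ∀ j < D.rank, P j → D.cartan j r = 0) {h : GL D.Idx F} (hh : h ∈ HP R P) (t : F) :
    Commute h (xg R r t) := by
  have : HP R P ≤ Subgroup.centralizer {xg R r t} := by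
    unfold HP
    rw [Subgroup.closure_le]
    rintro _ ⟨j, hj, hPj, c, hc, rfl⟩
    have h1 := hs_conj R hj hc hr Q t
    rw [h0 j hj hPj, zpow_zero, one_mul, mul_inv_eq_iff_eq_mul] at h1
    exact Subgroup.mem_centralizer_singleton_iff.2 h1
  exact Subgroup.mem_centralizer_singleton_iff.1 (this hh)

theorem HP_le_MJ {P : ℕ → Prop} {J0 : List ℕ} (h : ∀ j < D.rank, P j → j ∈ J0) :
    HP R P ≤ MJ R (fun j : Fin D.rank => (j : ℕ) ∈ J0) := by
  unfold HP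
  rw [Subgroup.closure_le]
  rintro _ ⟨j, hj, hPj, c, hc, rfl⟩
  exact hs_mem_MJ R (J := fun j : Fin D.rank => (j : ℕ) ∈ J0) (j := ⟨j, hj⟩) (h j hj hPj) c

theorem torus1 (Q : RC D) {J0 : List ℕ} {m r : ℕ} (hm : m < D.rank) (hr : r < D.nroots)
    (h1 : D.cartan m r = 1) (h0 : ∀ j < D.rank, j ≠ m → D.cartan j r = 0)
    (hJ : ∀ j < D.rank, j ≠ m → j ∈ J0) : ∀ h ∈ Hs R, (∀ t : F, Commute h (xg R r t)) →
    h ∈ MJ R (fun j : Fin D.rank => (j : ℕ) ∈ J0) := by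
  intro h hh hc
  rw [Hs_eq_HP] at hh
  obtain ⟨h', hh', c, hc0, rfl⟩ := split R Q hm hh
  have h2 := HP_comm R Q hr (fun j hj hP => h0 j hj hP.2) hh' 1
  have h3 : Commute (hs R m c) (xg R r 1) := by
    have : hs R m c = h'⁻¹ * (h' * hs R m c) := by simp
    rw [this]; exact h2.inv_left.mul_left (hc 1)
  have h4 := hs_conj R hm hc0 hr Q 1
  rw [h1, zpow_one, mul_one, h3.eq, mul_assoc, mul_inv_cancel, mul_one] at h4
  rw [← xg_inj R Q hr h4, hs_one R hm, mul_one]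
  exact HP_le_MJ R (fun j hj hP => hJ j hj hP.2) hh'

theorem torus2 (Q : RC D) {J0 : List ℕ} {m1 m2 r1 r2 : ℕ} (hm1 : m1 < D.rank) (hm2 : m2 < D.rank)
    (hr1 : r1 < D.nroots) (hr2 : r2 < D.nroots)
    (h0 : ∀ j < D.rank, j ≠ m1 → j ≠ m2 → D.cartan j r1 = 0 ∧ D.cartan j r2 = 0)
    (hJ : ∀ j < D.rank, j ≠ m1 → j ≠ m2 → j ∈ J0)
    (hu : ∀ x y : F, x ≠ 0 → y ≠ 0 → x ^ D.cartan m1 r1 * y ^ D.cartan m2 r1 = 1 →
      x ^ D.cartan m1 r2 * y ^ D.cartan m2 r2 = 1 → x = 1 ∧ y = 1) :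
    ∀ h ∈ Hs R, (∀ t : F, Commute h (xg R r1 t)) → (∀ t : F, Commute h (xg R r2 t)) →
    h ∈ MJ R (fun j : Fin D.rank => (j : ℕ) ∈ J0) := by
  intro h hh hc1 hc2
  rw [Hs_eq_HP] at hh
  obtain ⟨h', hh', c, hc0, rfl⟩ := split R Q hm1 hh
  obtain ⟨h'', hh'', d, hd0, rfl⟩ := split R Q hm2 hh'
  have key : ∀ r < D.nroots, (∀ j < D.rank, j ≠ m1 → j ≠ m2 → D.cartan j r = 0) →
      (∀ t : F, Commute (h'' * hs R m2 d * hs R m1 c) (xg R r t)) →
      c ^ D.cartan m1 r * d ^ D.cartan m2 r = 1 := by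
    intro r hr h0 hc
    have h2 := HP_comm R Q hr (fun j hj hP => h0 j hj hP.1.2 hP.2) hh'' 1
    have h3 : Commute (hs R m2 d * hs R m1 c) (xg R r 1) := by
      have : hs R m2 d * hs R m1 c = h''⁻¹ * (h'' * hs R m2 d * hs R m1 c) := by simp [mul_assoc]
      rw [this]; exact h2.inv_left.mul_left (hc 1)
    have h4 : (hs R m2 d * hs R m1 c) * xg R r 1 * (hs R m2 d * hs R m1 c)⁻¹ =
        xg R r (d ^ D.cartan m2 r * (c ^ D.cartan m1 r * 1)) := by
      rw [← hs_conj R hm2 hd0 hr Q, ← hs_conj R hm1 hc0 hr Q]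
      simp [mul_assoc]
    rw [h3.eq, mul_assoc, mul_inv_cancel, mul_one, mul_one, mul_comm] at h4
    exact (xg_inj R Q hr h4).symm
  have e1 := key r1 hr1 (fun j hj h1 h2 => (h0 j hj h1 h2).1) hc1
  have e2 := key r2 hr2 (fun j hj h1 h2 => (h0 j hj h1 h2).2) hc2
  obtain ⟨rfl, rfl⟩ := hu c d hc0 hd0 e1 e2
  rw [hs_one R hm1, hs_one R hm2, mul_one, mul_one]
  exact HP_le_MJ R (fun j hj hP => hJ j hj hP.1.2 hP.2) hh''

variable {R} {b p1 : List (Fin D.nroots)} {x : Fin D.nroots → ℤ} {J : Fin D.rank → Prop}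

theorem MJ_le_group (Q : RC D) : MJ R J ≤ D.group F := by
  unfold MJ
  rw [Subgroup.closure_le]
  rintro _ ⟨j, _, c, rfl | rfl⟩
  · exact xg_mem_group R (Q.simple_lt j j.2) c
  · exact xg_mem_group R (neg_lt Q (Q.simple_lt j j.2)) c

include Z in
/-- when `A₁` is trivial the centraliser is `U M` -/
theorem Hyp.cent_eq (E : Hyp R X b [] x J) :
    D.group F ⊓ Subgroup.centralizer {LP R b (fun _ => (1 : F))} = D.posUnipotent F ⊔ MJ R J := by
  apply le_antisymm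
  · rintro g ⟨hg, hc⟩
    obtain ⟨v, hv, _, m, hm, rfl⟩ := E.cent Z hg (Subgroup.mem_centralizer_singleton_iff.1 hc)
    rw [chevSys_U] at hv
    exact Subgroup.mul_mem _ (Subgroup.mem_sup_left hv) (Subgroup.mem_sup_right hm)
  · refine sup_le ?_ ?_
    · intro u hu
      rw [← chevSys_U R X] at hu
      refine ⟨?_, ?_⟩
      · rw [← chevSys_Γ R X]
        exact (chevSys R X).B_le_Γ ((chevSys R X).U_le_B hu)
      · refine Subgroup.mem_centralizer_singleton_iff.2 ?_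
        have h1 := E.conj_U hu (LP R b (fun _ => (1 : F)))
          (LP_mem R fun s hs => Subgroup.subset_closure ⟨s, by simp [hs], 1, rfl⟩)
        have h2 : Hyp.A1 R ([] : List (Fin D.nroots)) = ⊥ := by
          rw [eq_bot_iff, Subgroup.closure_le]
          rintro _ ⟨k, hk, _⟩
          simp at hk
        rw [h2, Subgroup.mem_bot, mul_inv_eq_one, mul_inv_eq_iff_eq_mul] at h1
        exact h1
    · intro m hm
      exact ⟨MJ_le_group X.rc hm, Subgroup.mem_centralizer_singleton_iff.2 (E.MJ_comm hm)⟩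

include X in
theorem MJ_le_of {K : Subgroup (GL D.Idx F)} {J0 : List ℕ} (hU : D.posUnipotent F ≤ K)
    (hJ : ∀ j ∈ J0, j < D.rank → ∀ c : F, xg R (D.neg (D.simple j)) c ∈ K) :
    D.posUnipotent F ⊔ MJ R (fun j : Fin D.rank => (j : ℕ) ∈ J0) ≤ K := by
  refine sup_le hU ?_
  unfold MJ
  rw [Subgroup.closure_le]
  rintro _ ⟨j, hj, c, rfl | rfl⟩
  · apply hU
    rw [← chevSys_U R X]
    exact (chevSys R X).X_le_U ((comb X).simple_pos j) (xg_mem R _ c)
  · exact hJ j hj j.2 c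

theorem rootSubgroup_le_MJ {J0 : List ℕ} {j r : ℕ} (hj : j < D.rank) (hJ : j ∈ J0)
    (hr : D.neg (D.simple j) = r) :
    D.rootSubgroup F r ≤ MJ R (fun j : Fin D.rank => (j : ℕ) ∈ J0) := by
  intro y hy
  rw [mem_rootSubgroup R] at hy
  obtain ⟨t, rfl⟩ := hy
  rw [← hr]
  exact neg_mem_MJ R (J := fun j : Fin D.rank => (j : ℕ) ∈ J0) (j := ⟨j, hj⟩) hJ t

end H47.RootCent

namespace H47.RootCent

open H22.RCCheck H22.RCComb H22.ChevRel
open Cfsg.Lie (ChevalleyDatum)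
open scoped MatrixGroups Matrix

variable {D : ChevalleyDatum} {F : Type*} [Field F] (R : Rel D F)

theorem LP_lift {l : List ℕ} (h : ∀ r ∈ l, r < D.nroots) :
    LP R (lift D.nroots l) (fun _ => (1 : F)) = (l.map fun r => xg R r 1).prod := by
  unfold LP
  conv_rhs => rw [← lift_map_val h]
  rw [List.map_map]; rfl

end H47.RootCent
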