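import Cfsg.Agent.Lib.H47.AltHom
import Mathlib.GroupTheory.SpecificGroups.Alternating.Simple
import Mathlib.LinearAlgebra.Matrix.GeneralLinearGroup.Card
import Mathlib.Algebra.Field.ZMod

/-! The isomorphism between the alternating group of degree 8 and `GL₄(2)`. -/

set_option autoImplicit false
set_option linter.unusedVariables false

namespace H47.A8GL4

open H47.AltHom

/-- seven alternating matrices -/
def A : Fin 7 → Matrix (Fin 4) (Fin 4) (ZMod 2) :=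
  ![!![0, 0, 0, 1; 0, 0, 1, 0; 0, 1, 0, 0; 1, 0, 0, 0], !![0, 0, 1, 0; 0, 0, 1, 1; 1, 1, 0, 0; 0, 1, 0, 0], !![0, 0, 0, 1; 0, 0, 1, 0; 0, 1, 0, 1; 1, 0, 1, 0], !![0, 1, 0, 0; 1, 0, 0, 0; 0, 0, 0, 1; 0, 0, 1, 0], !![0, 0, 0, 1; 0, 0, 1, 1; 0, 1, 0, 1; 1, 1, 1, 0], !![0, 0, 1, 0; 0, 0, 0, 1; 1, 0, 0, 0; 0, 1, 0, 0], !![0, 0, 0, 1; 0, 0, 1, 1; 0, 1, 0, 0; 1, 1, 0, 0]]

/-- their inverses -/
def B : Fin 7 → Matrix (Fin 4) (Fin 4) (ZMod 2) :=
  ![!![0, 0, 0, 1; 0, 0, 1, 0; 0, 1, 0, 0; 1, 0, 0, 0], !![0, 0, 1, 1; 0, 0, 0, 1; 1, 0, 0, 0; 1, 1, 0, 0], !![0, 1, 0, 1; 1, 0, 1, 0; 0, 1, 0, 0; 1, 0, 0, 0], !![0, 1, 0, 0; 1, 0, 0, 0; 0, 0, 0, 1; 0, 0, 1, 0], !![0, 1, 1, 1; 1, 0, 1, 0; 1, 1, 0, 0; 1, 0, 0, 0], !![0, 0, 1, 0; 0, 0, 0, 1; 1, 0, 0, 0; 0, 1, 0, 0], !![0, 0, 1, 1; 0, 0, 1, 0; 1, 1, 0, 0; 1, 0, 0, 0]]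

theorem A_mul_B : ∀ i, A i * B i = 1 := by decide +kernel

theorem B_mul_A : ∀ i, B i * A i = 1 := by decide +kernel

/-- as units -/
def a (i : Fin 7) : GL (Fin 4) (ZMod 2) := ⟨A i, B i, A_mul_B i, B_mul_A i⟩

theorem rel2 : ∀ i j : Fin 7, i.val + 1 < j.val → (A i * B j) * (A i * B j) = 1 := by decide +kernel

theorem rel3 : ∀ i j : Fin 7, i.val + 1 = j.val → (A i * B j) * (A i * B j) * (A i * B j) = 1 := by decide +kernel

theorem ne01 : A 0 * B 1 ≠ 1 := by decide +kernel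

theorem exists_hom8 : ∃ φ : alternatingGroup (Fin 8) →* GL (Fin 4) (ZMod 2), Function.Injective φ := by
  obtain ⟨φ, hφ⟩ := exists_alt_hom (n := 7) a (by
    intro i j hij
    apply Units.ext
    rw [pow_two]
    exact rel2 i j hij) (by
    intro i j hij
    apply Units.ext
    rw [pow_succ, pow_two]
    exact rel3 i j hij)
  refine ⟨φ, ?_⟩
  have hsimple : IsSimpleGroup (alternatingGroup (Fin 8)) := alternatingGroup.isSimpleGroup (by simp)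
  rw [← MonoidHom.ker_eq_bot_iff]
  rcases hsimple.eq_bot_or_eq_top_of_normal φ.ker inferInstance with h | h
  · exact h
  · exfalso
    have hm : Equiv.swap (0 : Fin 7).castSucc (0 : Fin 7).succ * Equiv.swap (1 : Fin 7).castSucc (1 : Fin 7).succ ∈ alternatingGroup (Fin 8) := by
      rw [Equiv.Perm.mem_alternatingGroup, map_mul, Equiv.Perm.sign_swap (by decide), Equiv.Perm.sign_swap (by decide)]
      decide
    have h1 := hφ 0 1 hm
    have h2 : (⟨_, hm⟩ : alternatingGroup (Fin 8)) ∈ φ.ker := by rw [h]; trivial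
    rw [MonoidHom.mem_ker] at h2
    rw [h2] at h1
    have h3 := congrArg (fun x : GL (Fin 4) (ZMod 2) => (x : Matrix (Fin 4) (Fin 4) (ZMod 2))) h1
    exact ne01 h3.symm

theorem card_GL4 : Nat.card (GL (Fin 4) (ZMod 2)) = 20160 := by
  rw [Matrix.card_GL_field, ZMod.card]
  rfl

theorem card_A8 : Nat.card (alternatingGroup (Fin 8)) = 20160 := by
  rw [nat_card_alternatingGroup, Nat.card_fin]
  rfl

theorem exists_equiv : Nonempty (alternatingGroup (Fin 8) ≃* GL (Fin 4) (ZMod 2)) := by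
  obtain ⟨φ, hφ⟩ := exists_hom8
  have hb : Function.Bijective φ := (Nat.bijective_iff_injective_and_card φ).mpr ⟨hφ, by rw [card_A8, card_GL4]⟩
  exact ⟨MulEquiv.ofBijective φ hb⟩

end H47.A8GL4
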