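import Cfsg.Agent.Lib.H47.WEnum

/-!
Eigenvectors modulo a prime of integral matrices of finite order and cyclotomic factors of the
characteristic polynomial.
-/

set_option autoImplicit false
set_option linter.unusedVariables false
set_option linter.unusedSectionVars false

namespace H47.CycW

open H22.RGD H22.Coord H47.Alcove H47.HomoCert Polynomial

section lin

variable {l : ℕ} (f : (Fin l → ℤ) →ₗ[ℤ] (Fin l → ℤ))

/-- polynomials on eigenvectors modulo `m` -/
theorem aeval_eig {m q : ℤ} {x : Fin l → ℤ} (hx : ∀ j, m ∣ f x j - q * x j) (P : ℤ[X]) (j : Fin l) :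
    m ∣ (aeval f P x) j - P.eval q * x j := by
  have hlin : ∀ y : Fin l → ℤ, (∀ j, m ∣ y j) → ∀ j, m ∣ f y j := by
    intro y hy j
    choose z hz using hy
    have : y = m • z := by funext j; rw [Pi.smul_apply, smul_eq_mul]; exact hz j
    rw [this, map_smul, Pi.smul_apply, smul_eq_mul]
    exact Dvd.intro _ rfl
  have hpow : ∀ (k : ℕ) (j : Fin l), m ∣ ((f ^ k) x) j - q ^ k * x j := by
    intro k
    induction k with
    | zero => intro j; simp
    | succ k ih =>
      intro j
      have h1 := hlin (fun j => ((f ^ k) x) j - q ^ k * x j) ih j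
      have e1 : f (fun j => ((f ^ k) x) j - q ^ k * x j) = f ((f ^ k) x) - q ^ k • f x := by
        rw [← map_smul, ← map_sub]
        congr 1
      rw [e1, Pi.sub_apply, Pi.smul_apply, smul_eq_mul] at h1
      have h2 := (hx j).mul_left (q ^ k)
      have h3 := dvd_add h1 h2
      have e2 : (f ^ (k + 1)) x = f ((f ^ k) x) := by rw [pow_succ']; rfl
      rw [e2]
      have e3 : f ((f ^ k) x) j - q ^ k * f x j + q ^ k * (f x j - q * x j) =
          f ((f ^ k) x) j - q ^ (k + 1) * x j := by ring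
      rwa [e3] at h3
  induction P using Polynomial.induction_on' with
  | add P Q hP hQ =>
    rw [map_add, LinearMap.add_apply, Pi.add_apply, eval_add]
    have := dvd_add hP hQ
    have e : (aeval f P x) j - eval q P * x j + ((aeval f Q x) j - eval q Q * x j) =
        (aeval f P x) j + (aeval f Q x) j - (eval q P + eval q Q) * x j := by ring
    rwa [e] at this
  | monomial n a =>
    rw [aeval_monomial, eval_monomial, Module.End.mul_apply, Module.algebraMap_end_apply,
      Pi.smul_apply, smul_eq_mul]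
    have := (hpow n j).mul_left a
    have e : a * (((f ^ n) x) j - q ^ n * x j) = a * ((f ^ n) x) j - a * q ^ n * x j := by ring
    rwa [e] at this

/-- **Cyclotomic factors from eigenvectors modulo a prime.** -/
theorem cyc_dvd {N : ℕ} (hN : 0 < N) (hf : f ^ N = 1) {s : ℕ} [hs : Fact s.Prime] (hsN : ¬ s ∣ N)
    {q : ℤ} {x : Fin l → ℤ} (hx : ∀ j, (s : ℤ) ∣ f x j - q * x j) (hx0 : ¬ ∀ j, (s : ℤ) ∣ x j) :
    cyclotomic (orderOf (q : ZMod s)) ℤ ∣ f.charpoly := by
  have hsp : Prime (s : ℤ) := Nat.prime_iff_prime_int.1 hs.out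
  push Not at hx0
  obtain ⟨j0, hj0⟩ := hx0
  have hcast : ∀ P : ℤ[X], ((P.eval q : ℤ) : ZMod s) = (P.map (Int.castRingHom (ZMod s))).eval (q : ZMod s) := by
    intro P
    rw [eval_map]
    exact (eval₂_at_apply (Int.castRingHom (ZMod s)) q).symm
  -- the order
  have h1 : (s : ℤ) ∣ q ^ N - 1 := by
    have h2 := aeval_eig f hx (X ^ N) j0
    rw [map_pow, aeval_X, hf, Module.End.one_apply, eval_pow, eval_X] at h2
    have h3 : x j0 - q ^ N * x j0 = -((q ^ N - 1) * x j0) := by ring
    rw [h3, dvd_neg] at h2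
    exact (hsp.dvd_or_dvd h2).resolve_right hj0
  have hqN : (q : ZMod s) ^ N = 1 := by
    have := (ZMod.intCast_zmod_eq_zero_iff_dvd (q ^ N - 1) s).2 h1
    push_cast at this
    exact sub_eq_zero.1 this
  set d := orderOf (q : ZMod s) with hd
  have hdN : d ∣ N := orderOf_dvd_of_pow_eq_one hqN
  have hd0 : 0 < d := Nat.pos_of_dvd_of_pos hdN hN
  have hsd : ¬ s ∣ d := fun h => hsN (h.trans hdN)
  have : NeZero ((d : ℕ) : ZMod s) := ⟨by rw [Ne, ZMod.natCast_eq_zero_iff]; exact hsd⟩
  have hroot : (cyclotomic d (ZMod s)).IsRoot (q : ZMod s) := by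
    rw [isRoot_cyclotomic_iff]
    exact IsPrimitiveRoot.orderOf _
  obtain ⟨G, hG⟩ : cyclotomic d ℤ ∣ X ^ N - 1 := by
    rw [← prod_cyclotomic_eq_X_pow_sub_one hN]
    exact Finset.dvd_prod_of_mem _ (Nat.mem_divisors.2 ⟨hdN, hN.ne'⟩)
  -- the cofactor does not vanish
  have hGq : ¬ (s : ℤ) ∣ G.eval q := by
    intro h
    have h2 : (G.map (Int.castRingHom (ZMod s))).eval (q : ZMod s) = 0 := by
      rw [← hcast, ZMod.intCast_zmod_eq_zero_iff_dvd]; exact h
    have h3 := congrArg (Polynomial.map (Int.castRingHom (ZMod s))) hG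
    rw [Polynomial.map_mul, map_cyclotomic, Polynomial.map_sub, Polynomial.map_pow, map_X,
      Polynomial.map_one] at h3
    have h4 := congrArg (fun P => (derivative P).eval (q : ZMod s)) h3
    simp only [derivative_sub, derivative_X_pow, derivative_one, sub_zero, derivative_mul, eval_add,
      eval_mul, eval_pow, eval_X, h2, hroot.eq_zero, mul_zero, zero_mul, add_zero, eval_C] at h4
    rcases mul_eq_zero.1 h4 with h5 | h5
    · rw [ZMod.natCast_eq_zero_iff] at h5; exact hsN h5
    · have h6 : (q : ZMod s) = 0 := eq_zero_of_pow_eq_zero h5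
      rw [h6, zero_pow hN.ne'] at hqN
      exact zero_ne_one hqN
  by_contra hnd
  -- coprimality over the rationals
  have hmon : (cyclotomic d ℤ).Monic := cyclotomic.monic d ℤ
  have hnd' : ¬ cyclotomic d ℚ ∣ f.charpoly.map (Int.castRingHom ℚ) := by
    rw [← map_cyclotomic_int d ℚ]
    intro h
    exact hnd ((Polynomial.map_dvd_map (Int.castRingHom ℚ) Int.cast_injective hmon).1 h)
  obtain ⟨a, b, hab⟩ := ((cyclotomic.irreducible_rat hd0).coprime_iff_not_dvd).2 hnd'
  -- matrices
  set M : Matrix (Fin l) (Fin l) ℤ := LinearMap.toMatrix' f with hM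
  set φ : Matrix (Fin l) (Fin l) ℤ →+* Matrix (Fin l) (Fin l) ℚ := (Int.castRingHom ℚ).mapMatrix with hφ
  have hφa : ∀ P : ℤ[X], φ (aeval M P) = aeval (φ M) (P.map (Int.castRingHom ℚ)) := by
    intro P
    have e1 := Polynomial.aeval_algHom_apply φ.toIntAlgHom M P
    have e2 : aeval (φ M) (P.map (algebraMap ℤ ℚ)) = aeval (φ M) P := aeval_map_algebraMap ℚ (φ M) P
    have e3 : algebraMap ℤ ℚ = Int.castRingHom ℚ := rfl
    rw [e3] at e2
    rw [e2]
    exact e1.symm
  have hfM : ∀ P : ℤ[X], LinearMap.toMatrix' (aeval f P) = aeval M P := by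
    intro P
    have := Polynomial.aeval_algHom_apply (LinearMap.toMatrixAlgEquiv' (R := ℤ) (n := Fin l)).toAlgHom f P
    exact this.symm
  have hCH : aeval M f.charpoly = 0 := by
    rw [← hfM, LinearMap.aeval_self_charpoly, map_zero]
  have hMN : aeval M (X ^ N - 1 : ℤ[X]) = 0 := by
    rw [← hfM, map_sub, map_pow, aeval_X, hf, map_one, sub_self, map_zero]
  have h5 : φ (aeval M G) = 0 := by
    have h6 := congrArg (fun P => aeval (φ M) P) hab
    simp only [map_add, map_mul, map_one] at h6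
    rw [← hφa, hCH, map_zero, mul_zero, add_zero, ← map_cyclotomic_int d ℚ, ← hφa] at h6
    have h7 : φ (aeval M (cyclotomic d ℤ)) * φ (aeval M G) = 0 := by
      rw [← map_mul, ← map_mul, ← hG, hMN, map_zero]
    calc φ (aeval M G) = (aeval (φ M)) a * φ ((aeval M) (cyclotomic d ℤ)) * φ (aeval M G) := by
          rw [h6, one_mul]
      _ = 0 := by rw [mul_assoc, h7, mul_zero]
  have h6 : aeval M G = 0 := by
    ext i j
    have := congrFun (congrFun h5 i) j
    simp only [hφ, RingHom.mapMatrix_apply, Matrix.map_apply, Matrix.zero_apply, eq_intCast] at this ⊢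
    exact_mod_cast this
  have h7 : aeval f G = 0 := by
    apply LinearMap.toMatrix'.injective
    rw [hfM, h6, map_zero]
  have h8 := aeval_eig f hx G j0
  rw [h7, LinearMap.zero_apply, Pi.zero_apply, zero_sub, dvd_neg] at h8
  rcases hsp.dvd_or_dvd h8 with h9 | h9
  · exact hGq h9
  · exact hj0 h9

/-- two cyclotomic factors -/
theorem two_cyc {k k' : ℕ} (hk : k ≠ k') {P : ℤ[X]} (h1 : cyclotomic k ℤ ∣ P) (h2 : cyclotomic k' ℤ ∣ P) :
    cyclotomic k ℤ * cyclotomic k' ℤ ∣ P := by
  rw [← Polynomial.map_dvd_map (Int.castRingHom ℚ) Int.cast_injective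
    ((cyclotomic.monic k ℤ).mul (cyclotomic.monic k' ℤ)), Polynomial.map_mul, map_cyclotomic_int,
    map_cyclotomic_int]
  refine IsCoprime.mul_dvd (cyclotomic.isCoprime_rat hk) ?_ ?_
  · rw [← map_cyclotomic_int k ℚ]; exact Polynomial.map_dvd _ h1
  · rw [← map_cyclotomic_int k' ℚ]; exact Polynomial.map_dvd _ h2

theorem charpoly_natDegree : f.charpoly.natDegree = l := by
  rw [LinearMap.charpoly_natDegree]; simp

theorem charpoly_eq {P : ℤ[X]} (hP : P.Monic) (hd : P.natDegree = l) (h : P ∣ f.charpoly) : f.charpoly = P :=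
  eq_of_monic_of_dvd_of_natDegree_le hP f.charpoly_monic h (by rw [charpoly_natDegree, hd])

end lin

/-! ### determinants in the Weyl group -/

section W

variable {Φ : Type*} {l : ℕ} {C : RootComb Φ (Fin l)} (K : CoordSys C)

theorem tau_mul {v w : Equiv.Perm Φ} (hv : v ∈ C.W) : tau K (v * w) = tau K w * tau K v := by
  apply LinearMap.ext
  intro x
  exact act_mul K x hv

theorem tau_one : tau K 1 = 1 := by
  apply LinearMap.ext
  intro x
  exact act_one K x

theorem tau_pow {w : Equiv.Perm Φ} (hw : w ∈ C.W) (n : ℕ) : tau K (w ^ n) = tau K w ^ n := by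
  induction n with
  | zero => rw [pow_zero, pow_zero, tau_one]
  | succ n ih => rw [pow_succ, tau_mul K (C.W.pow_mem hw n), ih, pow_succ']

theorem det_refl (i : Fin l) : LinearMap.det (tau K (C.refl i)) = -1 := by
  have h1 : tau K (C.refl i) = Matrix.toLin' (1 + Matrix.replicateCol Unit (-K.A i) *
      Matrix.replicateRow Unit (Pi.single i (1 : ℤ))) := by
    apply LinearMap.ext
    intro x
    rw [Matrix.toLin'_apply, Matrix.add_mulVec, Matrix.one_mulVec, ← Matrix.mulVec_mulVec]
    have e : act K x (C.refl i) = x - x i • K.A i := act_refl K x i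
    show act K x (C.refl i) = _
    rw [e]
    funext j
    simp only [Pi.add_apply, Pi.sub_apply, Pi.smul_apply, smul_eq_mul, Matrix.mulVec, dotProduct,
      Matrix.replicateCol_apply, Matrix.replicateRow_apply, Finset.univ_unique, Finset.sum_singleton,
      Pi.neg_apply, Pi.single_apply, ite_mul, one_mul, zero_mul, Finset.sum_ite_eq', Finset.mem_univ,
      if_true]
    ring
  rw [h1, LinearMap.det_toLin', Matrix.det_one_add_replicateCol_mul_replicateRow]
  have h2 := K.pair_self i
  simp [dotProduct, Pi.single_apply, h2]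

theorem det_isRefl {b : Φ} {g : Equiv.Perm Φ} (hg : IsRefl C b g) : LinearMap.det (tau K g) = -1 := by
  obtain ⟨L, i, _, rfl⟩ := hg
  have hL := C.w_mem L
  have hi : C.refl i ∈ C.W := Subgroup.subset_closure ⟨i, rfl⟩
  rw [tau_mul K (C.W.mul_mem hL hi), tau_mul K hL, map_mul, map_mul, det_refl]
  have h1 : LinearMap.det (tau K (C.w L)⁻¹) * LinearMap.det (tau K (C.w L)) = 1 := by
    rw [← map_mul, ← tau_mul K hL, mul_inv_cancel, tau_one, map_one]
  linear_combination -h1

/-- the determinant from the characteristic polynomial -/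
theorem det_of_charpoly {f : (Fin l → ℤ) →ₗ[ℤ] (Fin l → ℤ)} (hl : Even l) {k : ℕ} (hk : 1 < k)
    (h : f.charpoly = cyclotomic k ℤ) : LinearMap.det f = 1 := by
  rw [LinearMap.det_eq_sign_charpoly_coeff, h, cyclotomic_coeff_zero ℤ hk]
  have : Module.finrank ℤ (Fin l → ℤ) = l := by simp
  rw [this, hl.neg_one_pow, one_mul]

/-- in rank equal to the degree, a functional with eigenvalue of order `k` does not vanish on a root -/
theorem not_dvd_root [Finite Φ] (hl : Even l) {s : ℕ} [hs : Fact s.Prime] (hsW : ¬ s ∣ Nat.card C.W)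
    (hconj : ∀ b, ∃ l i, C.w l (C.simple i) = b)
    {q : ℤ} (hk : 1 < orderOf (q : ZMod s)) (hdeg : (cyclotomic (orderOf (q : ZMod s)) ℤ).natDegree = l)
    {x : Fin l → ℤ} (hx0 : ¬ ∀ j, (s : ℤ) ∣ x j) {w : Equiv.Perm Φ} (hw : w ∈ C.W)
    (hx : ∀ a, (s : ℤ) ∣ ev K x (w a) - q * ev K x a) (b : Φ) : ¬ (s : ℤ) ∣ ev K x b := by
  intro hb
  obtain ⟨L, i, hLi⟩ := hconj b
  obtain ⟨g, hg⟩ : ∃ g, IsRefl C b g := ⟨_, L, i, hLi, rfl⟩
  obtain ⟨y, hy, hform⟩ := refl_form K hg
  have key : ∀ v ∈ C.W, (∀ a, (s : ℤ) ∣ ev K x (v a) - q * ev K x a) → LinearMap.det (tau K v) = 1 := by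
    intro v hv hv'
    have hN : orderOf (⟨v, hv⟩ : C.W) ∣ Nat.card C.W := orderOf_dvd_natCard _
    have : Finite C.W := Subtype.finite
    have hN0 : 0 < orderOf (⟨v, hv⟩ : C.W) := orderOf_pos _
    have hpow : v ^ orderOf (⟨v, hv⟩ : C.W) = 1 := by
      have := congrArg Subtype.val (pow_orderOf_eq_one (⟨v, hv⟩ : C.W))
      simpa using this
    have h1 := cyc_dvd (tau K v) hN0 (by rw [← tau_pow K hv, hpow, tau_one])
      (fun h => hsW (h.trans hN)) (q := q) (x := x) (fun j => hv' (C.simple j) |> fun h => by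
        rw [ev_simple] at h; exact h) hx0
    exact det_of_charpoly hl hk (charpoly_eq _ (cyclotomic.monic _ _) hdeg h1)
  have h1 := key w hw hx
  have h2 := key (g * w) (C.W.mul_mem hg.mem hw) (by
    intro a
    have h3 : ∀ a, (s : ℤ) ∣ ev K x (g a) - ev K x a := by
      intro a
      rw [← ev_act K x hg.mem, hform x, ev_sub, ev_smul]
      have : ev K x a - ev K x b * ev K y a - ev K x a = -(ev K x b * ev K y a) := by ring
      rw [this, dvd_neg]
      exact hb.mul_right _
    have h4 := dvd_add (h3 (w a)) (hx a)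
    rwa [sub_add_sub_cancel] at h4)
  rw [tau_mul K hg.mem, map_mul, det_isRefl K hg, h1] at h2
  norm_num at h2

end W

end H47.CycW
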