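import Cfsg.Agent.Lib.H47.MixEx
import Cfsg.Agent.Lib.H47.CycW

/-!
Existence of elements of given order from certificates.
-/

set_option autoImplicit false
set_option linter.unusedVariables false
set_option linter.unusedSectionVars false

namespace H47.CertEx

open H22.RGD H22.Coord H22.RCCheck H22.RCComb H22.ChevTri H22.ChevRel H22.ChevSys H22.ChevMain
open H22.ChevStd H22.ChevSolv H22.ChevUni H47.ChevSub H47.Alcove H47.LangCent H47.TorAll H47.SemiTor
open H47.FixPt H22.ChevTorus H47.HomoTor H47.JorTor H47.UniFlag H22.LangChev H47.HomoCert H47.WEnum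
open H22.Poincare H47.MixEx
open Cfsg.Lie (ChevalleyDatum)

section

variable {Φ : Type*} {l : ℕ} {C : RootComb Φ (Fin l)} (K : CoordSys C) {rows : List (List ℤ)}

theorem exists' (hr : RowsOk K rows) (c : Ct) (hc : c.ok rows l = true) {q m : ℤ}
    (hm : m ∣ hz c.P q) : ∃ L' : List (Fin l), L'.map Fin.val = c.L ∧
      ∃ x lam : Fin c.b.length → Fin l → ℤ,
      (∀ i s, m ∣ ev K (x i) (C.w L' s) - q * ev K (x i) s) ∧
      ∀ i k, ∑ j, lam i j * x k j = if i = k then 1 else 0 := by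
  unfold Ct.ok at hc
  simp only [Bool.and_eq_true, List.all_eq_true, List.mem_range, beq_iff_eq] at hc
  obtain ⟨⟨⟨⟨⟨⟨h1, h2⟩, h3⟩, h4⟩, h5⟩, h6⟩, h7⟩ := hc
  have hL : ∀ i ∈ c.L, i < l := fun i hi => by simpa using h1 i hi
  have hb : ∀ x ∈ c.b, x.length = l := fun x hx => Nat.eq_of_beq_eq_true (h2 x hx)
  have hlam : ∀ x ∈ c.lam, x.length = l := fun x hx => Nat.eq_of_beq_eq_true (h3 x hx)
  have hll : c.lam.length = c.b.length := Nat.eq_of_beq_eq_true h4
  have hPl : 0 < c.P.length := by simpa using h5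
  set L' : List (Fin l) := List.pmap Fin.mk c.L hL with hL'
  have hmap : L'.map Fin.val = c.L := by
    rw [hL', List.map_pmap]; simp
  have hbk : ∀ k : Fin c.b.length, c.b.getD k.val [] ∈ c.b := by
    intro k; rw [List.getD_eq_getElem _ _ k.2]; exact List.getElem_mem _
  have hlk : ∀ k : Fin c.b.length, c.lam.getD k.val [] ∈ c.lam := by
    intro k
    rw [List.getD_eq_getElem _ _ (by rw [hll]; exact k.2)]; exact List.getElem_mem _
  have hdeg := (poly_spec c.P).2
  obtain ⟨x, hx1, hx2⟩ := exists_eigen K (w := C.w L') (C.w_mem L') (ι := Fin c.b.length)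
    (poly_spec c.P).1 (by rw [hdeg]; exact hPl)
    (fun k => toF l (c.b.getD k.val [])) (fun k => toF l (c.lam.getD k.val []))
    (fun k => by
      rw [← (hor_spec K hr L' c.P (hb _ (hbk k))).2, hmap, h6 _ (hbk k)]
      funext j
      simp [toF])
    (q := q) (m := m) (δ := 1) (by rw [eval_poly]; exact hm)
    (fun i k j hj => by
      rw [hdeg] at hj ⊢
      have e1 := dts_spec K hr L' (hlam _ (hlk i)) c.P.length (hb _ (hbk k)) j hj
      rw [← e1, hmap, h7 i.val i.2 k.val k.2]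
      by_cases hik : i = k
      · subst hik
        rw [if_pos rfl]
        by_cases hjl : j = c.P.length - 1
        · rw [if_pos ⟨rfl, hjl⟩, List.getD_append_right _ _ _ _ (by simp [hjl])]
          simp [hjl]
        · rw [if_neg (fun h => hjl h.2), List.getD_append _ _ _ _ (by simp; omega)]
          simp
      · rw [if_neg (fun h => hik (Fin.ext h)), if_neg (fun h => hik h.1)]
        simp)
  exact ⟨L', hmap, x, _, hx1, hx2⟩

/-- fixed simple roots -/
theorem fix_simple (hr : RowsOk K rows) (L : List (Fin l)) (i : Fin l)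
    (h : mc (st rows l (L.map Fin.val)) (ue l i.val) = ue l i.val) : C.w L (C.simple i) = C.simple i := by
  have h1 := mc_spec K (C.w_mem L) (st_rep K hr L) (repC_simple K i)
  rw [h] at h1
  have h2 := repC_simple K i
  apply K.co_inj
  funext j
  rw [← h1.2, h2.2]

end

section main

variable {D : ChevalleyDatum} {F : Type*} [Field F] [Fintype F] {K : Type*} [Field K] [IsAlgClosed K]
  [Algebra F K] (p : ℕ) [Fact p.Prime] [CharP K p] (RF : Rel D F) (R : Rel D K) {X : RCX D}

include RF R in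
theorem cert_semi (Z : Lex X.rc) {rows : List (List ℤ)} (hrows : RowsOk (coord X) rows) {n : ℕ}
    (hq : Fintype.card F = p ^ n) {m : ℕ} (hm : 0 < m) (hmp : ¬ p ∣ m) (hdt : Nat.Coprime (dt X) m)
    (ct : Ct) (hct : ct.ok rows D.rank = true) (hlen : 0 < ct.b.length)
    (hdvd : (m : ℤ) ∣ hz ct.P (p ^ n : ℕ)) : ∃ g : ↥(D.group F), orderOf g = m := by
  obtain ⟨L', _, x, lam, hx1, hx2⟩ := exists' (coord X) hrows ct hct hdvd
  refine exists_semi p RF R Z hq hm hmp hdt ((comb X).w_mem L') (x ⟨0, hlen⟩) (lam ⟨0, hlen⟩) (δ := 1)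
    (hx1 _) ?_ isCoprime_one_left
  rw [hx2, if_pos rfl]

include RF R in
theorem cert_mixed (Z : Lex X.rc) {rows : List (List ℤ)} (hrows : RowsOk (coord X) rows) {n : ℕ}
    (hq : Fintype.card F = p ^ n) {m : ℕ} (hm : 0 < m) (hmp : ¬ p ∣ m)
    (hdt : Nat.Coprime (dt X) (m * p))
    (ct : Ct) (hct : ct.ok rows D.rank = true) (hlen : 0 < ct.b.length) (i : Fin D.rank)
    (hfix : mc (st rows D.rank ct.L) (ue D.rank i.val) = ue D.rank i.val)
    (hdvd : (m : ℤ) ∣ hz ct.P (p ^ n : ℕ)) (hq1 : IsCoprime ((p ^ n : ℕ) - 1 : ℤ) m) :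
    ∃ g : ↥(D.group F), orderOf g = m * p := by
  obtain ⟨L', hL', x, lam, hx1, hx2⟩ := exists' (coord X) hrows ct hct hdvd
  have hwb : (comb X).w L' ((comb X).simple i) = (comb X).simple i :=
    fix_simple (coord X) hrows L' i (by rw [hL']; exact hfix)
  refine exists_mixed p RF R Z hq hm hmp hdt ((comb X).w_mem L') ((comb X).simple i) hwb (x ⟨0, hlen⟩)
    (lam ⟨0, hlen⟩) (δ := 1) ?_ (hx1 _) ?_ isCoprime_one_left
  · have h1 := hx1 ⟨0, hlen⟩ ((comb X).simple i)
    rw [hwb] at h1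
    have h2 : ev (coord X) (x ⟨0, hlen⟩) ((comb X).simple i) -
        ((p ^ n : ℕ) : ℤ) * ev (coord X) (x ⟨0, hlen⟩) ((comb X).simple i) =
        -(((p ^ n : ℕ) - 1 : ℤ) * ev (coord X) (x ⟨0, hlen⟩) ((comb X).simple i)) := by ring
    rw [h2, dvd_neg] at h1
    exact hq1.symm.dvd_of_dvd_mul_left h1
  · rw [hx2, if_pos rfl]

/-- the determinant of the Cartan matrix -/
theorem dt_eq_one {N : Matrix (Fin D.rank) (Fin D.rank) ℤ}
    (hN : N * (Matrix.of fun i j => (coord X).A i j) = ((1 : ℕ) : ℤ) • (1 : Matrix _ _ ℤ)) : dt X = 1 := by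
  have h := dt_dvd hN
  rwa [one_pow, Nat.dvd_one] at h

end main

end H47.CertEx
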