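import Cfsg.Agent.Lib.H47.HomoCert

/-!
Data for the homocyclic Sylow subgroups of Chevalley groups: polynomials.
-/

set_option autoImplicit false
set_option linter.unusedVariables false
set_option maxHeartbeats 1000000
set_option maxRecDepth 10000

namespace H47.HomoData

open H47.HomoCert H47.HomoTor

theorem pq1 (q : ℤ) : hz [-1] q * hz [] q = q ^ 1 - 1 := by
  simp only [hz]; ring

theorem qr1 (q : ℤ) : hz [] q * hz [] q = (([] : List ℕ).map fun i => q ^ i - 1).prod := by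
  simp only [hz, List.map_cons, List.map_nil, List.prod_cons, List.prod_nil]; ring

theorem dv1 {r q : ℕ} [hr : Fact r.Prime] (hrq : ¬ r ∣ q) (hq : 2 ≤ q) (hd : orderOf (q : ZMod r) = 1) :
    ((r ^ ee r q : ℕ) : ℤ) ∣ hz [-1] q :=
  dvd_hz hrq hq (S := []) (by rw [hd]; decide) (by rw [hd]; exact pq1 q) (qr1 q)

theorem pq2 (q : ℤ) : hz [1] q * hz [-1] q = q ^ 2 - 1 := by
  simp only [hz]; ring

theorem qr2 (q : ℤ) : hz [-1] q * hz [] q = (([1] : List ℕ).map fun i => q ^ i - 1).prod := by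
  simp only [hz, List.map_cons, List.map_nil, List.prod_cons, List.prod_nil]; ring

theorem dv2 {r q : ℕ} [hr : Fact r.Prime] (hrq : ¬ r ∣ q) (hq : 2 ≤ q) (hd : orderOf (q : ZMod r) = 2) :
    ((r ^ ee r q : ℕ) : ℤ) ∣ hz [1] q :=
  dvd_hz hrq hq (S := [1]) (by rw [hd]; decide) (by rw [hd]; exact pq2 q) (qr2 q)

theorem pq3 (q : ℤ) : hz [1, 1] q * hz [-1] q = q ^ 3 - 1 := by
  simp only [hz]; ring

theorem qr3 (q : ℤ) : hz [-1] q * hz [] q = (([1] : List ℕ).map fun i => q ^ i - 1).prod := by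
  simp only [hz, List.map_cons, List.map_nil, List.prod_cons, List.prod_nil]; ring

theorem dv3 {r q : ℕ} [hr : Fact r.Prime] (hrq : ¬ r ∣ q) (hq : 2 ≤ q) (hd : orderOf (q : ZMod r) = 3) :
    ((r ^ ee r q : ℕ) : ℤ) ∣ hz [1, 1] q :=
  dvd_hz hrq hq (S := [1]) (by rw [hd]; decide) (by rw [hd]; exact pq3 q) (qr3 q)

theorem pq4 (q : ℤ) : hz [1, 0] q * hz [-1, 0] q = q ^ 4 - 1 := by
  simp only [hz]; ring

theorem qr4 (q : ℤ) : hz [-1, 0] q * hz [] q = (([2] : List ℕ).map fun i => q ^ i - 1).prod := by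
  simp only [hz, List.map_cons, List.map_nil, List.prod_cons, List.prod_nil]; ring

theorem dv4 {r q : ℕ} [hr : Fact r.Prime] (hrq : ¬ r ∣ q) (hq : 2 ≤ q) (hd : orderOf (q : ZMod r) = 4) :
    ((r ^ ee r q : ℕ) : ℤ) ∣ hz [1, 0] q :=
  dvd_hz hrq hq (S := [2]) (by rw [hd]; decide) (by rw [hd]; exact pq4 q) (qr4 q)

theorem pq5 (q : ℤ) : hz [1, 1, 1, 1] q * hz [-1] q = q ^ 5 - 1 := by
  simp only [hz]; ring

theorem qr5 (q : ℤ) : hz [-1] q * hz [] q = (([1] : List ℕ).map fun i => q ^ i - 1).prod := by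
  simp only [hz, List.map_cons, List.map_nil, List.prod_cons, List.prod_nil]; ring

theorem dv5 {r q : ℕ} [hr : Fact r.Prime] (hrq : ¬ r ∣ q) (hq : 2 ≤ q) (hd : orderOf (q : ZMod r) = 5) :
    ((r ^ ee r q : ℕ) : ℤ) ∣ hz [1, 1, 1, 1] q :=
  dvd_hz hrq hq (S := [1]) (by rw [hd]; decide) (by rw [hd]; exact pq5 q) (qr5 q)

theorem pq6 (q : ℤ) : hz [1, -1] q * hz [-1, -1, 0, 1] q = q ^ 6 - 1 := by
  simp only [hz]; ring

theorem qr6 (q : ℤ) : hz [-1, -1, 0, 1] q * hz [-1] q = (([3, 2] : List ℕ).map fun i => q ^ i - 1).prod := by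
  simp only [hz, List.map_cons, List.map_nil, List.prod_cons, List.prod_nil]; ring

theorem dv6 {r q : ℕ} [hr : Fact r.Prime] (hrq : ¬ r ∣ q) (hq : 2 ≤ q) (hd : orderOf (q : ZMod r) = 6) :
    ((r ^ ee r q : ℕ) : ℤ) ∣ hz [1, -1] q :=
  dvd_hz hrq hq (S := [3, 2]) (by rw [hd]; decide) (by rw [hd]; exact pq6 q) (qr6 q)

theorem pq7 (q : ℤ) : hz [1, 1, 1, 1, 1, 1] q * hz [-1] q = q ^ 7 - 1 := by
  simp only [hz]; ring

theorem qr7 (q : ℤ) : hz [-1] q * hz [] q = (([1] : List ℕ).map fun i => q ^ i - 1).prod := by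
  simp only [hz, List.map_cons, List.map_nil, List.prod_cons, List.prod_nil]; ring

theorem dv7 {r q : ℕ} [hr : Fact r.Prime] (hrq : ¬ r ∣ q) (hq : 2 ≤ q) (hd : orderOf (q : ZMod r) = 7) :
    ((r ^ ee r q : ℕ) : ℤ) ∣ hz [1, 1, 1, 1, 1, 1] q :=
  dvd_hz hrq hq (S := [1]) (by rw [hd]; decide) (by rw [hd]; exact pq7 q) (qr7 q)

theorem pq8 (q : ℤ) : hz [1, 0, 0, 0] q * hz [-1, 0, 0, 0] q = q ^ 8 - 1 := by
  simp only [hz]; ring

theorem qr8 (q : ℤ) : hz [-1, 0, 0, 0] q * hz [] q = (([4] : List ℕ).map fun i => q ^ i - 1).prod := by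
  simp only [hz, List.map_cons, List.map_nil, List.prod_cons, List.prod_nil]; ring

theorem dv8 {r q : ℕ} [hr : Fact r.Prime] (hrq : ¬ r ∣ q) (hq : 2 ≤ q) (hd : orderOf (q : ZMod r) = 8) :
    ((r ^ ee r q : ℕ) : ℤ) ∣ hz [1, 0, 0, 0] q :=
  dvd_hz hrq hq (S := [4]) (by rw [hd]; decide) (by rw [hd]; exact pq8 q) (qr8 q)

theorem pq9 (q : ℤ) : hz [1, 0, 0, 1, 0, 0] q * hz [-1, 0, 0] q = q ^ 9 - 1 := by
  simp only [hz]; ring

theorem qr9 (q : ℤ) : hz [-1, 0, 0] q * hz [] q = (([3] : List ℕ).map fun i => q ^ i - 1).prod := by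
  simp only [hz, List.map_cons, List.map_nil, List.prod_cons, List.prod_nil]; ring

theorem dv9 {r q : ℕ} [hr : Fact r.Prime] (hrq : ¬ r ∣ q) (hq : 2 ≤ q) (hd : orderOf (q : ZMod r) = 9) :
    ((r ^ ee r q : ℕ) : ℤ) ∣ hz [1, 0, 0, 1, 0, 0] q :=
  dvd_hz hrq hq (S := [3]) (by rw [hd]; decide) (by rw [hd]; exact pq9 q) (qr9 q)

theorem pq10 (q : ℤ) : hz [1, -1, 1, -1] q * hz [-1, -1, 0, 0, 0, 1] q = q ^ 10 - 1 := by
  simp only [hz]; ring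

theorem qr10 (q : ℤ) : hz [-1, -1, 0, 0, 0, 1] q * hz [-1] q = (([5, 2] : List ℕ).map fun i => q ^ i - 1).prod := by
  simp only [hz, List.map_cons, List.map_nil, List.prod_cons, List.prod_nil]; ring

theorem dv10 {r q : ℕ} [hr : Fact r.Prime] (hrq : ¬ r ∣ q) (hq : 2 ≤ q) (hd : orderOf (q : ZMod r) = 10) :
    ((r ^ ee r q : ℕ) : ℤ) ∣ hz [1, -1, 1, -1] q :=
  dvd_hz hrq hq (S := [5, 2]) (by rw [hd]; decide) (by rw [hd]; exact pq10 q) (qr10 q)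

theorem pq12 (q : ℤ) : hz [1, 0, -1, 0] q * hz [-1, 0, -1, 0, 0, 0, 1, 0] q = q ^ 12 - 1 := by
  simp only [hz]; ring

theorem qr12 (q : ℤ) : hz [-1, 0, -1, 0, 0, 0, 1, 0] q * hz [-1, 0] q = (([6, 4] : List ℕ).map fun i => q ^ i - 1).prod := by
  simp only [hz, List.map_cons, List.map_nil, List.prod_cons, List.prod_nil]; ring

theorem dv12 {r q : ℕ} [hr : Fact r.Prime] (hrq : ¬ r ∣ q) (hq : 2 ≤ q) (hd : orderOf (q : ZMod r) = 12) :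
    ((r ^ ee r q : ℕ) : ℤ) ∣ hz [1, 0, -1, 0] q :=
  dvd_hz hrq hq (S := [6, 4]) (by rw [hd]; decide) (by rw [hd]; exact pq12 q) (qr12 q)

theorem pq14 (q : ℤ) : hz [1, -1, 1, -1, 1, -1] q * hz [-1, -1, 0, 0, 0, 0, 0, 1] q = q ^ 14 - 1 := by
  simp only [hz]; ring

theorem qr14 (q : ℤ) : hz [-1, -1, 0, 0, 0, 0, 0, 1] q * hz [-1] q = (([7, 2] : List ℕ).map fun i => q ^ i - 1).prod := by
  simp only [hz, List.map_cons, List.map_nil, List.prod_cons, List.prod_nil]; ring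

theorem dv14 {r q : ℕ} [hr : Fact r.Prime] (hrq : ¬ r ∣ q) (hq : 2 ≤ q) (hd : orderOf (q : ZMod r) = 14) :
    ((r ^ ee r q : ℕ) : ℤ) ∣ hz [1, -1, 1, -1, 1, -1] q :=
  dvd_hz hrq hq (S := [7, 2]) (by rw [hd]; decide) (by rw [hd]; exact pq14 q) (qr14 q)

theorem pq15 (q : ℤ) : hz [1, -1, 0, 1, -1, 1, 0, -1] q * hz [-1, -1, -1, 0, 0, 1, 1] q = q ^ 15 - 1 := by
  simp only [hz]; ring

theorem qr15 (q : ℤ) : hz [-1, -1, -1, 0, 0, 1, 1] q * hz [-1] q = (([5, 3] : List ℕ).map fun i => q ^ i - 1).prod := by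
  simp only [hz, List.map_cons, List.map_nil, List.prod_cons, List.prod_nil]; ring

theorem dv15 {r q : ℕ} [hr : Fact r.Prime] (hrq : ¬ r ∣ q) (hq : 2 ≤ q) (hd : orderOf (q : ZMod r) = 15) :
    ((r ^ ee r q : ℕ) : ℤ) ∣ hz [1, -1, 0, 1, -1, 1, 0, -1] q :=
  dvd_hz hrq hq (S := [5, 3]) (by rw [hd]; decide) (by rw [hd]; exact pq15 q) (qr15 q)

theorem pq18 (q : ℤ) : hz [1, 0, 0, -1, 0, 0] q * hz [-1, 0, 0, -1, 0, 0, 0, 0, 0, 1, 0, 0] q = q ^ 18 - 1 := by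
  simp only [hz]; ring

theorem qr18 (q : ℤ) : hz [-1, 0, 0, -1, 0, 0, 0, 0, 0, 1, 0, 0] q * hz [-1, 0, 0] q = (([9, 6] : List ℕ).map fun i => q ^ i - 1).prod := by
  simp only [hz, List.map_cons, List.map_nil, List.prod_cons, List.prod_nil]; ring

theorem dv18 {r q : ℕ} [hr : Fact r.Prime] (hrq : ¬ r ∣ q) (hq : 2 ≤ q) (hd : orderOf (q : ZMod r) = 18) :
    ((r ^ ee r q : ℕ) : ℤ) ∣ hz [1, 0, 0, -1, 0, 0] q :=
  dvd_hz hrq hq (S := [9, 6]) (by rw [hd]; decide) (by rw [hd]; exact pq18 q) (qr18 q)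

theorem pq20 (q : ℤ) : hz [1, 0, -1, 0, 1, 0, -1, 0] q * hz [-1, 0, -1, 0, 0, 0, 0, 0, 0, 0, 1, 0] q = q ^ 20 - 1 := by
  simp only [hz]; ring

theorem qr20 (q : ℤ) : hz [-1, 0, -1, 0, 0, 0, 0, 0, 0, 0, 1, 0] q * hz [-1, 0] q = (([10, 4] : List ℕ).map fun i => q ^ i - 1).prod := by
  simp only [hz, List.map_cons, List.map_nil, List.prod_cons, List.prod_nil]; ring

theorem dv20 {r q : ℕ} [hr : Fact r.Prime] (hrq : ¬ r ∣ q) (hq : 2 ≤ q) (hd : orderOf (q : ZMod r) = 20) :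
    ((r ^ ee r q : ℕ) : ℤ) ∣ hz [1, 0, -1, 0, 1, 0, -1, 0] q :=
  dvd_hz hrq hq (S := [10, 4]) (by rw [hd]; decide) (by rw [hd]; exact pq20 q) (qr20 q)

theorem pq24 (q : ℤ) : hz [1, 0, 0, 0, -1, 0, 0, 0] q * hz [-1, 0, 0, 0, -1, 0, 0, 0, 0, 0, 0, 0, 1, 0, 0, 0] q = q ^ 24 - 1 := by
  simp only [hz]; ring

theorem qr24 (q : ℤ) : hz [-1, 0, 0, 0, -1, 0, 0, 0, 0, 0, 0, 0, 1, 0, 0, 0] q * hz [-1, 0, 0, 0] q = (([12, 8] : List ℕ).map fun i => q ^ i - 1).prod := by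
  simp only [hz, List.map_cons, List.map_nil, List.prod_cons, List.prod_nil]; ring

theorem dv24 {r q : ℕ} [hr : Fact r.Prime] (hrq : ¬ r ∣ q) (hq : 2 ≤ q) (hd : orderOf (q : ZMod r) = 24) :
    ((r ^ ee r q : ℕ) : ℤ) ∣ hz [1, 0, 0, 0, -1, 0, 0, 0] q :=
  dvd_hz hrq hq (S := [12, 8]) (by rw [hd]; decide) (by rw [hd]; exact pq24 q) (qr24 q)

theorem pq30 (q : ℤ) : hz [1, 1, 0, -1, -1, -1, 0, 1] q * hz [-1, 1, -1, 0, 0, -1, 1, -1, 0, 0, 0, 0, 0, 0, 0, 1, -1, 1, 0, 0, 1, -1] q = q ^ 30 - 1 := by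
  simp only [hz]; ring

theorem qr30 (q : ℤ) : hz [-1, 1, -1, 0, 0, -1, 1, -1, 0, 0, 0, 0, 0, 0, 0, 1, -1, 1, 0, 0, 1, -1] q * hz [1, 1, 0, -1, -1, -1, -1, 0, 1] q = (([15, 10, 6] : List ℕ).map fun i => q ^ i - 1).prod := by
  simp only [hz, List.map_cons, List.map_nil, List.prod_cons, List.prod_nil]; ring

theorem dv30 {r q : ℕ} [hr : Fact r.Prime] (hrq : ¬ r ∣ q) (hq : 2 ≤ q) (hd : orderOf (q : ZMod r) = 30) :
    ((r ^ ee r q : ℕ) : ℤ) ∣ hz [1, 1, 0, -1, -1, -1, 0, 1] q :=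
  dvd_hz hrq hq (S := [15, 10, 6]) (by rw [hd]; decide) (by rw [hd]; exact pq30 q) (qr30 q)

end H47.HomoData
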