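import Cfsg.Agent.Lib.H89.MX0

/-! S5316, piece FA. -/

set_option autoImplicit false

namespace H47.MXFA

open Subgroup Cfsg Cfsg.FusionSystem H67.HallPetrescu H57.Mc H89.MX H86.FusBasic H86.FusSat

variable {Ω : Type*} [Group Ω] {S : Subgroup Ω}

lemma mem_K {i : ℕ} {x : Ω} : x ∈ K S i ↔ ∃ hx : x ∈ S, (⟨x, hx⟩ : S) ∈ lcsF ↥S i := by
  unfold K
  constructor
  · rintro ⟨y, hy, rfl⟩
    exact ⟨y.2, hy⟩
  · rintro ⟨hx, h⟩
    exact ⟨⟨x, hx⟩, h, rfl⟩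

lemma K_le (i : ℕ) : K S i ≤ S := fun _ hx => (mem_K.1 hx).1

lemma K_mono {i j : ℕ} (h : i ≤ j) : K S j ≤ K S i := Subgroup.map_mono (K_anti h)

lemma K_norm (i : ℕ) : ∀ g ∈ S, ∀ v ∈ K S i, g * v * g⁻¹ ∈ K S i := by
  intro g hg v hv
  obtain ⟨hvS, hv'⟩ := mem_K.1 hv
  have := (normalK (G := ↥S) i).conj_mem _ hv' ⟨g, hg⟩
  exact mem_K.2 ⟨_, this⟩

lemma K_comm {i : ℕ} {x g : Ω} (hx : x ∈ K S i) (hg : g ∈ S) : x * g * x⁻¹ * g⁻¹ ∈ K S (i + 1) := by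
  obtain ⟨hxS, hx'⟩ := mem_K.1 hx
  have := comm_memK' (G := ↥S) hx' ⟨g, hg⟩
  exact mem_K.2 ⟨_, this⟩

lemma K_card [Finite S] {p n : ℕ} (h : MC p n ↥S) {i : ℕ} (h2 : 2 ≤ i) (hn : i ≤ n) :
    Nat.card (K S i) = p ^ (n - i) := by
  rw [← h.cardK i h2 hn]
  exact Nat.card_congr (Subgroup.equivMapOfInjective _ _ S.subtype_injective).symm.toEquiv

lemma sup_dec {W B : Subgroup Ω} (hc : ∀ w ∈ W, ∀ b ∈ B, w * b = b * w) {x : Ω} (hx : x ∈ W ⊔ B) :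
    ∃ w ∈ W, ∃ b ∈ B, x = w * b := by
  rw [Subgroup.sup_eq_closure] at hx
  induction hx using Subgroup.closure_induction with
  | mem x hx =>
    rcases hx with h | h
    · exact ⟨x, h, 1, B.one_mem, (mul_one x).symm⟩
    · exact ⟨1, W.one_mem, x, h, (one_mul x).symm⟩
  | one => exact ⟨1, W.one_mem, 1, B.one_mem, (mul_one 1).symm⟩
  | mul x y _ _ hx hy =>
    obtain ⟨w, hw, b, hb, rfl⟩ := hx
    obtain ⟨w', hw', b', hb', rfl⟩ := hy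
    refine ⟨w * w', W.mul_mem hw hw', b * b', B.mul_mem hb hb', ?_⟩
    calc w * b * (w' * b') = w * (b * w') * b' := by group
      _ = w * (w' * b) * b' := by rw [hc w' hw' b hb]
      _ = w * w' * (b * b') := by group
  | inv x _ hx =>
    obtain ⟨w, hw, b, hb, rfl⟩ := hx
    refine ⟨w⁻¹, W.inv_mem hw, b⁻¹, B.inv_mem hb, ?_⟩
    rw [mul_inv_rev]
    exact (hc _ (W.inv_mem hw) _ (B.inv_mem hb)).symm

variable [Finite S] {p n : ℕ} [hp : Fact p.Prime] {F : FusionSystem S} {E W B : Subgroup Ω} {τ : MulAut E}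

/-- piece FA, the other pieces as hypotheses -/
theorem core (D : Dat S p n F E) (h6 : 6 ≤ n) (h2 : K S (n - 2) ≤ E) (hE1 : ¬ E ≤ T S 2)
    (H : Tau S p F E (K S (n - 2)) τ W B) (hB : K S (n - 1) = B)
    (hX : ∃ γ ∈ F.autGroup (normalizerIn S E), γ * γ = 1 ∧
      ∀ (x : E) (hx : (x : Ω) ∈ normalizerIn S E), ((γ ⟨x, hx⟩ : normalizerIn S E) : Ω) = τ x)
    (hQ : ∀ (_ : K S (n - 3) ≤ normalizer (E : Set Ω)) (γ : MulAut (normalizerIn S E))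
      (_ : γ ∈ F.autGroup (normalizerIn S E)),
      ∀ x : normalizerIn S E, (x : Ω) ∈ K S (n - 3) → ((γ x : normalizerIn S E) : Ω) ∈ K S (n - 3))
    (hFE : ∀ (φ : MulAut (K S (n - 3))) (_ : φ ∈ F.autGroup (K S (n - 3)))
      (_ : ∀ v : K S (n - 3), (v : Ω) ∈ K S (n - 2) → ((φ v : K S (n - 3)) : Ω) ∈ K S (n - 2))
      (_ : ∀ v : K S (n - 3), (v : Ω) ∈ K S (n - 1) → ((φ v : K S (n - 3)) : Ω) ∈ K S (n - 1)),
      ∃ σ ∈ F.autGroup S, ∀ v : K S (n - 3), ((σ ⟨v, K_le _ v.2⟩ : S) : Ω) = φ v)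
    (hEV : ∀ (σ : MulAut ↥S)
      {a b c : ℤ} (_ : a = 1 ∨ a = -1) (_ : b = 1 ∨ b = -1) (_ : c = 1 ∨ c = -1)
      (_ : ∀ z ∈ lcsF ↥S (n - 1), σ z = z ^ a) (_ : ∀ z ∈ lcsF ↥S (n - 2), z ^ (-b) * σ z ∈ lcsF ↥S (n - 1))
      (_ : ∀ z ∈ lcsF ↥S (n - 3), z ^ (-c) * σ z ∈ lcsF ↥S (n - 2)), a = b * c) : False := by
  have hES : E ≤ S := D.ess.1.1
  have hn3 : n - 3 + 1 = n - 2 := by omega
  have hcomm : ∀ x ∈ K S (n - 3), ∀ g ∈ S, x * g * x⁻¹ * g⁻¹ ∈ K S (n - 2) := by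
    intro x hx g hg
    have := K_comm hx hg
    rwa [hn3] at this
  have hconjE : ∀ x ∈ K S (n - 3), ∀ e ∈ E, x * e * x⁻¹ ∈ E := by
    intro x hx e he
    have h := E.mul_mem (h2 (hcomm x hx e (hES he))) he
    have h' : x * e * x⁻¹ * e⁻¹ * e = x * e * x⁻¹ := by group
    rwa [h'] at h
  have h3 : K S (n - 3) ≤ normalizer (E : Set Ω) := by
    intro x hx
    rw [Subgroup.mem_normalizer_iff]
    intro e
    constructor
    · exact hconjE x hx e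
    · intro h
      have h' := hconjE x⁻¹ ((K S (n - 3)).inv_mem hx) _ h
      have h'' : x⁻¹ * (x * e * x⁻¹) * x⁻¹⁻¹ = e := by group
      rwa [h''] at h'
  have hZN : K S (n - 3) ≤ normalizerIn S E := le_inf (K_le _) h3
  have hEN : E ≤ normalizerIn S E := le_inf hES Subgroup.le_normalizer
  -- `E ∩ Z₃ = Z₂`
  have hEZ : ∀ x ∈ K S (n - 3), x ∈ E → x ∈ K S (n - 2) := by
    intro x hx hxE
    by_contra hno
    have hr := D.mc.relIndex (i := n - 3) (by omega) (by omega)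
    rw [hn3] at hr
    have hle := H57.Mc.le_of_relIndex (p := p) (A := lcsF ↥S (n - 2)) (B := lcsF ↥S (n - 3))
      (D := E.subgroupOf S) hr
      (by
        intro y hy
        rw [Subgroup.mem_subgroupOf]
        exact h2 (mem_K.2 ⟨y.2, hy⟩))
      (y := ⟨x, K_le _ hx⟩) (mem_K.1 hx).2 (fun h => hno (mem_K.2 ⟨_, h⟩))
      (by rw [Subgroup.mem_subgroupOf]; exact hxE) (K_anti (by omega))
    have hKE : K S (n - 3) ≤ E := by
      intro y hy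
      have := hle (mem_K.1 hy).2
      rwa [Subgroup.mem_subgroupOf] at this
    have hc1 : Nat.card (K S (n - 3)) = p ^ 3 := by
      rw [K_card D.mc (by omega) (by omega)]
      congr 1; omega
    haveI : Finite E := Finite.of_injective _ (Subgroup.inclusion_injective hES)
    have heq : K S (n - 3) = E := Subgroup.eq_of_le_of_card_ge hKE (by rw [hc1, D.card])
    apply hE1
    rw [← heq]
    exact (K_mono (by omega : 2 ≤ n - 3)).trans (Subgroup.map_mono (K2_le_TC 2))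
  obtain ⟨γ, hγ, -, hγE⟩ := hX
  have hQ' := hQ h3 γ hγ
  have hγE' : ∀ (x : Ω) (hx : x ∈ E), ((γ ⟨x, hEN hx⟩ : normalizerIn S E) : Ω) = ((τ ⟨x, hx⟩ : E) : Ω) :=
    fun x hx => hγE ⟨x, hx⟩ (hEN hx)
  have hWB : ∀ w ∈ W, ∀ b ∈ B, w * b = b * w := fun w hw b hb => D.comm w (H.WE hw) b (h2 (H.BC hb))
  have hBE : B ≤ E := H.BC.trans h2
  have tW : ∀ (w : Ω) (hw : w ∈ W), ((τ ⟨w, H.WE hw⟩ : E) : Ω) = w⁻¹ := by
    intro w hw
    rw [H.inv ⟨w, H.WE hw⟩ hw]; rfl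
  have tB : ∀ (b : Ω) (hb : b ∈ B), ((τ ⟨b, hBE hb⟩ : E) : Ω) = b := by
    intro b hb
    rw [H.fix ⟨b, hBE hb⟩ hb]
  have tmul : ∀ (x y : Ω) (hx : x ∈ E) (hy : y ∈ E), ((τ ⟨x * y, E.mul_mem hx hy⟩ : E) : Ω) =
      ((τ ⟨x, hx⟩ : E) : Ω) * ((τ ⟨y, hy⟩ : E) : Ω) := by
    intro x y hx hy
    have : (⟨x * y, E.mul_mem hx hy⟩ : E) = ⟨x, hx⟩ * ⟨y, hy⟩ := rfl
    rw [this, map_mul]; rfl
  -- decomposition of elements of `Z₂`
  have dec2 : ∀ z ∈ K S (n - 2), ∃ w ∈ W, ∃ b ∈ B, w ∈ K S (n - 2) ∧ z = w * b := by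
    intro z hz
    have hzE : z ∈ W ⊔ B := by rw [H.sup]; exact h2 hz
    obtain ⟨w, hw, b, hb, rfl⟩ := sup_dec hWB hzE
    refine ⟨w, hw, b, hb, ?_, rfl⟩
    have := (K S (n - 2)).mul_mem hz ((K S (n - 2)).inv_mem (H.BC hb))
    rwa [mul_inv_cancel_right] at this
  have t2 : ∀ (z : Ω) (hz : z ∈ K S (n - 2)), ∃ w ∈ W, ∃ b ∈ B, w ∈ K S (n - 2) ∧ z = w * b ∧
      ((τ ⟨z, h2 hz⟩ : E) : Ω) = w⁻¹ * b := by
    intro z hz
    obtain ⟨w, hw, b, hb, hwK, rfl⟩ := dec2 z hz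
    exact ⟨w, hw, b, hb, hwK, rfl, by rw [tmul w b (H.WE hw) (hBE hb), tW w hw, tB b hb]⟩
  -- the restriction of `γ` to `Z₃`
  set φ0 : K S (n - 3) →* K S (n - 3) :=
    (((normalizerIn S E).subtype.comp γ.toMonoidHom).comp (Subgroup.inclusion hZN)).codRestrict (K S (n - 3))
      (fun x => hQ' (Subgroup.inclusion hZN x) x.2) with hφ0
  have hφ0v : ∀ v : K S (n - 3), ((φ0 v : K S (n - 3)) : Ω) = ((γ ⟨v, hZN v.2⟩ : normalizerIn S E) : Ω) :=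
    fun v => rfl
  haveI : Finite (K S (n - 3)) := Finite.of_injective _ (Subgroup.inclusion_injective (K_le (S := S) (n - 3)))
  have hinj : Function.Injective φ0 := by
    intro x y hxy
    have h := congrArg (fun z : K S (n - 3) => (z : Ω)) hxy
    simp only [hφ0v] at h
    have h' := γ.injective (Subtype.ext h)
    have h'' := congrArg (fun z : normalizerIn S E => (z : Ω)) h'
    exact Subtype.ext h''
  set φ : MulAut (K S (n - 3)) :=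
    MulEquiv.ofBijective φ0 ⟨hinj, Finite.injective_iff_surjective.mp hinj⟩ with hφd
  have hφv : ∀ v : K S (n - 3), ((φ v : K S (n - 3)) : Ω) = ((γ ⟨v, hZN v.2⟩ : normalizerIn S E) : Ω) :=
    fun v => rfl
  have hφ : φ ∈ F.autGroup (K S (n - 3)) := by
    rw [mem_autGroup' F (K_le _)]
    have h1 := (mem_autGroup' F (normalizerIn_le S E)).1 hγ
    have h2' := restrict_mem F h1 hZN
    exact h2'
  obtain ⟨σ, -, hσ⟩ := hFE φ hφ (by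
      intro v hv
      rw [hφv, hγE' v (h2 hv)]
      obtain ⟨w, hw, b, hb, hwK, -, ht⟩ := t2 v hv
      rw [ht]
      exact (K S (n - 2)).mul_mem ((K S (n - 2)).inv_mem hwK) (H.BC hb))
    (by
      intro v hv
      have hvB : (v : Ω) ∈ B := by rw [← hB]; exact hv
      rw [hφv, hγE' v (hBE hvB), tB v hvB]
      exact hv)
  have hσ' : ∀ (v : S) (hv : (v : Ω) ∈ K S (n - 3)), ((σ v : S) : Ω) =
      ((γ ⟨v, hZN hv⟩ : normalizerIn S E) : Ω) := by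
    intro v hv
    rw [← hφv ⟨v, hv⟩, ← hσ ⟨v, hv⟩]
  have key := hEV σ (a := 1) (b := -1) (c := 1) (Or.inl rfl) (Or.inr rfl) (Or.inl rfl) ?_ ?_ ?_
  · norm_num at key
  · intro z hz
    have hzK : (z : Ω) ∈ K S (n - 1) := mem_K.2 ⟨z.2, hz⟩
    have hzB : (z : Ω) ∈ B := by rw [← hB]; exact hzK
    apply Subtype.ext
    rw [zpow_one, hσ' z (K_mono (by omega : n - 3 ≤ n - 1) hzK), hγE' z (hBE hzB), tB z hzB]
  · intro z hz
    have hzK : (z : Ω) ∈ K S (n - 2) := mem_K.2 ⟨z.2, hz⟩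
    obtain ⟨w, hw, b, hb, hwK, hzwb, ht⟩ := t2 z hzK
    have h1 : ((z ^ (-(-1 : ℤ)) * σ z : S) : Ω) = b * b := by
      rw [neg_neg, zpow_one]
      change (z : Ω) * ((σ z : S) : Ω) = b * b
      rw [hσ' z (K_mono (by omega : n - 3 ≤ n - 2) hzK), hγE' z (h2 hzK), ht, hzwb]
      calc w * b * (w⁻¹ * b) = w * (b * w⁻¹) * b := by group
        _ = w * (w⁻¹ * b) * b := by rw [hWB w⁻¹ (W.inv_mem hw) b hb]
        _ = b * b := by group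
    have h2' : ((z ^ (-(-1 : ℤ)) * σ z : S) : Ω) ∈ K S (n - 1) := by
      rw [h1, hB]; exact B.mul_mem hb hb
    exact (mem_K.1 h2').2
  · intro z hz
    have hzK : (z : Ω) ∈ K S (n - 3) := mem_K.2 ⟨z.2, hz⟩
    have hgK : ((σ z : S) : Ω) ∈ K S (n - 3) := by
      rw [hσ' z hzK]; exact hQ' ⟨z, hZN hzK⟩ hzK
    have hgN : ((σ z : S) : Ω) ∈ normalizer (E : Set Ω) := h3 hgK
    have hzN : (z : Ω) ∈ normalizer (E : Set Ω) := h3 hzK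
    -- conjugations agree on `E`
    have hcW : ∀ w ∈ W, ((σ z : S) : Ω) * w * ((σ z : S) : Ω)⁻¹ = (z : Ω) * w * (z : Ω)⁻¹ := by
      intro w hw
      have hc := H.com w (H.WE hw) z z.2 hzN
      have hcW : (z : Ω) * w * (z : Ω)⁻¹ * w⁻¹ ∈ W := hc.1
      have hcE : (z : Ω) * w * (z : Ω)⁻¹ * w⁻¹ ∈ E := H.WE hcW
      have e1 := hγE' _ hcE
      rw [tW _ hcW] at e1
      have e2 : ((γ ⟨(z : Ω) * w * (z : Ω)⁻¹ * w⁻¹, hEN hcE⟩ : normalizerIn S E) : Ω) =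
          ((γ ⟨z, hZN hzK⟩ : normalizerIn S E) : Ω) * ((γ ⟨w, hEN (H.WE hw)⟩ : normalizerIn S E) : Ω) *
          ((γ ⟨z, hZN hzK⟩ : normalizerIn S E) : Ω)⁻¹ * ((γ ⟨w, hEN (H.WE hw)⟩ : normalizerIn S E) : Ω)⁻¹ := by
        have : (⟨(z : Ω) * w * (z : Ω)⁻¹ * w⁻¹, hEN hcE⟩ : normalizerIn S E) =
            ⟨z, hZN hzK⟩ * ⟨w, hEN (H.WE hw)⟩ * ⟨z, hZN hzK⟩⁻¹ * ⟨w, hEN (H.WE hw)⟩⁻¹ := rfl
        rw [this, map_mul, map_mul, map_mul, map_inv, map_inv]; rfl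
      rw [e2, ← hσ' z hzK, hγE' w (H.WE hw), tW w hw] at e1
      -- e1 : g w⁻¹ g⁻¹ w⁻¹⁻¹ = (z w z⁻¹ w⁻¹)⁻¹
      have e3 : ((σ z : S) : Ω) * w⁻¹ * ((σ z : S) : Ω)⁻¹ = ((z : Ω) * w * (z : Ω)⁻¹ * w⁻¹)⁻¹ * w⁻¹ := by
        rw [← e1]; group
      have e4 : ((σ z : S) : Ω) * w * ((σ z : S) : Ω)⁻¹ = w * ((z : Ω) * w * (z : Ω)⁻¹ * w⁻¹) := by
        have h5 : ((σ z : S) : Ω) * w * ((σ z : S) : Ω)⁻¹ = (((σ z : S) : Ω) * w⁻¹ * ((σ z : S) : Ω)⁻¹)⁻¹ := by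
          group
        rw [h5, e3, mul_inv_rev, inv_inv, inv_inv]
      rw [e4, D.comm w (H.WE hw) _ hcE]; group
    have hcB : ∀ b ∈ B, ((σ z : S) : Ω) * b * ((σ z : S) : Ω)⁻¹ = (z : Ω) * b * (z : Ω)⁻¹ := by
      intro b hb
      rw [H.cen _ (σ z).2 hgN b (H.BC hb), H.cen _ z.2 hzN b (H.BC hb), mul_inv_cancel_right,
        mul_inv_cancel_right]
    have hcE : ∀ e ∈ E, ((σ z : S) : Ω) * e * ((σ z : S) : Ω)⁻¹ = (z : Ω) * e * (z : Ω)⁻¹ := by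
      intro e he
      have he' : e ∈ W ⊔ B := by rw [H.sup]; exact he
      obtain ⟨w, hw, b, hb, rfl⟩ := sup_dec hWB he'
      calc ((σ z : S) : Ω) * (w * b) * ((σ z : S) : Ω)⁻¹ =
          (((σ z : S) : Ω) * w * ((σ z : S) : Ω)⁻¹) * (((σ z : S) : Ω) * b * ((σ z : S) : Ω)⁻¹) := by group
        _ = ((z : Ω) * w * (z : Ω)⁻¹) * ((z : Ω) * b * (z : Ω)⁻¹) := by rw [hcW w hw, hcB b hb]
        _ = _ := by group
    have hin : (z : Ω)⁻¹ * ((σ z : S) : Ω) ∈ E := by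
      apply H57.Ess.centralizerIn_le_of_essential D.ess
      refine mem_centralizerIn.2 ⟨S.mul_mem (S.inv_mem z.2) (σ z).2, fun e he => ?_⟩
      have h := hcE e he
      calc e * ((z : Ω)⁻¹ * ((σ z : S) : Ω)) = (z : Ω)⁻¹ * ((z : Ω) * e * (z : Ω)⁻¹) * ((σ z : S) : Ω) := by group
        _ = (z : Ω)⁻¹ * (((σ z : S) : Ω) * e * ((σ z : S) : Ω)⁻¹) * ((σ z : S) : Ω) := by rw [h]
        _ = _ := by group
    have hin3 : (z : Ω)⁻¹ * ((σ z : S) : Ω) ∈ K S (n - 3) :=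
      (K S (n - 3)).mul_mem ((K S (n - 3)).inv_mem hzK) hgK
    have hin2 := hEZ _ hin3 hin
    have h1 : ((z ^ (-(1 : ℤ)) * σ z : S) : Ω) = (z : Ω)⁻¹ * ((σ z : S) : Ω) := by
      rw [zpow_neg, zpow_one]; rfl
    have h2' : ((z ^ (-(1 : ℤ)) * σ z : S) : Ω) ∈ K S (n - 2) := by rw [h1]; exact hin2
    exact (mem_K.1 h2').2

end H47.MXFA
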