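import Cfsg.Agent.Lib.H47.MXFA
import Cfsg.Agent.Lib.H91.MXEV
import Cfsg.Agent.Lib.H21.MXFE
import Cfsg.Agent.Lib.H84.MXX

/-! S5316, piece FA: only `invK3` left as a hypothesis. -/

set_option autoImplicit false

namespace H47.MXFA

open Subgroup Cfsg Cfsg.FusionSystem H67.HallPetrescu H57.Mc H89.MX H86.FusBasic H86.FusSat

variable {Ω : Type*} [Group Ω] {S : Subgroup Ω}

variable [Finite S] {p n : ℕ} [hp : Fact p.Prime] {F : FusionSystem S} {E W B : Subgroup Ω} {τ : MulAut E}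

theorem finA_of (D : Dat S p n F E) (h6 : 6 ≤ n) (h2 : K S (n - 2) ≤ E) (hex : ¬ TC ↥S 2 ≤ TC ↥S (n - 2))
    (hE1 : ¬ E ≤ T S 2) (H : Tau S p F E (K S (n - 2)) τ W B) (hB : K S (n - 1) = B)
    (hQ : ∀ (_ : K S (n - 3) ≤ normalizer (E : Set Ω)) (γ : MulAut (normalizerIn S E))
      (_ : γ ∈ F.autGroup (normalizerIn S E)),
      ∀ x : normalizerIn S E, (x : Ω) ∈ K S (n - 3) → ((γ x : normalizerIn S E) : Ω) ∈ K S (n - 3)) : False := by
  have hn := D.hn
  refine core D h6 h2 hE1 H hB (H84.MXX.ext D H) hQ ?_ ?_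
  · intro φ hφ f2 f1
    have h1 : n - (n - 3) = 3 := by omega
    have h2' : n - (n - 2) = 2 := by omega
    have h3' : n - (n - 1) = 1 := by omega
    exact H21.MXFE.flag_ext D.mc.isPGroup D.sat (K_le _) (K_mono (by omega : n - 3 ≤ n - 2))
      (K_mono (by omega : n - 2 ≤ n - 1)) (K_norm _) (K_norm _) (K_norm _)
      (by rw [K_card D.mc (by omega) (by omega), h1]) (by rw [K_card D.mc (by omega) (by omega), h2'])
      (by rw [K_card D.mc (by omega) (by omega), h3', pow_one]) hφ f2 f1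
  · intro σ a b c ha hb hc e1 e2 e3
    exact H91.MXEV.eig D.mc D.hp h6 hex σ ha hb hc e1 e2 e3

end H47.MXFA
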