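import Cfsg.Agent.Lib.H47.MXFAw
import Cfsg.Agent.Lib.H26.MXQ

/-! S5316, piece FA (complete). -/

set_option autoImplicit false

namespace H47.MXFA

open Subgroup Cfsg Cfsg.FusionSystem H67.HallPetrescu H57.Mc H89.MX

variable {Ω : Type*} [Group Ω] {S : Subgroup Ω} [Finite S] {p n : ℕ} [hp : Fact p.Prime]
  {F : FusionSystem S} {E C W B : Subgroup Ω} {τ : MulAut E}

theorem finA (D : Dat S p n F E) (h6 : 6 ≤ n) (h2 : K S (n - 2) ≤ E) (hex : ¬ TC ↥S 2 ≤ TC ↥S (n - 2))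
    (hE1 : ¬ E ≤ T S 2) (H : Tau S p F E (K S (n - 2)) τ W B) (hB : K S (n - 1) = B) : False :=
  finA_of D h6 h2 hex hE1 H hB (fun h3 _ hγ => H26.MXQ.invK3 D H.cardN h3 hγ)

end H47.MXFA
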