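import Cfsg.Agent.Lib.H47.Mat65

/-!
Elements of order 65 in `PSp₄(8)`, `PSp₆(8)`, `PSL₄(8)`, `PSU₄(8)`.
-/

set_option autoImplicit false
set_option maxRecDepth 100000

namespace H47.Mat65

open Matrix H64 Cfsg

section sp

variable {m : ℕ} {F : Type*} [Field F] (e : F8 →+* F)

theorem map_J : e.mapMatrix (J (Fin m) F8) = J (Fin m) F := by
  unfold J
  rw [RingHom.mapMatrix_apply, fromBlocks_map]
  congr 1 <;> ext i j <;> simp [Matrix.one_apply]

theorem mapMatrix_inj {ι : Type*} [Fintype ι] [DecidableEq ι] {R S : Type*} [Field R] [Field S] (e : R →+* S) :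
    Function.Injective (e.mapMatrix (m := ι)) := by
  intro A B h
  ext i j
  have := congrFun (congrFun h i) j
  simp only [RingHom.mapMatrix_apply, Matrix.map_apply] at this
  exact e.injective this

theorem psp (e : F8 →+* F) {A A5 A13 : Matrix (Fin m ⊕ Fin m) (Fin m ⊕ Fin m) F8}
    (hsp : A * J (Fin m) F8 * Aᵀ = J (Fin m) F8) (h : A ^ 65 = 1 ∧ A ^ 5 = A5 ∧ A ^ 13 = A13)
    (n5 : J (Fin m) F8 * A5 ≠ A5 * J (Fin m) F8) (n13 : J (Fin m) F8 * A13 ≠ A13 * J (Fin m) F8) :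
    ∃ g : PSp m F, orderOf g = 65 := by
  have hg : e.mapMatrix A ∈ symplecticGroup (Fin m) F := by
    rw [SymplecticGroup.mem_iff, ← map_J e]
    have : (e.mapMatrix A)ᵀ = e.mapMatrix Aᵀ := by ext i j; simp
    rw [this, ← map_mul, ← map_mul, hsp]
  have key : ∀ k : ℕ, J (Fin m) F8 * A ^ k ≠ A ^ k * J (Fin m) F8 →
      (⟨e.mapMatrix A, hg⟩ : symplecticGroup (Fin m) F) ^ k ∉
        Subgroup.center (symplecticGroup (Fin m) F) := by
    intro k hk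
    apply not_center (h := SymplecticGroup.symJ (Fin m) F)
    intro h1
    apply hk
    apply mapMatrix_inj e
    rw [map_mul, map_mul, map_J, map_pow]
    exact congrArg Subtype.val h1
  refine ⟨_, ord65 (Subgroup.center (symplecticGroup (Fin m) F)) ⟨e.mapMatrix A, hg⟩ ?_
    (key 5 (by rw [h.2.1]; exact n5)) (key 13 (by rw [h.2.2]; exact n13))⟩
  apply Subtype.ext
  show (e.mapMatrix A) ^ 65 = 1
  rw [← map_pow, h.1, map_one]

/-- the table of `J` -/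
def jt4 : List (List ℕ) := [[0, 0, 1, 0], [0, 0, 0, 1], [1, 0, 0, 0], [0, 1, 0, 0]]
def jt6 : List (List ℕ) := [[0, 0, 0, 1, 0, 0], [0, 0, 0, 0, 1, 0], [0, 0, 0, 0, 0, 1], [1, 0, 0, 0, 0, 0], [0, 1, 0, 0, 0, 0], [0, 0, 1, 0, 0, 0]]

/-- the entries of `J` -/
def jf {m : ℕ} : Fin m ⊕ Fin m → Fin m ⊕ Fin m → F8
  | Sum.inl a, Sum.inr b => if a = b then -1 else 0
  | Sum.inr a, Sum.inl b => if a = b then 1 else 0
  | _, _ => 0

theorem J_eq : J (Fin m) F8 = Matrix.of jf := by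
  unfold J
  ext i j
  rcases i with i | i <;> rcases j with j | j <;> simp [jf, Matrix.one_apply]
  split_ifs <;> simp

theorem J4_eq : J (Fin 2) F8 = A4 jt4 := by
  rw [J_eq]
  ext i j
  show jf i j = mk F8.c (ix 2) jt4 i j
  revert i j
  decide +kernel

theorem J6_eq : J (Fin 3) F8 = A6 jt6 := by
  rw [J_eq]
  ext i j
  show jf i j = mk F8.c (ix 3) jt6 i j
  revert i j
  decide +kernel

end sp

def a1t : List (List ℕ) := [[0, 5, 7, 2], [6, 3, 0, 4], [6, 6, 6, 4], [4, 7, 4, 3]]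
def a1j : List (List ℕ) := [[6, 4, 0, 6], [6, 7, 5, 3], [6, 4, 7, 0], [4, 3, 2, 4]]
def ja5 : List (List ℕ) := [[2, 1, 1, 4], [2, 4, 0, 4], [2, 3, 1, 6], [0, 2, 5, 2]]
def a5j : List (List ℕ) := [[1, 6, 2, 3], [5, 2, 0, 2], [1, 4, 2, 1], [0, 4, 2, 4]]
def ja13 : List (List ℕ) := [[5, 4, 4, 4], [2, 4, 2, 1], [0, 4, 7, 7], [7, 4, 1, 5]]
def a13j : List (List ℕ) := [[7, 7, 0, 4], [1, 5, 7, 4], [4, 4, 5, 4], [2, 1, 2, 4]]
def s1t : List (List ℕ) := [[0, 5, 0, 7, 2, 0], [6, 3, 0, 0, 4, 0], [0, 0, 1, 0, 0, 0], [6, 6, 0, 6, 4, 0], [4, 7, 0, 4, 3, 0], [0, 0, 0, 0, 0, 1]]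
def s1j : List (List ℕ) := [[6, 4, 0, 0, 6, 0], [6, 7, 0, 5, 3, 0], [0, 0, 0, 0, 0, 1], [6, 4, 0, 7, 0, 0], [4, 3, 0, 2, 4, 0], [0, 0, 1, 0, 0, 0]]
def js5 : List (List ℕ) := [[2, 1, 0, 1, 4, 0], [2, 4, 0, 0, 4, 0], [0, 0, 0, 0, 0, 1], [2, 3, 0, 1, 6, 0], [0, 2, 0, 5, 2, 0], [0, 0, 1, 0, 0, 0]]
def s5j : List (List ℕ) := [[1, 6, 0, 2, 3, 0], [5, 2, 0, 0, 2, 0], [0, 0, 0, 0, 0, 1], [1, 4, 0, 2, 1, 0], [0, 4, 0, 2, 4, 0], [0, 0, 1, 0, 0, 0]]
def js13 : List (List ℕ) := [[5, 4, 0, 4, 4, 0], [2, 4, 0, 2, 1, 0], [0, 0, 0, 0, 0, 1], [0, 4, 0, 7, 7, 0], [7, 4, 0, 1, 5, 0], [0, 0, 1, 0, 0, 0]]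
def s13j : List (List ℕ) := [[7, 7, 0, 0, 4, 0], [1, 5, 0, 7, 4, 0], [0, 0, 0, 0, 0, 1], [4, 4, 0, 5, 4, 0], [2, 1, 0, 2, 4, 0], [0, 0, 1, 0, 0, 0]]
def u1t : List (List ℕ) := [[5, 5, 15, 2], [47, 9, 38, 63], [26, 41, 17, 48], [7, 2, 6, 31]]
def u1b : List (List ℕ) := [[5, 42, 25, 7], [5, 8, 44, 2], [14, 34, 19, 6], [2, 56, 54, 28]]
def wt : List (List ℕ) := [[0, 1, 0, 0], [1, 0, 0, 0], [0, 0, 0, 1], [0, 0, 1, 0]]
def wu5 : List (List ℕ) := [[59, 24, 24, 62], [39, 9, 12, 17], [21, 39, 51, 50], [33, 38, 8, 21]]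
def u5w : List (List ℕ) := [[9, 39, 17, 12], [24, 59, 62, 24], [38, 33, 21, 8], [39, 21, 50, 51]]
def wu13 : List (List ℕ) := [[59, 34, 19, 13], [15, 5, 1, 47], [45, 59, 59, 43], [10, 56, 7, 36]]
def u13w : List (List ℕ) := [[5, 15, 47, 1], [34, 59, 13, 19], [56, 10, 36, 7], [59, 45, 43, 59]]

theorem tr_of {ι R : Type*} {c : ℕ → R} {idx : ι → ℕ} {L L' : List (List ℕ)}
    (h : ∀ i j : ι, mk c idx L j i = mk c idx L' i j) : (mx c idx L)ᵀ = mx c idx L' := by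
  ext i j
  exact h i j

theorem ne_of {ι R : Type*} {c : ℕ → R} {idx : ι → ℕ} {L L' : List (List ℕ)}
    (i j : ι) (h : mk c idx L i j ≠ mk c idx L' i j) : mx c idx L ≠ mx c idx L' :=
  fun h' => h (congrFun (congrFun h' i) j)

/-- `PSp₄(8)` -/
theorem psp4 {F : Type*} [Field F] (e : F8 →+* F) : ∃ g : PSp 2 F, orderOf g = 65 := by
  refine psp e (A := A4 a1) ?_ chA ?_ ?_
  · rw [J4_eq, (mul_of (by decide +kernel) : _ = A4 a1j), (tr_of (by decide +kernel) : _ = A4 a1t)]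
    exact mul_of (by decide +kernel)
  · rw [J4_eq, (mul_of (by decide +kernel) : _ = A4 ja5), (mul_of (by decide +kernel) : _ = A4 a5j)]
    exact ne_of (Sum.inl 0) (Sum.inl 0) (by decide +kernel)
  · rw [J4_eq, (mul_of (by decide +kernel) : _ = A4 ja13), (mul_of (by decide +kernel) : _ = A4 a13j)]
    exact ne_of (Sum.inl 0) (Sum.inl 0) (by decide +kernel)

/-- `PSp₆(8)` -/
theorem psp6 {F : Type*} [Field F] (e : F8 →+* F) : ∃ g : PSp 3 F, orderOf g = 65 := by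
  refine psp e (A := A6 s1) ?_ chS ?_ ?_
  · rw [J6_eq, (mul_of (by decide +kernel) : _ = A6 s1j), (tr_of (by decide +kernel) : _ = A6 s1t)]
    exact mul_of (by decide +kernel)
  · rw [J6_eq, (mul_of (by decide +kernel) : _ = A6 js5), (mul_of (by decide +kernel) : _ = A6 s5j)]
    exact ne_of (Sum.inl 0) (Sum.inl 0) (by decide +kernel)
  · rw [J6_eq, (mul_of (by decide +kernel) : _ = A6 js13), (mul_of (by decide +kernel) : _ = A6 s13j)]
    exact ne_of (Sum.inl 0) (Sum.inl 0) (by decide +kernel)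

theorem ord_hom {G G' : Type*} [Group G] [Group G'] (φ : G →* G') (hφ : Function.Injective φ) {g h : G}
    (h65 : g ^ 65 = 1) (h5 : h * g ^ 5 ≠ g ^ 5 * h) (h13 : h * g ^ 13 ≠ g ^ 13 * h) :
    orderOf (QuotientGroup.mk (φ g) : G' ⧸ Subgroup.center G') = 65 := by
  refine ord65 _ _ (by rw [← map_pow, h65, map_one]) ?_ ?_
  · rw [← map_pow]
    exact not_center (h := φ h) fun h1 => h5 (hφ (by rw [map_mul, map_mul]; exact h1))
  · rw [← map_pow]
    exact not_center (h := φ h) fun h1 => h13 (hφ (by rw [map_mul, map_mul]; exact h1))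

section sl

theorem detA : (L4 a1).det = 1 := by
  apply pow65_8
  rw [← Matrix.det_pow, chL.1, Matrix.det_one]

theorem detJ : (L4 jt4).det = 1 := by
  have h : L4 jt4 * L4 jt4 = 1 :=
    (mul_of (L3 := [[1, 0, 0, 0], [0, 1, 0, 0], [0, 0, 1, 0], [0, 0, 0, 1]]) (by decide +kernel)).trans
      (one_of (by decide +kernel))
  have h2 : ∀ x : F8, x * x = 1 → x = 1 := by decide +kernel
  apply h2
  rw [← Matrix.det_mul, h, Matrix.det_one]

/-- `PSL₄(8)` -/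
theorem psl4 {F : Type*} [Field F] (e : F8 →+* F) :
    ∃ g : ProjectiveSpecialLinearGroup (Fin 4) F, orderOf g = 65 := by
  have hinj : Function.Injective (SpecialLinearGroup.map (n := Fin 4) e) := by
    intro A B h
    apply Subtype.ext
    apply mapMatrix_inj e
    exact congrArg Subtype.val h
  refine ⟨_, ord_hom (SpecialLinearGroup.map (n := Fin 4) e) hinj (g := ⟨L4 a1, detA⟩) (h := ⟨L4 jt4, detJ⟩)
    ?_ ?_ ?_⟩
  · apply Subtype.ext
    exact chL.1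
  · intro h
    have h1 : L4 jt4 * L4 a1 ^ 5 = L4 a1 ^ 5 * L4 jt4 := congrArg Subtype.val h
    rw [chL.2.1, (mul_of (by decide +kernel) : _ = L4 ja5), (mul_of (by decide +kernel) : _ = L4 a5j)] at h1
    exact ne_of 0 0 (by decide +kernel) h1
  · intro h
    have h1 : L4 jt4 * L4 a1 ^ 13 = L4 a1 ^ 13 * L4 jt4 := congrArg Subtype.val h
    rw [chL.2.2, (mul_of (by decide +kernel) : _ = L4 ja13), (mul_of (by decide +kernel) : _ = L4 a13j)] at h1
    exact ne_of 0 0 (by decide +kernel) h1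

theorem detU : (U4 u1).det = 1 := by
  apply F64.pow65
  rw [← Matrix.det_pow, chU.1, Matrix.det_one]

theorem detW : (U4 wt).det = 1 := by
  have h : U4 wt * U4 wt = 1 :=
    (mul_of (L3 := [[1, 0, 0, 0], [0, 1, 0, 0], [0, 0, 1, 0], [0, 0, 0, 1]]) (by decide +kernel)).trans
      (one_of (by decide +kernel))
  have h2 : ∀ x : F64, x * x = 1 → x = 1 := by decide +kernel
  apply h2
  rw [← Matrix.det_mul, h, Matrix.det_one]

theorem bar_of {L L' : List (List ℕ)} (h : ∀ i j : Fin 4, mk c64 Fin.val L i j ^ 8 = mk c64 Fin.val L' i j) :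
    H7.UnitSU.bar 8 (U4 L) = U4 L' := Matrix.ext fun i j => h i j

theorem card64 : Fintype.card F64 = 8 ^ 2 := by rw [F64.card]; rfl

/-- `PSU₄(8)` -/
theorem psu4 {F : Type*} [Field F] [Fintype F] (hF : Fintype.card F = 64) :
    ∃ g : PSU 4 F 8, orderOf g = 65 := by
  have hF' : Fintype.card F = 8 ^ 2 := by rw [hF]; rfl
  let e : F64 ≃+* F := FiniteField.ringEquivOfCardEq (by rw [F64.card, hF])
  have hU : (⟨U4 u1, detU⟩ : SpecialLinearGroup (Fin 4) F64) ∈ SU 4 F64 8 := by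
    refine (H7.UnitSU.mem_SU_iff card64 _).2 ?_
    show (U4 u1)ᵀ * H7.UnitSU.bar 8 (U4 u1) = 1
    rw [(tr_of (by decide +kernel) : _ = U4 u1t), (bar_of (by decide +kernel) : _ = U4 u1b)]
    exact (mul_of (L3 := [[1, 0, 0, 0], [0, 1, 0, 0], [0, 0, 1, 0], [0, 0, 0, 1]]) (by decide +kernel)).trans
      (one_of (by decide +kernel))
  have hW : (⟨U4 wt, detW⟩ : SpecialLinearGroup (Fin 4) F64) ∈ SU 4 F64 8 := by
    refine (H7.UnitSU.mem_SU_iff card64 _).2 ?_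
    show (U4 wt)ᵀ * H7.UnitSU.bar 8 (U4 wt) = 1
    rw [(tr_of (by decide +kernel) : _ = U4 wt), (bar_of (by decide +kernel) : _ = U4 wt)]
    exact (mul_of (L3 := [[1, 0, 0, 0], [0, 1, 0, 0], [0, 0, 1, 0], [0, 0, 0, 1]]) (by decide +kernel)).trans
      (one_of (by decide +kernel))
  refine ⟨_, ord_hom (H64.U34.suCongr card64 hF' e).toMonoidHom (H64.U34.suCongr card64 hF' e).injective
    (g := ⟨_, hU⟩) (h := ⟨_, hW⟩) ?_ ?_ ?_⟩
  · apply Subtype.ext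
    apply Subtype.ext
    exact chU.1
  · intro h
    have h1 : U4 wt * U4 u1 ^ 5 = U4 u1 ^ 5 * U4 wt := congrArg Subtype.val (congrArg Subtype.val h)
    rw [chU.2.1, (mul_of (by decide +kernel) : _ = U4 wu5), (mul_of (by decide +kernel) : _ = U4 u5w)] at h1
    exact ne_of 0 0 (by decide +kernel) h1
  · intro h
    have h1 : U4 wt * U4 u1 ^ 13 = U4 u1 ^ 13 * U4 wt := congrArg Subtype.val (congrArg Subtype.val h)
    rw [chU.2.2, (mul_of (by decide +kernel) : _ = U4 wu13), (mul_of (by decide +kernel) : _ = U4 u13w)] at h1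
    exact ne_of 0 0 (by decide +kernel) h1

end sl

end H47.Mat65
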