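import Cfsg.Agent.Lib.H47.UniFlag

/-!
Existence of elements of given order in finite Chevalley groups.
-/

set_option autoImplicit false
set_option linter.unusedVariables false
set_option linter.unusedSectionVars false

namespace H47.MixEx

open H22.RGD H22.Coord H22.RCCheck H22.RCComb H22.ChevTri H22.ChevRel H22.ChevSys H22.ChevMain
open H22.ChevStd H22.ChevSolv H22.ChevUni H47.ChevSub H47.Alcove H47.LangCent H47.TorAll H47.SemiTor
open H47.FixPt H22.ChevTorus H47.HomoTor H47.JorTor H47.UniFlag H22.LangChev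
open Cfsg.Lie (ChevalleyDatum)
open scoped MatrixGroups Matrix

variable {D : ChevalleyDatum} {F : Type*} [Field F] [Fintype F] {K : Type*} [Field K] [IsAlgClosed K]
  [Algebra F K] (p : ℕ) [Fact p.Prime] [CharP K p] (RF : Rel D F) (R : Rel D K) {X : RCX D}

theorem map_inj (F K : Type*) [Field F] [Field K] [Algebra F K] : Function.Injective
    ((Matrix.GeneralLinearGroup.map (algebraMap F K)).comp (D.group F).subtype : ↥(D.group F) →* GL D.Idx K) := by
  intro g h hgh
  apply Subtype.ext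
  apply Units.ext
  ext i k
  apply (algebraMap F K).injective
  exact congrFun (congrFun (congrArg (fun g : GL D.Idx K => (g : Matrix D.Idx D.Idx K)) hgh) i) k

theorem L_le_group {K : Type*} [Field K] (R : Rel D K) (σ : K →+* K) : L R σ ≤ D.group K := by
  unfold H47.ChevSub.L
  rw [Subgroup.closure_le]
  rintro _ ⟨s, t, _, rfl⟩
  by_cases hs : s < D.nroots
  · exact xg_mem_group R hs t
  · have : xg R s t = 1 := by
      apply Units.ext
      rw [xg_val]
      unfold ChevalleyDatum.x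
      rw [dif_neg hs]; rfl
    rw [this]; exact one_mem _

include RF R in
/-- elements of the finite group as fixed points -/
theorem asc {n : ℕ} (hq : Fintype.card F = p ^ n) (g : ↥(D.group F)) :
    (Matrix.GeneralLinearGroup.map (algebraMap F K)) (g : GL D.Idx F) ∈ D.group K ∧
    Fr (D := D) (sg K p n) ((Matrix.GeneralLinearGroup.map (algebraMap F K)) (g : GL D.Idx F)) =
      (Matrix.GeneralLinearGroup.map (algebraMap F K)) (g : GL D.Idx F) ∧
    orderOf ((Matrix.GeneralLinearGroup.map (algebraMap F K)) (g : GL D.Idx F)) = orderOf g := by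
  have h1 : (Matrix.GeneralLinearGroup.map (algebraMap F K)) (g : GL D.Idx F) ∈ L R (sg K p n) := by
    rw [L_eq_map p RF R hq]
    exact ⟨g, g.2, rfl⟩
  refine ⟨L_le_group R _ h1, Fr_L R _ h1, ?_⟩
  exact orderOf_injective _ (map_inj (D := D) F K) g

include RF R in
/-- fixed points give elements of the finite group -/
theorem desc (Z : Lex X.rc) {n : ℕ} (hq : Fintype.card F = p ^ n) {y : GL D.Idx K} (hy : y ∈ D.group K)
    (hf : Fr (D := D) (sg K p n) y = y) {m : ℕ} (hdt : Nat.Coprime (dt X) m) (hm : y ^ m = 1) :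
    ∃ g : ↥(D.group F), (Matrix.GeneralLinearGroup.map (algebraMap F K)) (g : GL D.Idx F) = y ∧
      orderOf g = orderOf y := by
  have h1 : y ∈ (D.group F).map (Matrix.GeneralLinearGroup.map (algebraMap F K)) := by
    rw [← L_eq_map p RF R hq]
    exact mem_L_of_pow R _ Z hy hf hdt hm
  obtain ⟨g, hg, hgy⟩ := h1
  refine ⟨⟨g, hg⟩, hgy, ?_⟩
  have h2 := orderOf_injective _ (map_inj (D := D) F K) ⟨g, hg⟩
  rw [← h2]
  congr 1

section root

variable {p}

/-- the order of a root element -/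
theorem orderOf_xg (Q : RC D) {s : ℕ} (hs : s < D.nroots) : orderOf (xg R s (1 : K)) = p := by
  have hpow : ∀ k : ℕ, xg R s (1 : K) ^ k = xg R s (k : K) := by
    intro k
    induction k with
    | zero => rw [pow_zero, Nat.cast_zero, xg_zero]
    | succ k ih => rw [pow_succ, ih, xg_mul, Nat.cast_succ]
  apply orderOf_eq_prime
  · rw [hpow, CharP.cast_eq_zero, xg_zero]
  · intro h
    rw [← xg_zero R s] at h
    exact one_ne_zero (xg_inj R Q hs h)

end root

/-- the torus element with functional `x` -/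
theorem exists_tor {m : ℕ} (hm : 0 < m) (hmp : ¬ p ∣ m) (x lam : Fin D.rank → ℤ) {δ : ℤ}
    (h2 : ∑ j, lam j * x j = δ) (h3 : IsCoprime δ m) :
    ∃ (ζ : Kˣ) (u : Fin D.rank → Kˣ), orderOf ζ = m ∧ orderOf (th X K u) = m ∧
      ∀ s, cc X K u s = ζ ^ ev (coord X) x s := by
  have hne : ((m : ℕ) : K) ≠ 0 := by
    rw [Ne, CharP.cast_eq_zero_iff K p]; exact hmp
  have : NeZero ((m : ℕ) : K) := ⟨hne⟩
  obtain ⟨ζ, hζ⟩ := HasEnoughRootsOfUnity.exists_primitiveRoot K m
  set z : Kˣ := Units.mk0 ζ (hζ.ne_zero hm.ne') with hz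
  have hzo : orderOf z = m := by
    rw [← orderOf_units, hz, Units.val_mk0]
    exact hζ.eq_orderOf.symm
  have hcc : ∀ s, cc X K (fun j => z ^ x j) s = z ^ ev (coord X) x s := by
    intro s
    simp only [cc, MonoidHom.coe_mk, OneHom.coe_mk]
    unfold ev
    rw [zpow_sum']
    exact Finset.prod_congr rfl fun j _ => by rw [← zpow_mul]
  refine ⟨z, fun j => z ^ x j, hzo, ?_, hcc⟩
  apply Nat.dvd_antisymm
  · apply orderOf_dvd_of_pow_eq_one
    rw [← map_pow]
    have : (fun j => z ^ x j) ^ m = 1 := by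
      funext j
      rw [Pi.pow_apply, Pi.one_apply, ← zpow_natCast, ← zpow_mul, mul_comm, zpow_mul, zpow_natCast,
        ← hzo, pow_orderOf_eq_one, one_zpow]
    rw [this, map_one]
  · set k := orderOf (th X K fun j => z ^ x j) with hk
    have h4 : (fun j => z ^ x j) ^ k = 1 := by
      apply th_inj X
      rw [map_pow, map_one, hk, pow_orderOf_eq_one]
    have h5 : ∀ j, (m : ℤ) ∣ k * x j := by
      intro j
      have := congrFun h4 j
      rw [Pi.pow_apply, Pi.one_apply, ← zpow_natCast, ← zpow_mul, ← orderOf_dvd_iff_zpow_eq_one,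
        hzo, mul_comm] at this
      exact this
    have h6 : (m : ℤ) ∣ k * δ := by
      rw [← h2, Finset.mul_sum]
      refine Finset.dvd_sum fun j _ => ?_
      have e : (k : ℤ) * (lam j * x j) = lam j * (k * x j) := by ring
      rw [e]; exact (h5 j).mul_left _
    have h7 := h3.symm.dvd_of_dvd_mul_right h6
    exact_mod_cast h7

include RF R in
/-- **Elements of order `m`.** -/
theorem exists_semi (Z : Lex X.rc) {n : ℕ} (hq : Fintype.card F = p ^ n) {m : ℕ} (hm : 0 < m)
    (hmp : ¬ p ∣ m) (hdt : Nat.Coprime (dt X) m) {w : Equiv.Perm (Fin D.nroots)} (hw : w ∈ (comb X).W)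
    (x lam : Fin D.rank → ℤ) {δ : ℤ}
    (h1 : ∀ s, (m : ℤ) ∣ ev (coord X) x (w s) - (p ^ n : ℕ) * ev (coord X) x s)
    (h2 : ∑ j, lam j * x j = δ) (h3 : IsCoprime δ m) : ∃ g : ↥(D.group F), orderOf g = m := by
  have hp : p.Prime := Fact.out
  obtain ⟨ζ, u, hζ, hu, hcc⟩ := exists_tor (X := X) (K := K) p hm hmp x lam h2 h3
  obtain ⟨l, rfl⟩ := (comb X).exists_word hw
  have hrep := (chevSys R X).rep_nw l
  have hnG : (chevSys R X).nw l ∈ D.group K := by
    have h : (chevSys R X).nw l ∈ (chevSys R X).Γ := (chevSys R X).N_le_Γ ((chevSys R X).nw_mem_N _)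
    rwa [chevSys_Γ] at h
  have hn1 : n ≠ 0 := by
    rintro rfl
    have := Fintype.one_lt_card (α := F)
    rw [hq] at this; simp at this
  obtain ⟨g0, hg0, hg⟩ := H22.LangChev.lang R Z (sg K p n) (p ^ n)
    ((hp.two_le).trans (Nat.le_self_pow hn1 p)) (sg_apply p n) hnG
  have hfix : Fr (D := D) (sg K p n) (g0 * th X K u * g0⁻¹) = g0 * th X K u * g0⁻¹ := by
    refine conj_fixed R X (sg K p n) hrep hg fun s => ?_
    rw [sg_apply, ← Units.val_pow_eq_pow_val]
    congr 1
    obtain ⟨c, hc⟩ := h1 s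
    have e1 : ev (coord X) x ((comb X).w l s) = ev (coord X) x s * (p ^ n : ℕ) + m * c := by
      rw [← hc]; ring
    rw [hcc, hcc, e1, zpow_add, zpow_mul _ (m : ℤ), zpow_natCast _ m, ← hζ, pow_orderOf_eq_one, one_zpow,
      mul_one, zpow_mul, zpow_natCast]
  have hord : orderOf (g0 * th X K u * g0⁻¹) = m := by
    rw [← hu]
    exact orderOf_injective (MulAut.conj g0).toMonoidHom (MulAut.conj g0).injective (th X K u)
  have hmem : g0 * th X K u * g0⁻¹ ∈ D.group K := by
    refine mul_mem (mul_mem hg0 ?_) (inv_mem hg0)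
    apply mem_group_of_B R X
    apply (chevSys R X).H_le_B
    rw [chevSys_H, diagonalSubgroup_eq R X]
    exact (th_mem R X _).1
  obtain ⟨g, _, h⟩ := desc p RF R Z hq hmem hfix hdt (by rw [← hord, pow_orderOf_eq_one])
  exact ⟨g, by rw [h, hord]⟩

include RF R in
/-- **Elements of order `m * p`.** -/
theorem exists_mixed (Z : Lex X.rc) {n : ℕ} (hq : Fintype.card F = p ^ n) {m : ℕ} (hm : 0 < m)
    (hmp : ¬ p ∣ m) (hdt : Nat.Coprime (dt X) (m * p)) {w : Equiv.Perm (Fin D.nroots)}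
    (hw : w ∈ (comb X).W) (b : Fin D.nroots) (hwb : w b = b)
    (x lam : Fin D.rank → ℤ) {δ : ℤ} (hxb : (m : ℤ) ∣ ev (coord X) x b)
    (h1 : ∀ s, (m : ℤ) ∣ ev (coord X) x (w s) - (p ^ n : ℕ) * ev (coord X) x s)
    (h2 : ∑ j, lam j * x j = δ) (h3 : IsCoprime δ m) : ∃ g : ↥(D.group F), orderOf g = m * p := by
  have hp : p.Prime := Fact.out
  obtain ⟨ζ, u, hζ, hu, hcc⟩ := exists_tor (X := X) (K := K) p hm hmp x lam h2 h3
  obtain ⟨n0, hn0⟩ : ∃ n0, (chevSys R X).Rep n0 w := (chevSys R X).exists_rep' hw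
  obtain ⟨μ, hμ0, hμ⟩ := ConnCent.rep_conj R X hn0 b
  rw [hwb] at hμ
  -- correction by an element of the torus
  obtain ⟨v, hv⟩ : ∃ v : Fin D.rank → Kˣ, cc X K v b * Units.mk0 μ hμ0 = 1 := by
    obtain ⟨j, hj⟩ := (coord X).ne_zero b
    obtain ⟨z, hz⟩ := IsAlgClosed.exists_pow_nat_eq (μ⁻¹ : K) (n := ((coord X).co b j).natAbs)
      (Int.natAbs_pos.2 hj)
    have hz0 : z ≠ 0 := by
      rintro rfl
      rw [zero_pow (Int.natAbs_pos.2 hj).ne'] at hz
      exact inv_ne_zero hμ0 hz.symm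
    set z' : Kˣ := Units.mk0 z hz0 with hz'
    have hz'' : z' ^ ((coord X).co b j).natAbs = (Units.mk0 μ hμ0)⁻¹ := by
      apply Units.ext
      rw [Units.val_pow_eq_pow_val, hz', Units.val_mk0, hz, Units.val_inv_eq_inv_val, Units.val_mk0]
    rcases Int.natAbs_eq ((coord X).co b j) with h | h
    · refine ⟨Pi.mulSingle j z', ?_⟩
      simp only [cc, MonoidHom.coe_mk, OneHom.coe_mk]
      rw [Finset.prod_eq_single j]
      · rw [Pi.mulSingle_eq_same, h, zpow_natCast, hz'', inv_mul_cancel]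
      · intro k _ hk; rw [Pi.mulSingle_eq_of_ne hk, one_zpow]
      · intro h; exact absurd (Finset.mem_univ _) h
    · refine ⟨Pi.mulSingle j z'⁻¹, ?_⟩
      simp only [cc, MonoidHom.coe_mk, OneHom.coe_mk]
      rw [Finset.prod_eq_single j]
      · rw [Pi.mulSingle_eq_same, h, zpow_neg, zpow_natCast, inv_pow, inv_inv, hz'', inv_mul_cancel]
      · intro k _ hk; rw [Pi.mulSingle_eq_of_ne hk, one_zpow]
      · intro h; exact absurd (Finset.mem_univ _) h
  obtain ⟨hvH, hvx⟩ := th_mem R X v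
  have hvH' : th X K v ∈ (chevSys R X).H := by rw [chevSys_H, diagonalSubgroup_eq R X]; exact hvH
  set n1 := th X K v * n0 with hn1def
  have hrep : (chevSys R X).Rep n1 w := by
    have := ((chevSys R X).rep_H hvH').mul hn0
    rwa [one_mul] at this
  have hn1b : n1 * xg R b 1 * n1⁻¹ = xg R b 1 := by
    have e1 : n1 * xg R b 1 * n1⁻¹ = th X K v * (n0 * xg R b 1 * n0⁻¹) * (th X K v)⁻¹ := by
      rw [hn1def]; simp [mul_assoc]
    rw [e1, hμ, hvx, mul_one]
    congr 1
    have := congrArg (fun u : Kˣ => (u : K)) hv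
    simpa using this
  have hnG : n1 ∈ D.group K := by
    have h : n1 ∈ (chevSys R X).Γ := (chevSys R X).N_le_Γ hrep.1
    rwa [chevSys_Γ] at h
  have hn1 : n ≠ 0 := by
    rintro rfl
    have := Fintype.one_lt_card (α := F)
    rw [hq] at this; simp at this
  obtain ⟨g0, hg0, hg⟩ := H22.LangChev.lang R Z (sg K p n) (p ^ n)
    ((hp.two_le).trans (Nat.le_self_pow hn1 p)) (sg_apply p n) hnG
  have hfix : Fr (D := D) (sg K p n) (g0 * th X K u * g0⁻¹) = g0 * th X K u * g0⁻¹ := by
    refine conj_fixed R X (sg K p n) hrep hg fun s => ?_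
    rw [sg_apply, ← Units.val_pow_eq_pow_val]
    congr 1
    obtain ⟨c, hc⟩ := h1 s
    have e1 : ev (coord X) x (w s) = ev (coord X) x s * (p ^ n : ℕ) + m * c := by
      rw [← hc]; ring
    rw [hcc, hcc, e1, zpow_add, zpow_mul _ (m : ℤ), zpow_natCast _ m, ← hζ, pow_orderOf_eq_one, one_zpow,
      mul_one, zpow_mul, zpow_natCast]
  have hfix2 : Fr (D := D) (sg K p n) (g0 * xg R b 1 * g0⁻¹) = g0 * xg R b 1 * g0⁻¹ := by
    have h6 : Fr (D := D) (sg K p n) g0 = g0 * n1 := by rw [← hg]; simp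
    rw [map_mul, map_mul, map_inv, h6, Fr_xg, map_one]
    calc g0 * n1 * xg R b 1 * (g0 * n1)⁻¹ = g0 * (n1 * xg R b 1 * n1⁻¹) * g0⁻¹ := by simp [mul_assoc]
      _ = _ := by rw [hn1b]
  have htb : th X K u * xg R b 1 = xg R b 1 * th X K u := by
    have h4 := (th_mem R X u).2 b 1
    rw [hcc] at h4
    have h5 : ζ ^ ev (coord X) x b = 1 := by rw [← orderOf_dvd_iff_zpow_eq_one, hζ]; exact hxb
    rw [h5, Units.val_one, one_mul] at h4
    exact mul_inv_eq_iff_eq_mul.1 h4
  set y := g0 * (th X K u * xg R b 1) * g0⁻¹ with hy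
  have hy2 : y = (g0 * th X K u * g0⁻¹) * (g0 * xg R b 1 * g0⁻¹) := by rw [hy]; simp [mul_assoc]
  have hFy : Fr (D := D) (sg K p n) y = y := by rw [hy2, map_mul, hfix, hfix2]
  have hord : orderOf y = m * p := by
    have e1 : orderOf y = orderOf (th X K u * xg R b 1) := by
      rw [hy]
      exact orderOf_injective (MulAut.conj g0).toMonoidHom (MulAut.conj g0).injective _
    rw [e1]
    have c : Commute (th X K u) (xg R b 1) := htb
    have ho := orderOf_xg (p := p) R X.rc b.2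
    rw [c.orderOf_mul_eq_mul_orderOf_of_coprime, hu, ho]
    rw [hu, ho, Nat.coprime_comm]
    exact (Nat.Prime.coprime_iff_not_dvd hp).2 hmp
  have hmem : y ∈ D.group K := by
    refine mul_mem (mul_mem hg0 (mul_mem ?_ (xg_mem_group R b.2 1))) (inv_mem hg0)
    apply mem_group_of_B R X
    apply (chevSys R X).H_le_B
    rw [chevSys_H, diagonalSubgroup_eq R X]
    exact (th_mem R X _).1
  obtain ⟨g, _, h⟩ := desc p RF R Z hq hmem hFy hdt (by rw [← hord, pow_orderOf_eq_one])
  exact ⟨g, by rw [h, hord]⟩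

end H47.MixEx
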