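import Cfsg.Agent.Lib.H47.MixEx
import Cfsg.Agent.Lib.H47.CycW

/-!
Elements of finite Chevalley groups: the functional of the semisimple part and the coordinates of the
unipotent part.
-/

set_option autoImplicit false
set_option linter.unusedVariables false
set_option linter.unusedSectionVars false

namespace H47.MixUp

open H22.RGD H22.Coord H22.RCCheck H22.RCComb H22.ChevTri H22.ChevRel H22.ChevSys H22.ChevMain
open H22.ChevStd H22.ChevSolv H22.ChevUni H47.ChevSub H47.Alcove H47.LangCent H47.TorAll H47.SemiTor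
open H47.FixPt H22.ChevTorus H47.HomoTor H47.JorTor H47.UniFlag H22.LangChev H47.MixEx
open Cfsg.Lie (ChevalleyDatum)
open scoped MatrixGroups Matrix

section cent

variable {D : ChevalleyDatum} {F : Type*} [Field F] (R : Rel D F) {X : RCX D}

/-- the coordinates of the unipotent elements centralised by `a` -/
theorem cent_U (Z : Lex X.rc) {a : GL D.Idx F} (ha : a ∈ Hs R) {u : GL D.Idx F}
    (hu : u ∈ (chevSys R X).U) (hc : a * u = u * a) :
    ∃ t : ℕ → F, u = pr R t X.rc.half X.rc.half ∧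
      ∀ r, X.rc.half ≤ r → r < D.nroots → t r = 0 ∨ PC R a r := by
  have hn : X.rc.half + X.rc.half = D.nroots := by have := X.rc.nroots_eq; omega
  obtain ⟨χ, h1, h2, _⟩ := exists_char R X.rc ha
  rw [chevSys_U, posUnipotent_eq_Vk R X.rc, mem_Vk_iff R Z X.rc.half X.rc.half hn le_rfl] at hu
  obtain ⟨t, rfl⟩ := hu
  refine ⟨t, rfl, ?_⟩
  intro r h3 h4
  by_cases h0 : t r = 0
  · exact Or.inl h0
  · right
    refine ⟨h4, ?_⟩
    have h5 : a * pr R t X.rc.half X.rc.half * a⁻¹ = pr R t X.rc.half X.rc.half := by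
      rw [hc]; simp
    rw [CentT.pr_conj R h2 t _ _ hn.le] at h5
    have h6 := pr_inj R Z X.rc.half X.rc.half hn le_rfl h5 r h3 h4
    have h7 : χ r = 1 := mul_right_cancel₀ h0 (h6.trans (one_mul _).symm)
    have h8 := h2 r h4 1
    rw [h7, one_mul] at h8
    exact mul_inv_eq_iff_eq_mul.1 h8

end cent

variable {D : ChevalleyDatum} {K : Type*} [Field K] [IsAlgClosed K] (R : Rel D K) {X : RCX D}
  (p : ℕ) [Fact p.Prime] [CharP K p]

/-- **Elements fixed by Frobenius.** -/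
theorem mix_fun (hK : LocFin K p) (Z : Lex X.rc)
    (hconn : ∀ a ∈ Hs R, IsOfFinOrder a → Conn R X a)
    (htriv : ∀ a ∈ Hs R, IsOfFinOrder a → Triv R X a) (n : ℕ) {m : ℕ} (hm : ¬ p ∣ m) {k : ℕ}
    {g : GL D.Idx K} (hg : g ∈ D.group K) (hFr : Fr (D := D) (sg K p n) g = g)
    (hord : orderOf g = m * p ^ k) :
    ∃ x : Fin D.rank → ℤ, ∃ w ∈ (comb X).W, ∃ t : ℕ → K,
      (∀ c : ℤ, (∀ s : Fin D.nroots, (m : ℤ) ∣ c * ev (coord X) x s) → (m : ℤ) ∣ c) ∧
      (∀ s : Fin D.nroots, (m : ℤ) ∣ ev (coord X) x (w s) - (p ^ n : ℕ) * ev (coord X) x s) ∧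
      (∀ r : Fin D.nroots, X.rc.half ≤ r.val → t r ≠ 0 → (m : ℤ) ∣ ev (coord X) x r) ∧
      orderOf (pr R t X.rc.half X.rc.half) = p ^ k := by
  have hp : p.Prime := Fact.out
  have hm0 : 0 < m := Nat.pos_of_ne_zero (by rintro rfl; exact hm (dvd_zero _))
  have hpk : 0 < p ^ k := pow_pos hp.pos k
  have hord0 : 0 < orderOf g := by rw [hord]; positivity
  have hfin : IsOfFinOrder g := orderOf_pos_iff.1 hord0
  -- the two parts
  have ho1 : orderOf (g ^ p ^ k) = m := by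
    rw [orderOf_pow_of_dvd hpk.ne' (by rw [hord]; exact dvd_mul_left _ _), hord, Nat.mul_div_cancel _ hpk]
  have ho2 : orderOf (g ^ m) = p ^ k := by
    rw [orderOf_pow_of_dvd hm0.ne' (by rw [hord]; exact dvd_mul_right _ _), hord,
      Nat.mul_div_cancel_left _ hm0]
  obtain ⟨f, hfm, hf⟩ := Nat.exists_infinite_primes (m + 1)
  obtain ⟨y, hy, hya, ζ, x, hζ0, hζ, hx, hprim, w, hw, hxw⟩ := exists_fun R p hK Z hf
    (fun a ha N hN haN => hconn a ha (isOfFinOrder_iff_pow_eq_one.2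
      ⟨N, Nat.pos_of_ne_zero (by rintro rfl; exact hN (dvd_zero _)), haN⟩)) n hm
    (pow_mem hg (p ^ k)) (by rw [map_pow, hFr]) (by rw [← ho1, pow_orderOf_eq_one])
  rw [ho1] at hζ
  rw [hζ] at hprim hxw
  set a := y * g ^ p ^ k * y⁻¹ with ha
  have haf : IsOfFinOrder a := by
    rw [isOfFinOrder_iff_pow_eq_one]
    refine ⟨m, hm0, ?_⟩
    rw [ha, conj_pow, ← ho1, pow_orderOf_eq_one]; simp
  have hau : a * (y * g ^ m * y⁻¹) = y * g ^ m * y⁻¹ * a := by
    have h1 : g ^ p ^ k * g ^ m = g ^ m * g ^ p ^ k := by rw [← pow_add, ← pow_add, add_comm]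
    calc a * (y * g ^ m * y⁻¹) = y * (g ^ p ^ k * g ^ m) * y⁻¹ := by rw [ha]; simp [mul_assoc]
      _ = y * (g ^ m * g ^ p ^ k) * y⁻¹ := by rw [h1]
      _ = _ := by rw [ha]; simp [mul_assoc]
  obtain ⟨c, hc, hac, hcU⟩ := exists_unip R p hK hya (htriv a hya haf)
    (u := y * g ^ m * y⁻¹) (mul_mem (mul_mem hy (pow_mem hg _)) (inv_mem hy)) hau (k := k)
    (by rw [conj_pow, ← ho2, pow_orderOf_eq_one]; simp)
  have hcomm : a * (c⁻¹ * (y * g ^ m * y⁻¹) * c) = c⁻¹ * (y * g ^ m * y⁻¹) * c * a := by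
    have h1 : a * c⁻¹ = c⁻¹ * a := by
      rw [eq_inv_mul_iff_mul_eq, ← mul_assoc, ← hac, mul_assoc, mul_inv_cancel, mul_one]
    calc a * (c⁻¹ * (y * g ^ m * y⁻¹) * c) = a * c⁻¹ * (y * g ^ m * y⁻¹) * c := by simp only [mul_assoc]
      _ = c⁻¹ * (a * (y * g ^ m * y⁻¹)) * c := by rw [h1]; simp only [mul_assoc]
      _ = c⁻¹ * (y * g ^ m * y⁻¹) * (a * c) := by rw [hau]; simp only [mul_assoc]
      _ = _ := by rw [hac]; simp only [mul_assoc]
  obtain ⟨t, ht, hPC⟩ := cent_U R Z hya hcU hcomm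
  refine ⟨x, w, hw, t, hprim, hxw, ?_, ?_⟩
  · intro r hr htr
    rcases hPC r hr r.2 with h | h
    · exact absurd h htr
    · have h1 := hx r 1
      rw [h.2, mul_inv_cancel_right, mul_one] at h1
      have h2 := xg_inj R X.rc r.2 h1
      rw [← hζ, orderOf_dvd_iff_zpow_eq_one]
      exact Units.ext (by rw [← h2, Units.val_one])
  · rw [← ht]
    have h1 : orderOf (c⁻¹ * (y * g ^ m * y⁻¹) * c) = orderOf (g ^ m) := by
      have : c⁻¹ * (y * g ^ m * y⁻¹) * c = (c⁻¹ * y) * g ^ m * (c⁻¹ * y)⁻¹ := by simp [mul_assoc]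
      rw [this]
      exact orderOf_injective (MulAut.conj (c⁻¹ * y)).toMonoidHom (MulAut.conj (c⁻¹ * y)).injective _
    rw [h1, ho2]

end H47.MixUp
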