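import Cfsg.Agent.Lib.H47.ChevLong

/-!
Centralisers of products of commuting positive root elements in Chevalley groups:
the general Bruhat argument.
-/

set_option autoImplicit false

namespace H47.RootCent

open H22.RGD H22.Coord H22.RCCheck H22.RCComb H22.ChevTri H22.ChevRel H22.ChevSys H22.ChevMain
open H22.ChevStd H22.ChevUni
open Cfsg.Lie (ChevalleyDatum)
open scoped MatrixGroups Matrix

variable {D : ChevalleyDatum} {F : Type*} [Field F] (R : Rel D F) {X : RCX D} (Z : Lex X.rc)

/-! ### products of commuting root elements -/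

theorem pr_add {Ξ : Set ℕ} (hΞ : ∀ r ∈ Ξ, ∀ s ∈ Ξ, ∀ a b : F, Commute (xg R r a) (xg R s b))
    {t t' : ℕ → F} (ht : ∀ r, r ∉ Ξ → t r = 0) (ht' : ∀ r, r ∉ Ξ → t' r = 0) : ∀ m k,
    pr R (t + t') k m = pr R t k m * pr R t' k m := by
  have hc : ∀ m k r a, r ∈ Ξ → Commute (xg R r a) (pr R t k m) := by
    intro m
    induction m with
    | zero => intro k r a _; simp [pr]
    | succ m ih =>
      intro k r a hr
      rw [pr_succ]
      refine Commute.mul_right ?_ (ih _ r a hr)
      by_cases hk : k ∈ Ξ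
      · exact hΞ r hr k hk _ _
      · rw [ht k hk, xg_zero]; exact Commute.one_right _
  intro m
  induction m with
  | zero => intro k; simp [pr]
  | succ m ih =>
    intro k
    rw [pr_succ, pr_succ, pr_succ, ih, Pi.add_apply, ← xg_mul]
    have h : Commute (xg R k (t' k)) (pr R t (k + 1) m) := by
      by_cases hk : k ∈ Ξ
      · exact hc m (k + 1) k _ hk
      · rw [ht' k hk, xg_zero]; exact Commute.one_left _
    calc xg R k (t k) * xg R k (t' k) * (pr R t (k + 1) m * pr R t' (k + 1) m)
        = xg R k (t k) * (xg R k (t' k) * pr R t (k + 1) m) * pr R t' (k + 1) m := by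
          simp only [mul_assoc]
      _ = _ := by rw [h.eq]; simp only [mul_assoc]

theorem pr_zero : ∀ m k, pr R (fun _ => (0 : F)) k m = 1 := by
  intro m
  induction m with
  | zero => intro k; simp [pr]
  | succ m ih => intro k; rw [pr_succ, ih, xg_zero, one_mul]

theorem pr_zero_of {t : ℕ → F} : ∀ m k, (∀ r, k ≤ r → r < k + m → t r = 0) → pr R t k m = 1 := by
  intro m
  induction m with
  | zero => intro k _; simp [pr]
  | succ m ih =>
    intro k h
    rw [pr_succ, h k le_rfl (by omega), xg_zero, one_mul]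
    exact ih (k + 1) fun r h1 h2 => h r (by omega) (by omega)

theorem pr_single (s : ℕ) (c : F) : ∀ m k, k ≤ s → s < k + m →
    pr R (Pi.single s c) k m = xg R s c := by
  intro m
  induction m with
  | zero => intro k h1 h2; omega
  | succ m ih =>
    intro k h1 h2
    rw [pr_succ]
    rcases h1.lt_or_eq with h | h
    · rw [Pi.single_eq_of_ne (by omega), xg_zero, one_mul]
      exact ih (k + 1) (by omega) (by omega)
    · subst h
      rw [Pi.single_eq_same, pr_zero_of R m (k + 1), mul_one]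
      intro r h3 _
      have hrk : r ≠ k := by omega
      simp [hrk]

/-- ordered product along a list of roots -/
def LP (l : List (Fin D.nroots)) (c : Fin D.nroots → F) : GL D.Idx F :=
  (l.map fun s : Fin D.nroots => xg R s.val (c s)).prod

@[simp] theorem LP_nil (c : Fin D.nroots → F) : LP R [] c = 1 := rfl
theorem LP_cons (s : Fin D.nroots) (l : List (Fin D.nroots)) (c : Fin D.nroots → F) :
    LP R (s :: l) c = xg R s (c s) * LP R l c := by simp [LP]
theorem LP_append (l l' : List (Fin D.nroots)) (c : Fin D.nroots → F) :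
    LP R (l ++ l') c = LP R l c * LP R l' c := by simp [LP]

theorem LP_congr {l : List (Fin D.nroots)} {c c' : Fin D.nroots → F} (h : ∀ s ∈ l, c s = c' s) :
    LP R l c = LP R l c' := by
  unfold LP
  congr 1
  apply List.map_congr_left
  intro s hs
  rw [h s hs]

/-- the extension by zero -/
def ext0 (l : List (Fin D.nroots)) (c : Fin D.nroots → F) : ℕ → F :=
  fun r => if h : r < D.nroots then (if (⟨r, h⟩ : Fin D.nroots) ∈ l then c ⟨r, h⟩ else 0) else 0

theorem ext0_apply (l : List (Fin D.nroots)) (c : Fin D.nroots → F) (r : Fin D.nroots) :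
    ext0 l c r = if r ∈ l then c r else 0 := by
  unfold ext0
  rw [dif_pos r.2]

/-- pairwise commuting lists of roots -/
def Comm (l : List (Fin D.nroots)) : Prop :=
  ∀ r ∈ l, ∀ s ∈ l, ∀ a b : F, Commute (xg R (r : ℕ) a) (xg R (s : ℕ) b)

include Z in
theorem LP_eq_pr {l : List (Fin D.nroots)} (hl : l.Nodup) (hp : ∀ r ∈ l, (comb X).pos r)
    (hc : Comm R l) (c : Fin D.nroots → F) :
    LP R l c = pr R (ext0 l c) X.rc.half X.rc.half := by
  have _ := Z
  have hn : X.rc.half + X.rc.half = D.nroots := by have := X.rc.nroots_eq; omega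
  induction l with
  | nil =>
    rw [LP_nil, pr_zero_of]
    intro r _ _
    unfold ext0
    split_ifs <;> simp_all
  | cons s l ih =>
    have hs := List.nodup_cons.1 hl
    rw [LP_cons, ih hs.2 (fun r hr => hp r (by simp [hr]))
      (fun r hr s hs => hc r (by simp [hr]) s (by simp [hs]))]
    have h1 : ext0 (s :: l) c = Pi.single (s : ℕ) (c s) + ext0 l c := by
      funext r
      rw [Pi.add_apply]
      by_cases hr : r < D.nroots
      · have e1 := ext0_apply (s :: l) c ⟨r, hr⟩
        have e2 := ext0_apply l c ⟨r, hr⟩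
        simp only at e1 e2
        rw [e1, e2]
        by_cases hrs : (⟨r, hr⟩ : Fin D.nroots) = s
        · subst hrs
          simp [hs.1]
        · have h3 : r ≠ (s : ℕ) := fun h => hrs (Fin.ext h)
          rw [Pi.single_eq_of_ne h3]
          simp [hrs]
      · have h3 : r ≠ (s : ℕ) := fun h => hr (h ▸ s.2)
        rw [Pi.single_eq_of_ne h3]
        unfold ext0
        simp [hr]
    rw [h1, pr_add R (Ξ := {r | ∃ h : r < D.nroots, (⟨r, h⟩ : Fin D.nroots) ∈ s :: l}), pr_single]
    · exact hp s (by simp)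
    · rw [hn]; exact s.2
    · rintro r ⟨hr, hr'⟩ u ⟨hu, hu'⟩ a b
      exact hc _ hr' _ hu' a b
    · intro r hr
      apply Pi.single_eq_of_ne
      rintro rfl
      exact hr ⟨s.2, by simp⟩
    · intro r hr
      unfold ext0
      split_ifs with h2 h3
      · exact absurd ⟨h2, by simp [h3]⟩ hr
      · rfl
      · rfl

include Z in
theorem LP_inj {l l' : List (Fin D.nroots)} (hl : l.Nodup) (hp : ∀ r ∈ l, (comb X).pos r)
    (hc : Comm R l) (hl' : l'.Nodup) (hp' : ∀ r ∈ l', (comb X).pos r)
    (hc' : Comm R l') {c c' : Fin D.nroots → F} (h : LP R l c = LP R l' c') (r : Fin D.nroots)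
    (hr : (comb X).pos r) :
    (if r ∈ l then c r else 0) = if r ∈ l' then c' r else 0 := by
  have hn : X.rc.half + X.rc.half = D.nroots := by have := X.rc.nroots_eq; omega
  rw [LP_eq_pr R Z hl hp hc, LP_eq_pr R Z hl' hp' hc'] at h
  have h1 := pr_inj R Z X.rc.half X.rc.half hn le_rfl h r hr r.2
  rwa [ext0_apply, ext0_apply] at h1

theorem LP_mem {l : List (Fin D.nroots)} {c : Fin D.nroots → F} {K : Subgroup (GL D.Idx F)}
    (h : ∀ s ∈ l, xg R (s : ℕ) (c s) ∈ K) : LP R l c ∈ K := by
  unfold LP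
  apply Subgroup.list_prod_mem
  intro x hx
  simp only [List.mem_map] at hx
  obtain ⟨s, hs, rfl⟩ := hx
  exact h s hs

theorem LP_comm {l : List (Fin D.nroots)} {c : Fin D.nroots → F} {g : GL D.Idx F}
    (h : ∀ s ∈ l, Commute g (xg R (s : ℕ) (c s))) : Commute g (LP R l c) := by
  induction l with
  | nil => exact Commute.one_right _
  | cons s l ih =>
    rw [LP_cons]
    exact (h s (by simp)).mul_right (ih fun r hr => h r (by simp [hr]))

theorem LP_filter {l : List (Fin D.nroots)} (hc : Comm R l) (c : Fin D.nroots → F)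
    (p : Fin D.nroots → Prop) [DecidablePred p] :
    LP R l c = LP R (l.filter fun s => p s) c * LP R (l.filter fun s => ¬ p s) c := by
  induction l with
  | nil => simp
  | cons s l ih =>
    have h1 := ih fun r hr s hs => hc r (by simp [hr]) s (by simp [hs])
    have hcs : Commute (xg R (s : ℕ) (c s)) (LP R (l.filter fun s => p s) c) :=
      LP_comm R fun r hr => hc s (by simp) r (by simp [(List.mem_filter.1 hr).1]) _ _
    rw [LP_cons, h1]
    by_cases hs : p s
    · rw [List.filter_cons_of_pos (by simpa using hs), List.filter_cons_of_neg (by simpa using hs),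
        LP_cons, mul_assoc]
    · rw [List.filter_cons_of_neg (by simpa using hs), List.filter_cons_of_pos (by simpa using hs),
        LP_cons, ← mul_assoc, hcs.eq, mul_assoc]

theorem LP_conj {n : GL D.Idx F} {w : Equiv.Perm (Fin D.nroots)} {ε : Fin D.nroots → F}
    (hn : ∀ (s : Fin D.nroots) (t : F), n * xg R (s : ℕ) t * n⁻¹ = xg R (w s : ℕ) (ε s * t))
    (l : List (Fin D.nroots)) (c : Fin D.nroots → F) :
    n * LP R l c * n⁻¹ = LP R (l.map w) (fun r => ε (w⁻¹ r) * c (w⁻¹ r)) := by
  induction l with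
  | nil => simp
  | cons s l ih =>
    rw [LP_cons, List.map_cons, LP_cons, ← ih]
    have e : n * (xg R (s : ℕ) (c s) * LP R l c) * n⁻¹ =
        (n * xg R (s : ℕ) (c s) * n⁻¹) * (n * LP R l c * n⁻¹) := by simp [mul_assoc]
    rw [e, hn]
    simp

include Z in
/-- the support argument -/
theorem support {n : GL D.Idx F} {w : Equiv.Perm (Fin D.nroots)} {ε : Fin D.nroots → F}
    (hε : ∀ s, ε s ≠ 0)
    (hn : ∀ (s : Fin D.nroots) (t : F), n * xg R (s : ℕ) t * n⁻¹ = xg R (w s : ℕ) (ε s * t))
    {l : List (Fin D.nroots)} (hl : l.Nodup) (hp : ∀ r ∈ l, (comb X).pos r)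
    (hc : Comm R l) {c d : Fin D.nroots → F} (h : n * LP R l c * n⁻¹ = LP R l d) :
    ∀ s ∈ l, c s ≠ 0 → w s ∈ l ∧ d (w s) = ε s * c s := by
  classical
  set S := chevSys R X with hS
  have hXU : ∀ (r : Fin D.nroots) (t : F), (comb X).pos r → xg R (r : ℕ) t ∈ S.U :=
    fun r t hr => S.X_le_U hr (xg_mem R _ t)
  have hXV : ∀ (r : Fin D.nroots) (t : F), ¬ (comb X).pos r → xg R (r : ℕ) t ∈ S.V :=
    fun r t hr => S.X_le_V hr (xg_mem R _ t)
  -- split
  set lp := l.filter fun s => (comb X).pos (w s) with hlp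
  set lm := l.filter fun s => ¬ (comb X).pos (w s) with hlm
  have hsplit : LP R l c = LP R lp c * LP R lm c :=
    LP_filter R hc c (fun s => (comb X).pos (w s))
  have hm1 : n * LP R lm c * n⁻¹ ∈ S.V := by
    rw [LP_conj R hn]
    refine LP_mem R fun r hr => hXV r _ ?_
    rw [List.mem_map] at hr
    obtain ⟨s, hs, rfl⟩ := hr
    have := (List.mem_filter.1 hs).2
    simpa using this
  have hp1 : n * LP R lp c * n⁻¹ ∈ S.U := by
    rw [LP_conj R hn]
    refine LP_mem R fun r hr => hXU r _ ?_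
    rw [List.mem_map] at hr
    obtain ⟨s, hs, rfl⟩ := hr
    have := (List.mem_filter.1 hs).2
    simpa using this
  have hd : LP R l d ∈ S.U := LP_mem R fun r hr => hXU r _ (hp r hr)
  have hm2 : n * LP R lm c * n⁻¹ ∈ S.U := by
    have e : n * LP R lm c * n⁻¹ = (n * LP R lp c * n⁻¹)⁻¹ * LP R l d := by
      rw [← h, hsplit]; simp [mul_assoc]
    rw [e]
    exact S.U.mul_mem (S.U.inv_mem hp1) hd
  have hm3 : n * LP R lm c * n⁻¹ = 1 := S.eq_one_of_mem_B_V (S.U_le_B hm2) hm1
  have hm4 : LP R lm c = 1 := by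
    have e : LP R lm c = n⁻¹ * (n * LP R lm c * n⁻¹) * n := by simp [mul_assoc]
    rw [e, hm3]; simp
  have hsub : ∀ s ∈ lm, s ∈ l := fun s hs => (List.mem_filter.1 hs).1
  have hsub' : ∀ s ∈ lp, s ∈ l := fun s hs => (List.mem_filter.1 hs).1
  have hm5 : ∀ s ∈ lm, c s = 0 := by
    intro s hs
    have h1 : LP R lm c = LP R [] c := by rw [hm4, LP_nil]
    have h2 := LP_inj R Z (hl.filter _) (fun r hr => hp r (hsub r hr))
      (fun r hr s hs => hc r (hsub r hr) s (hsub s hs)) (List.nodup_nil) (by simp)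
      (by intro r hr; simp at hr) h1 s (hp s (hsub s hs))
    rw [if_pos hs] at h2
    simpa using h2
  have hp2 : LP R (lp.map w) (fun r => ε (w⁻¹ r) * c (w⁻¹ r)) = LP R l d := by
    rw [← LP_conj R hn, ← h, hsplit, hm4, mul_one]
  have hcw : Comm R (lp.map w) := by
    intro r hr s hs a b
    rw [List.mem_map] at hr hs
    obtain ⟨r, hr, rfl⟩ := hr
    obtain ⟨s, hs, rfl⟩ := hs
    have h1 := hc r (hsub' r hr) s (hsub' s hs) ((ε r)⁻¹ * a) ((ε s)⁻¹ * b)
    have e1 : xg R (w r : ℕ) a = n * xg R (r : ℕ) ((ε r)⁻¹ * a) * n⁻¹ := by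
      rw [hn, mul_inv_cancel_left₀ (hε r)]
    have e2 : xg R (w s : ℕ) b = n * xg R (s : ℕ) ((ε s)⁻¹ * b) * n⁻¹ := by
      rw [hn, mul_inv_cancel_left₀ (hε s)]
    rw [e1, e2]
    show n * _ * n⁻¹ * (n * _ * n⁻¹) = n * _ * n⁻¹ * (n * _ * n⁻¹)
    simp only [mul_assoc, inv_mul_cancel_left]
    rw [← mul_assoc (xg R (r : ℕ) _) (xg R (s : ℕ) _), h1.eq]
    simp only [mul_assoc]
  intro s hs hcs
  have hsp : (comb X).pos (w s) := by
    by_contra hneg
    exact hcs (hm5 s (by rw [hlm, List.mem_filter]; exact ⟨hs, by simpa using hneg⟩))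
  have hslp : s ∈ lp := by rw [hlp, List.mem_filter]; exact ⟨hs, by simpa using hsp⟩
  have h2 := LP_inj R Z ((hl.filter _).map w.injective) (fun r hr => by
      rw [List.mem_map] at hr
      obtain ⟨u, hu, rfl⟩ := hr
      have := (List.mem_filter.1 hu).2
      simpa using this) hcw hl hp hc hp2 (w s) hsp
  rw [if_pos (List.mem_map.2 ⟨s, hslp, rfl⟩)] at h2
  simp only [Equiv.Perm.coe_inv, Equiv.symm_apply_apply] at h2
  by_cases hws : w s ∈ l
  · rw [if_pos hws] at h2
    exact ⟨hws, h2.symm⟩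
  · rw [if_neg hws] at h2
    exact absurd h2 (mul_ne_zero (hε s) hcs)

/-! ### dominance -/

/-- the value `Σ x_r co (w r) j` -/
def lam (X : RCX D) (b : List (Fin D.nroots)) (x : Fin D.nroots → ℤ) (w : Equiv.Perm (Fin D.nroots))
    (j : Fin D.rank) : ℤ := (b.map fun r => x r * (coord X).co (w r) j).sum

/-- `⟨λ, α_i^∨⟩` -/
def cc (X : RCX D) (b : List (Fin D.nroots)) (x : Fin D.nroots → ℤ) (i : Fin D.rank) : ℤ :=
  (b.map fun r => x r * (coord X).pair i r).sum

theorem lam_mul_refl (b : List (Fin D.nroots)) (x : Fin D.nroots → ℤ)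
    {w : Equiv.Perm (Fin D.nroots)} (hw : w ∈ (comb X).W) (i j : Fin D.rank) :
    lam X b x (w * (comb X).refl i) j = lam X b x w j -
      cc X b x i * (coord X).co (w ((comb X).simple i)) j := by
  unfold lam cc
  induction b with
  | nil => simp
  | cons r b ih =>
    simp only [List.map_cons, List.sum_cons]
    rw [ih, Equiv.Perm.mul_apply, (coord X).co_mul_refl hw]
    ring

theorem dom (b : List (Fin D.nroots)) (x : Fin D.nroots → ℤ)
    (hcc : ∀ i, 0 ≤ cc X b x i) (n : ℕ) : ∀ w ∈ (comb X).W, (comb X).len w = n →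
    (∀ j, lam X b x w j ≤ lam X b x 1 j) ∧ ((∀ j, lam X b x 1 j ≤ lam X b x w j) →
      ∃ L : List (Fin D.rank), (∀ i ∈ L, cc X b x i = 0) ∧ (comb X).w L = w) := by
  induction n with
  | zero =>
    intro w hw hn
    rw [(coord X).eq_one_of_len_zero hw hn]
    exact ⟨fun j => le_rfl, fun _ => ⟨[], by simp, rfl⟩⟩
  | succ n ih =>
    intro w hw hn
    obtain ⟨i, hi⟩ := (coord X).exists_right_descent hw (by omega)
    have hlen := (comb X).len_mul_refl_of_neg w i ((comb X).W_neg hw) hi
    have hwi : w * (comb X).refl i ∈ (comb X).W :=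
      (comb X).W.mul_mem hw (Subgroup.subset_closure ⟨i, rfl⟩)
    obtain ⟨h1, h2⟩ := ih _ hwi (by omega)
    have e : w = w * (comb X).refl i * (comb X).refl i := by
      rw [mul_assoc, (comb X).refl_mul_self, mul_one]
    have hpos : (comb X).pos ((w * (comb X).refl i) ((comb X).simple i)) := by
      rw [Equiv.Perm.mul_apply, (comb X).refl_simple, (comb X).W_neg hw, (comb X).pos_neg]
      exact hi
    have h3 : ∀ j, lam X b x w j = lam X b x (w * (comb X).refl i) j -
        cc X b x i * (coord X).co ((w * (comb X).refl i) ((comb X).simple i)) j := by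
      intro j
      rw [← lam_mul_refl b x hwi, ← e]
    have h4 : ∀ j, 0 ≤ cc X b x i * (coord X).co ((w * (comb X).refl i) ((comb X).simple i)) j :=
      fun j => mul_nonneg (hcc i) ((coord X).pos_nonneg _ hpos j)
    refine ⟨fun j => ?_, fun h5 => ?_⟩
    · have := h3 j; have := h4 j; have := h1 j; omega
    · obtain ⟨j, hj⟩ := (coord X).exists_co_pos hpos
      have h6 : cc X b x i = 0 := by
        have a1 := h3 j; have a2 := h4 j; have a3 := h1 j; have a4 := h5 j
        have a5 : cc X b x i * (coord X).co ((w * (comb X).refl i) ((comb X).simple i)) j = 0 := by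
          omega
        rcases mul_eq_zero.1 a5 with h | h
        · exact h
        · omega
      obtain ⟨L, hL, e'⟩ := h2 fun j => by
        have := h3 j; have := h4 j; have := h5 j; omega
      refine ⟨L ++ [i], ?_, ?_⟩
      · intro k hk
        rw [List.mem_append, List.mem_singleton] at hk
        rcases hk with hk | rfl
        · exact hL k hk
        · exact h6
      · rw [RootComb.w_append, RootComb.w_singleton, e', mul_assoc, (comb X).refl_mul_self, mul_one]

/-! ### the subgroup `M` -/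

/-- generated by the simple root subgroups `X_{±j}`, `j ∈ J` -/
def MJ (J : Fin D.rank → Prop) : Subgroup (GL D.Idx F) :=
  Subgroup.closure {g | ∃ j : Fin D.rank, J j ∧ ∃ c : F,
    g = xg R (D.simple j) c ∨ g = xg R (D.neg (D.simple j)) c}

variable {J : Fin D.rank → Prop}

theorem pos_mem_MJ {j : Fin D.rank} (hj : J j) (c : F) : xg R (D.simple j) c ∈ MJ R J :=
  Subgroup.subset_closure ⟨j, hj, c, Or.inl rfl⟩

theorem neg_mem_MJ {j : Fin D.rank} (hj : J j) (c : F) : xg R (D.neg (D.simple j)) c ∈ MJ R J :=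
  Subgroup.subset_closure ⟨j, hj, c, Or.inr rfl⟩

theorem ng_mem_MJ {j : Fin D.rank} (hj : J j) (c : F) : ng R (D.simple j) c ∈ MJ R J := by
  rw [ng_def]
  exact (MJ R J).mul_mem ((MJ R J).mul_mem (pos_mem_MJ R hj _) (neg_mem_MJ R hj _))
    (pos_mem_MJ R hj _)

theorem hs_mem_MJ {j : Fin D.rank} (hj : J j) (c : F) : hs R (j : ℕ) c ∈ MJ R J := by
  unfold hs
  rw [hg_def]
  exact (MJ R J).mul_mem (ng_mem_MJ R hj _) (ng_mem_MJ R hj _)

theorem nw_mem_MJ {L : List (Fin D.rank)} (hL : ∀ i ∈ L, J i) :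
    (chevSys R X).nw L ∈ MJ R J := by
  rw [← nsw_eq_nw R X]
  induction L with
  | nil => simp [nsw, (MJ R J).one_mem]
  | cons i L ih =>
    rw [nsw_cons]
    exact (MJ R J).mul_mem (ng_mem_MJ R (hL i (by simp)) _) (ih fun j hj => hL j (by simp [hj]))

theorem Um_le_MJ {L : List (Fin D.rank)} (hL : ∀ i ∈ L, J i) :
    (chevSys R X).Um ((comb X).w L) ≤ MJ R J := by
  induction L with
  | nil => rw [RootComb.w_nil, Sys.Um_one]; exact bot_le
  | cons i L ih =>
    have ih' := ih fun j hj => hL j (by simp [hj])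
    refine (chevSys R X).Um_le fun s hs hns => ?_
    rw [RootComb.w_cons, Equiv.Perm.mul_apply] at hns
    by_cases h1 : (comb X).pos ((comb X).w L s)
    · have h2 : (comb X).w L s = (comb X).simple i := (comb X).pos_of_refl_neg h1 hns
      intro y hy
      have h3 : (chevSys R X).nw L * y * ((chevSys R X).nw L)⁻¹ ∈
          (chevSys R X).X ((comb X).simple i) := by
        rw [← h2, ← (chevSys R X).cj_nw L s]
        exact conj_mem_cj hy
      rw [chevSys_X, mem_rootSubgroup R] at h3
      obtain ⟨t, ht⟩ := h3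
      have h4 : (chevSys R X).nw L * y * ((chevSys R X).nw L)⁻¹ ∈ MJ R J := by
        rw [ht]; exact pos_mem_MJ R (hL i (by simp)) t
      have h5 := nw_mem_MJ R (X := X) (fun j hj => hL j (List.mem_cons_of_mem i hj))
      have h6 := (MJ R J).mul_mem ((MJ R J).mul_mem ((MJ R J).inv_mem h5) h4) h5
      simpa [mul_assoc] using h6
    · exact ((chevSys R X).X_le_Um hs h1).trans ih'

/-- hypotheses for the centraliser theorem -/
structure Hyp (X : RCX D) (b p1 : List (Fin D.nroots)) (x : Fin D.nroots → ℤ) (J : Fin D.rank → Prop) :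
    Prop where
  nodup : (b ++ p1).Nodup
  pos : ∀ r ∈ b ++ p1, (comb X).pos r
  comm : Comm R (b ++ p1)
  conj : ∀ r, (comb X).pos r → ∀ s ∈ b ++ p1, ∀ t u : F,
    xg R (r : ℕ) t * xg R (s : ℕ) u * (xg R (r : ℕ) t)⁻¹ * (xg R (s : ℕ) u)⁻¹ ∈
      Subgroup.closure {g | ∃ k ∈ p1, ∃ v : F, g = xg R ((k : Fin D.nroots) : ℕ) v}
  x_nonneg : ∀ r ∈ b, 0 ≤ x r
  cc_nonneg : ∀ i, 0 ≤ cc X b x i
  cc_J : ∀ i, cc X b x i = 0 → J i
  orbit : ∀ r ∈ b, ∀ w ∈ (comb X).W, w r ∈ b ++ p1 → ∀ j, (coord X).co r j ≤ (coord X).co (w r) j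
  mcomm : ∀ j, J j → ∀ r ∈ b, ∀ c d : F, Commute (xg R (D.simple j) c) (xg R (r : ℕ) d) ∧
    Commute (xg R (D.neg (D.simple j)) c) (xg R (r : ℕ) d)
  torus : ∀ h ∈ Hs R, (∀ r ∈ b, ∀ t : F, Commute h (xg R (r : ℕ) t)) → h ∈ MJ R J

variable {R} {b p1 : List (Fin D.nroots)} {x : Fin D.nroots → ℤ}

namespace Hyp

variable (E : Hyp R X b p1 x J)

/-- `A₁` -/
abbrev A1 (R : Rel D F) (p1 : List (Fin D.nroots)) : Subgroup (GL D.Idx F) :=
  Subgroup.closure {g | ∃ k ∈ p1, ∃ v : F, g = xg R ((k : Fin D.nroots) : ℕ) v}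

include E in
theorem mem_A1 {a : GL D.Idx F} (ha : a ∈ A1 R p1) : ∃ c, a = LP R p1 c := by
  have hcm : Comm R p1 := fun r hr s hs => E.comm r (by simp [hr]) s (by simp [hs])
  have hnd : p1.Nodup := (List.nodup_append.1 E.nodup).2.1
  induction ha using Subgroup.closure_induction with
  | mem y hy =>
    obtain ⟨k, hk, v, rfl⟩ := hy
    refine ⟨Pi.single k v, ?_⟩
    have key : ∀ l : List (Fin D.nroots), l.Nodup → k ∈ l → LP R l (Pi.single k v) = xg R (k : ℕ) v := by
      intro l
      induction l with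
      | nil => intro _ h; simp at h
      | cons s l ih =>
        intro hl hk
        have hs := List.nodup_cons.1 hl
        rw [LP_cons]
        by_cases hks : k = s
        · subst hks
          have h1 : LP R l (Pi.single k v) = 1 := by
            have : LP R l (Pi.single k v) = LP R l (fun _ => 0) := LP_congr R fun r hr => by
              rw [Pi.single_eq_of_ne]; rintro rfl; exact hs.1 hr
            rw [this]
            unfold LP
            apply List.prod_eq_one
            intro y hy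
            simp only [List.mem_map] at hy
            obtain ⟨r, _, rfl⟩ := hy
            exact xg_zero R _
          rw [h1, Pi.single_eq_same, mul_one]
        · have : k ∈ l := by
            rcases List.mem_cons.1 hk with h | h
            · exact absurd h hks
            · exact h
          rw [ih hs.2 this, Pi.single_eq_of_ne (Ne.symm hks), xg_zero, one_mul]
    exact (key p1 hnd hk).symm
  | one =>
    refine ⟨fun _ => 0, ?_⟩
    unfold LP
    symm
    apply List.prod_eq_one
    intro y hy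
    simp only [List.mem_map] at hy
    obtain ⟨r, _, rfl⟩ := hy
    exact xg_zero R _
  | mul y z _ _ hy hz =>
    obtain ⟨c, rfl⟩ := hy
    obtain ⟨d, rfl⟩ := hz
    refine ⟨fun r => c r + d r, ?_⟩
    have key : ∀ l : List (Fin D.nroots), Comm R l → LP R l c * LP R l d = LP R l (fun r => c r + d r) := by
      intro l
      induction l with
      | nil => intro _; simp
      | cons s l ih =>
        intro hl
        have h1 : Commute (xg R (s : ℕ) (d s)) (LP R l c) :=
          LP_comm R fun r hr => hl s (by simp) r (by simp [hr]) _ _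
        rw [LP_cons, LP_cons, LP_cons, ← ih fun r hr s hs => hl r (by simp [hr]) s (by simp [hs]),
          ← xg_mul]
        calc xg R (s : ℕ) (c s) * LP R l c * (xg R (s : ℕ) (d s) * LP R l d)
            = xg R (s : ℕ) (c s) * (LP R l c * xg R (s : ℕ) (d s)) * LP R l d := by
              simp only [mul_assoc]
          _ = _ := by rw [← h1.eq]; simp only [mul_assoc]
    exact key p1 hcm
  | inv y _ hy =>
    obtain ⟨c, rfl⟩ := hy
    refine ⟨fun r => - c r, ?_⟩
    rw [inv_eq_iff_mul_eq_one]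
    have key : ∀ l : List (Fin D.nroots), Comm R l → LP R l c * LP R l (fun r => - c r) = 1 := by
      intro l
      induction l with
      | nil => intro _; simp
      | cons s l ih =>
        intro hl
        have h1 : Commute (xg R (s : ℕ) (- c s)) (LP R l c) :=
          LP_comm R fun r hr => hl s (by simp) r (by simp [hr]) _ _
        rw [LP_cons, LP_cons]
        calc xg R (s : ℕ) (c s) * LP R l c * (xg R (s : ℕ) (- c s) * LP R l (fun r => - c r))
            = xg R (s : ℕ) (c s) * (LP R l c * xg R (s : ℕ) (- c s)) * LP R l (fun r => - c r) := by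
              simp only [mul_assoc]
          _ = xg R (s : ℕ) (c s) * xg R (s : ℕ) (- c s) * (LP R l c * LP R l (fun r => - c r)) := by
              rw [← h1.eq]; simp only [mul_assoc]
          _ = 1 := by
              rw [ih fun r hr s hs => hl r (by simp [hr]) s (by simp [hs]), xg_mul]
              simp [xg_zero]
    exact key p1 hcm

include E in
theorem A_comm : ∀ y ∈ Subgroup.closure {g | ∃ k ∈ b ++ p1, ∃ v : F,
      g = xg R ((k : Fin D.nroots) : ℕ) v}, ∀ z ∈ Subgroup.closure {g | ∃ k ∈ b ++ p1, ∃ v : F,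
      g = xg R ((k : Fin D.nroots) : ℕ) v}, Commute y z := by
  set S : Set (GL D.Idx F) := {g | ∃ k ∈ b ++ p1, ∃ v : F, g = xg R ((k : Fin D.nroots) : ℕ) v} with hS
  have h0 : ∀ a ∈ S, ∀ z ∈ Subgroup.closure S, Commute z a := by
    rintro _ ⟨k, hk, v, rfl⟩ z hz
    have h1 : Subgroup.closure S ≤ Subgroup.centralizer {xg R (k : ℕ) v} := by
      rw [Subgroup.closure_le]
      rintro _ ⟨k', hk', v', rfl⟩
      exact Subgroup.mem_centralizer_singleton_iff.2 (E.comm k' hk' k hk v' v)
    exact Subgroup.mem_centralizer_singleton_iff.1 (h1 hz)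
  intro y hy z hz
  have h1 : Subgroup.closure S ≤ Subgroup.centralizer {z} := by
    rw [Subgroup.closure_le]
    intro a ha
    exact Subgroup.mem_centralizer_singleton_iff.2 (h0 a ha z hz).symm
  exact Subgroup.mem_centralizer_singleton_iff.1 (h1 hy)

include E in
/-- `U` moves the elements of `A` within their `A₁`-cosets -/
theorem conj_U {u : GL D.Idx F} (hu : u ∈ (chevSys R X).U) :
    ∀ a ∈ Subgroup.closure {g | ∃ k ∈ b ++ p1, ∃ v : F, g = xg R ((k : Fin D.nroots) : ℕ) v},
      u * a * u⁻¹ * a⁻¹ ∈ A1 R p1 := by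
  set A := Subgroup.closure {g | ∃ k ∈ b ++ p1, ∃ v : F, g = xg R ((k : Fin D.nroots) : ℕ) v} with hA
  have hA1 : A1 R p1 ≤ A := by
    rw [Subgroup.closure_le]
    rintro _ ⟨k, hk, v, rfl⟩
    exact Subgroup.subset_closure ⟨k, by simp [hk], v, rfl⟩
  have hAc : ∀ y ∈ A, ∀ z ∈ A, Commute y z := E.A_comm
  have step : ∀ r, (comb X).pos r → ∀ t : F, ∀ a ∈ A,
      xg R (r : ℕ) t * a * (xg R (r : ℕ) t)⁻¹ * a⁻¹ ∈ A1 R p1 := by
    intro r hr t a ha
    rw [hA] at ha
    induction ha using Subgroup.closure_induction with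
    | mem y hy =>
      obtain ⟨k, hk, v, rfl⟩ := hy
      exact E.conj r hr k hk t v
    | one => simp
    | mul y z hy hz h1 h2 =>
      have e : xg R (r : ℕ) t * (y * z) * (xg R (r : ℕ) t)⁻¹ * (y * z)⁻¹ =
          (xg R (r : ℕ) t * y * (xg R (r : ℕ) t)⁻¹ * y⁻¹) *
          (y * (xg R (r : ℕ) t * z * (xg R (r : ℕ) t)⁻¹ * z⁻¹) * y⁻¹) := by simp [mul_assoc]
      rw [e]
      refine (A1 R p1).mul_mem h1 ?_
      rw [(hAc y hy _ (hA1 h2)).eq, mul_assoc, mul_inv_cancel, mul_one]
      exact h2
    | inv y hy h1 =>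
      have e : xg R (r : ℕ) t * y⁻¹ * (xg R (r : ℕ) t)⁻¹ * y⁻¹⁻¹ =
          y⁻¹ * (xg R (r : ℕ) t * y * (xg R (r : ℕ) t)⁻¹ * y⁻¹)⁻¹ * y := by simp [mul_assoc]
      rw [e, (hAc y⁻¹ (A.inv_mem hy) _ (A.inv_mem (hA1 h1))).eq, mul_assoc, inv_mul_cancel, mul_one]
      exact (A1 R p1).inv_mem h1
  have hle : (chevSys R X).U ≤ { carrier := {u | (∀ a ∈ A, u * a * u⁻¹ * a⁻¹ ∈ A1 R p1) ∧
        (∀ a ∈ A, u⁻¹ * a * u * a⁻¹ ∈ A1 R p1)}
                                 mul_mem' := by
                                  rintro u v ⟨hu1, hu2⟩ ⟨hv1, hv2⟩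
                                  constructor
                                  · intro a ha
                                    have h1 := hv1 a ha
                                    have h2 := hu1 _ (A.mul_mem (hA1 h1) ha)
                                    have h3 := (A1 R p1).mul_mem h2 h1
                                    have e : u * v * a * (u * v)⁻¹ * a⁻¹ =
                                      u * (v * a * v⁻¹ * a⁻¹ * a) * u⁻¹ *
                                      (v * a * v⁻¹ * a⁻¹ * a)⁻¹ * (v * a * v⁻¹ * a⁻¹) := by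
                                      simp [mul_assoc]
                                    rw [e]; exact h3
                                  · intro a ha
                                    have h1 := hu2 a ha
                                    have h2 := hv2 _ (A.mul_mem (hA1 h1) ha)
                                    have h3 := (A1 R p1).mul_mem h2 h1
                                    have e : (u * v)⁻¹ * a * (u * v) * a⁻¹ =
                                      v⁻¹ * (u⁻¹ * a * u * a⁻¹ * a) * v *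
                                      (u⁻¹ * a * u * a⁻¹ * a)⁻¹ * (u⁻¹ * a * u * a⁻¹) := by
                                      simp [mul_assoc]
                                    rw [e]; exact h3
                                 one_mem' := ⟨fun a _ => by simp, fun a _ => by simp⟩
                                 inv_mem' := by
                                  rintro u ⟨hu1, hu2⟩
                                  exact ⟨fun a ha => by rw [inv_inv]; exact hu2 a ha,
                                    fun a ha => by rw [inv_inv]; exact hu1 a ha⟩ } := by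
    refine (chevSys R X).U_le fun r hr y hy => ?_
    rw [chevSys_X, mem_rootSubgroup R] at hy
    obtain ⟨t, rfl⟩ := hy
    refine ⟨step r hr t, fun a ha => ?_⟩
    have := step r hr (-t) a ha
    rwa [← xg_inv, inv_inv] at this
  exact (hle hu).1

theorem exists_eps {n : GL D.Idx F} {w : Equiv.Perm (Fin D.nroots)} (hn : (chevSys R X).Rep n w) :
    ∃ ε : Fin D.nroots → F, (∀ s, ε s ≠ 0) ∧ ∀ (s : Fin D.nroots) (t : F),
      n * xg R (s : ℕ) t * n⁻¹ = xg R (w s : ℕ) (ε s * t) := by
  obtain ⟨L, rfl⟩ := (comb X).exists_word hn.2.1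
  have hl := (chevSys R X).rep_nw L
  have hh : n * ((chevSys R X).nw L)⁻¹ ∈ Hs R := by
    have := hn.mul hl.inv
    rw [mul_inv_cancel] at this
    have h1 := (chevSys R X).mem_H_of_rep_one this
    rw [chevSys_H, diagonalSubgroup_eq R X] at h1
    exact h1
  obtain ⟨χ, h1, h2, _⟩ := H47.ChevSub.exists_char R X.rc hh
  obtain ⟨η, h3, h4⟩ := exists_sign_word R X L
  refine ⟨fun s => χ ((comb X).w L s : Fin D.nroots) * η s, fun s => ?_, fun s t => ?_⟩
  · refine mul_ne_zero (h1 _) ?_
    rcases (h3 s).1 with h | h <;> rw [h] <;> simp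
  · have e : n * xg R (s : ℕ) t * n⁻¹ = (n * ((chevSys R X).nw L)⁻¹) *
        ((chevSys R X).nw L * xg R (s : ℕ) t * ((chevSys R X).nw L)⁻¹) *
        (n * ((chevSys R X).nw L)⁻¹)⁻¹ := by simp [mul_assoc]
    rw [e, ← nsw_eq_nw R X, h4, nsw_eq_nw R X, h2 _ ((comb X).w L s).2, mul_assoc]

include E in
theorem MJ_comm {m : GL D.Idx F} (hm : m ∈ MJ R J) : Commute m (LP R b (fun _ => 1)) := by
  have h : MJ R J ≤ Subgroup.centralizer {LP R b (fun _ => (1 : F))} := by
    unfold MJ
    rw [Subgroup.closure_le]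
    rintro _ ⟨j, hj, c, rfl | rfl⟩
    · exact Subgroup.mem_centralizer_singleton_iff.2
        (LP_comm R fun r hr => (E.mcomm j hj r hr c 1).1)
    · exact Subgroup.mem_centralizer_singleton_iff.2
        (LP_comm R fun r hr => (E.mcomm j hj r hr c 1).2)
  exact Subgroup.mem_centralizer_singleton_iff.1 (h hm)

include E Z in
/-- The centraliser theorem. -/
theorem cent {g : GL D.Idx F} (hg : g ∈ D.group F) (hgz : Commute g (LP R b (fun _ => 1))) :
    ∃ v ∈ (chevSys R X).U, Commute v (LP R b (fun _ => 1)) ∧ ∃ m ∈ MJ R J, g = v * m := by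
  set S := chevSys R X with hS
  set z := LP R b (fun _ => (1 : F)) with hz
  set A := Subgroup.closure {g | ∃ k ∈ b ++ p1, ∃ v : F, g = xg R ((k : Fin D.nroots) : ℕ) v} with hA
  have hAc : ∀ y ∈ A, ∀ z ∈ A, Commute y z := E.A_comm
  have hA1 : A1 R p1 ≤ A := by
    rw [Subgroup.closure_le]
    rintro _ ⟨k, hk, v, rfl⟩
    exact Subgroup.subset_closure ⟨k, by simp [hk], v, rfl⟩
  have hzA : z ∈ A := LP_mem R fun s hs => Subgroup.subset_closure ⟨s, by simp [hs], 1, rfl⟩
  have hdisj : ∀ r ∈ p1, r ∉ b := fun r hr hb => (List.nodup_append.1 E.nodup).2.2 r hb r hr rfl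
  have coords : ∀ y ∈ S.U, ∃ c : Fin D.nroots → F, (∀ r ∈ b, c r = 1) ∧
      y * z * y⁻¹ = LP R (b ++ p1) c := by
    intro y hy
    obtain ⟨c1, hc1⟩ := E.mem_A1 (E.conj_U hy z hzA)
    refine ⟨fun r => if r ∈ b then 1 else c1 r, fun r hr => if_pos hr, ?_⟩
    have e : y * z * y⁻¹ = (y * z * y⁻¹ * z⁻¹) * z := by simp
    rw [e, (hAc _ (hA1 (E.conj_U hy z hzA)) z hzA).eq, hc1, LP_append]
    congr 1
    · exact LP_congr R fun r hr => (if_pos hr).symm
    · exact LP_congr R fun r hr => (if_neg (hdisj r hr)).symm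
  have hgΓ : g ∈ S.Γ := by rw [hS, chevSys_Γ]; exact hg
  obtain ⟨β, hβ, n, w, hn, u, hu, rfl⟩ := S.normal_form hgΓ
  obtain ⟨v, hv, h, hh, rfl⟩ := S.mem_B.1 hβ
  have huU := S.Um_le_U w hu
  have hN : S.Rep (h * n) w := by
    have := (S.rep_H hh).mul hn
    rwa [one_mul] at this
  obtain ⟨ε, hε, hεn⟩ := exists_eps hN
  obtain ⟨c, hc1, hc⟩ := coords u huU
  obtain ⟨d, hd1, hd⟩ := coords v⁻¹ (S.U.inv_mem hv)
  have key : (h * n) * LP R (b ++ p1) c * (h * n)⁻¹ = LP R (b ++ p1) d := by
    rw [← hc, ← hd]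
    have e : v * h * n * u * z = z * (v * h * n * u) := hgz.eq
    calc (h * n) * (u * z * u⁻¹) * (h * n)⁻¹ = v⁻¹ * (v * h * n * u * z) * u⁻¹ * n⁻¹ * h⁻¹ := by
          simp [mul_assoc]
      _ = v⁻¹ * (z * (v * h * n * u)) * u⁻¹ * n⁻¹ * h⁻¹ := by rw [e]
      _ = _ := by simp [mul_assoc]
  have hsup := support R Z hε hεn E.nodup E.pos E.comm key
  have hwb : ∀ r ∈ b, w r ∈ b ++ p1 := fun r hr =>
    (hsup r (by simp [hr]) (by rw [hc1 r hr]; exact one_ne_zero)).1
  have hlam : ∀ j, lam X b x 1 j ≤ lam X b x w j := by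
    intro j
    unfold lam
    apply List.sum_le_sum
    intro r hr
    exact mul_le_mul_of_nonneg_left (E.orbit r hr w hn.2.1 (hwb r hr) j) (E.x_nonneg r hr)
  obtain ⟨L, hL, rfl⟩ := (dom b x E.cc_nonneg _ w hn.2.1 rfl).2 hlam
  have hLJ : ∀ i ∈ L, J i := fun i hi => E.cc_J i (hL i hi)
  have hnL : S.nw L ∈ MJ R J := nw_mem_MJ R hLJ
  have huM : u ∈ MJ R J := Um_le_MJ R hLJ hu
  have hh1 : h * n * (S.nw L)⁻¹ ∈ S.H := by
    have := hN.mul (S.rep_nw L).inv
    rw [mul_inv_cancel] at this
    exact S.mem_H_of_rep_one this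
  set h1 := h * n * (S.nw L)⁻¹ with hh1d
  have hm : S.nw L * u ∈ MJ R J := (MJ R J).mul_mem hnL huM
  have hmz := E.MJ_comm hm
  have hge : v * h * n * u = v * h1 * (S.nw L * u) := by rw [hh1d]; simp [mul_assoc]
  have hvh : Commute (v * h1) z := by
    have e : v * h1 = (v * h * n * u) * (S.nw L * u)⁻¹ := by rw [hge]; simp [mul_assoc]
    rw [e]; exact hgz.mul_left hmz.inv_left
  have hh1' : h1 ∈ Hs R := by rw [← diagonalSubgroup_eq R X]; exact hh1
  obtain ⟨χ, hχ1, hχ2, _⟩ := H47.ChevSub.exists_char R X.rc hh1'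
  have e1 : h1 * z * h1⁻¹ = LP R b (fun r => χ r * 1) := by
    have h2 : ∀ l : List (Fin D.nroots), h1 * LP R l (fun _ => (1 : F)) * h1⁻¹ =
        LP R l (fun r => χ r * 1) := by
      intro l
      induction l with
      | nil => simp
      | cons s l ih =>
        rw [LP_cons, LP_cons, ← ih, ← hχ2 s s.2]
        simp [mul_assoc]
    exact h2 b
  have e2 : h1 * z * h1⁻¹ = LP R (b ++ p1) d := by
    rw [← hd, inv_inv]
    have e : v * h1 * z = z * (v * h1) := hvh.eq
    calc h1 * z * h1⁻¹ = v⁻¹ * (v * h1 * z) * h1⁻¹ := by simp [mul_assoc]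
      _ = v⁻¹ * (z * (v * h1)) * h1⁻¹ := by rw [e]
      _ = _ := by simp [mul_assoc]
  have hχb : ∀ r ∈ b, χ r = 1 := by
    intro r hr
    have hbp : ∀ r ∈ b, (comb X).pos r := fun r hr => E.pos r (by simp [hr])
    have h3 := LP_inj R Z (List.nodup_append.1 E.nodup).1 hbp
      (fun r hr s hs => E.comm r (by simp [hr]) s (by simp [hs])) E.nodup E.pos E.comm
      (e1.symm.trans e2) r (hbp r hr)
    rw [if_pos hr, if_pos (by simp [hr]), hd1 r hr, mul_one] at h3
    exact h3
  have hh1c : ∀ r ∈ b, ∀ t : F, Commute h1 (xg R (r : ℕ) t) := by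
    intro r hr t
    have h4 := hχ2 r r.2 t
    rw [hχb r hr, one_mul] at h4
    exact mul_inv_eq_iff_eq_mul.1 h4
  have hh1z : Commute h1 z := LP_comm R fun r hr => hh1c r hr 1
  refine ⟨v, hv, ?_, h1 * (S.nw L * u), (MJ R J).mul_mem (E.torus h1 hh1' hh1c) hm, ?_⟩
  · have e : v = v * h1 * h1⁻¹ := by simp
    rw [e]; exact hvh.mul_left hh1z.inv_left
  · rw [hge, mul_assoc]

end Hyp

end H47.RootCent
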