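import Cfsg.Agent.Lib.H47.WEnum
import Cfsg.Agent.Lib.H22.PoinF4

/-!
Polynomial identities for the elements of the Weyl group of type F4.
-/

set_option autoImplicit false
set_option maxRecDepth 100000
set_option maxHeartbeats 2000000

namespace H47.WEnumF4

open H22.RGD H22.Coord H47.Alcove H47.HomoCert H22.Poincare H47.WEnum H22.PoinF4

/-- coset representatives -/
def reps : List (List (List ℕ)) := [[[], [0]],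
  [[], [1], [1, 0]],
  [[], [2], [2, 1], [2, 1, 0], [2, 1, 2], [2, 1, 0, 2], [2, 1, 0, 2, 1], [2, 1, 0, 2, 1, 2]],
  [[], [3], [3, 2], [3, 2, 1], [3, 2, 1, 0], [3, 2, 1, 2], [3, 2, 1, 0, 2], [3, 2, 1, 2, 3], [3, 2, 1, 0, 2, 1], [3, 2, 1, 0, 2, 3], [3, 2, 1, 0, 2, 1, 2], [3, 2, 1, 0, 2, 1, 3], [3, 2, 1, 0, 2, 1, 2, 3], [3, 2, 1, 0, 2, 1, 3, 2], [3, 2, 1, 0, 2, 1, 2, 3, 2], [3, 2, 1, 0, 2, 1, 3, 2, 1], [3, 2, 1, 0, 2, 1, 2, 3, 2, 1], [3, 2, 1, 0, 2, 1, 3, 2, 1, 0], [3, 2, 1, 0, 2, 1, 2, 3, 2, 1, 0], [3, 2, 1, 0, 2, 1, 2, 3, 2, 1, 2], [3, 2, 1, 0, 2, 1, 2, 3, 2, 1, 0, 2], [3, 2, 1, 0, 2, 1, 2, 3, 2, 1, 0, 2, 1], [3, 2, 1, 0, 2, 1, 2, 3, 2, 1, 0, 2, 1, 2], [3, 2, 1, 0, 2, 1, 2, 3, 2, 1, 0, 2, 1, 2, 3]]]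

theorem okReps_F4 : okReps rows 4 reps = true := by decide +kernel

/-- the check -/
def chkF4 (M : List (List ℤ)) : Bool :=
  (!(pchk 4 [1, 0, 1, 0] M) || (pchk 4 [1, 1] M || pchk 4 [1, -1] M)) &&
    ((!(pchk 4 [1, 1, 2, 1] M) || (pchk 4 [1, 1] M || pchk 4 [1, 0] M)) &&
      (!(pchk 4 [1, -1, 2, -1] M) || (pchk 4 [1, -1] M || pchk 4 [1, 0] M)))

theorem goF4 : go rows reps (st rows 4 []) chkF4 = true := by decide +kernel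

end H47.WEnumF4
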