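import Cfsg.Agent.Lib.H47.CertEx
import Cfsg.Agent.Lib.H47.WEnumF4
import Cfsg.Agent.Lib.H47.HomoF4
import Cfsg.Agent.Lib.H22.CoxCalc

/-!
Element orders of the finite Chevalley groups of type F4 in characteristic 2: products of two primes.
-/

set_option autoImplicit false
set_option linter.unusedVariables false
set_option maxRecDepth 10000

namespace H47.SpecF4

open H22.RGD H22.Coord H22.RCCheck H22.RCComb H22.ChevTri H22.ChevRel H22.ChevSys H22.ChevMain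
open H22.ChevStd H22.ChevSolv H22.ChevUni H47.ChevSub H47.Alcove H47.LangCent H47.TorAll H47.SemiTor
open H47.FixPt H22.ChevTorus H47.HomoTor H47.JorTor H47.UniFlag H22.LangChev H47.HomoCert H47.WEnum
open H22.Poincare H47.MixEx H47.CertEx H47.CycW H47.WEnumF4 H22.PoinF4 H47.HomoData
open Polynomial
open Cfsg.Lie (ChevalleyDatum)

/-! ### cyclotomic polynomials -/

theorem poly3 : poly [1, 1] = cyclotomic 3 ℤ := by
  rw [cyclotomic_three]; simp only [poly, map_one]; ring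

theorem poly4 : poly [1, 0] = cyclotomic 4 ℤ := by
  have h := cyclotomic_prime_pow_eq_geom_sum (R := ℤ) (n := 1) Nat.prime_two
  norm_num [Finset.sum_range_succ] at h
  rw [h]; simp only [poly, map_one, map_zero]; ring

theorem poly6 : poly [1, -1] = cyclotomic 6 ℤ := by
  rw [cyclotomic_six]; simp only [poly, map_one, map_neg]; ring

theorem poly36 : poly [1, 0, 1, 0] = cyclotomic 3 ℤ * cyclotomic 6 ℤ := by
  rw [← poly3, ← poly6]; simp only [poly, map_one, map_zero, map_neg]; ring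

theorem poly34 : poly [1, 1, 2, 1] = cyclotomic 3 ℤ * cyclotomic 4 ℤ := by
  rw [← poly3, ← poly4]; simp only [poly, map_one, map_zero, map_ofNat]; ring

theorem poly46 : poly [1, -1, 2, -1] = cyclotomic 4 ℤ * cyclotomic 6 ℤ := by
  rw [← poly4, ← poly6]; simp only [poly, map_one, map_zero, map_neg, map_ofNat]; ring

/-! ### certificates -/

def c12 : Ct := ⟨[3], [-1, 0], [[0, 0, 0, -1]], [[0, 0, -1, 0]]⟩
def c13 : Ct := ⟨[3, 2], [-1, 0, 0], [[0, 0, 0, -1]], [[0, -1, -1, 0]]⟩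
def c14 : Ct := ⟨[2, 1], [-1, 1, -1], [[0, 0, -1, 0]], [[-1, -1, 0, 0]]⟩
def c16 : Ct := ⟨[3, 2, 1], [-1, 2, -2], [[0, 0, -1, 0]], [[-1, -1, 0, 0]]⟩
def c23 : Ct := ⟨[1, 0, 3], [1, 2, 2], [[-1, -1, 1, 2]], [[0, -1, -1, 0]]⟩
def c24 : Ct := ⟨[2, 1, 3, 2, 1], [1, 1, 1], [[-1, 0, 1, 0]], [[1, 1, 1, 0]]⟩
def c26 : Ct := ⟨[3, 2, 1], [1, 0, 0], [[0, 0, -1, 2]], [[1, 1, 0, 0]]⟩
def c11 : Ct := ⟨[], [-1], [[-1, 0, 0, 0]], [[-1, 0, 0, 0]]⟩
def c22 : Ct := ⟨[3], [1], [[0, 0, -1, 2]], [[0, 0, -1, 0]]⟩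
def c33 : Ct := ⟨[3, 2], [1, 1], [[0, -1, 1, 1]], [[0, -1, -1, 0]]⟩
def c44 : Ct := ⟨[2, 1], [1, 0], [[-1, 1, 0, -1]], [[-1, -1, 0, 0]]⟩
def c66 : Ct := ⟨[3, 2, 1], [1, -1], [[-1, 0, 1, 0]], [[0, -1, 0, 0]]⟩
def c88 : Ct := ⟨[3, 2, 1, 0, 2, 1], [1, 0, 0, 0], [[0, 0, 0, -1]], [[0, 1, 1, 0]]⟩
def cxx : Ct := ⟨[3, 2, 1, 0], [1, 0, -1, 0], [[0, 0, -1, 0]], [[-1, 0, 0, -1]]⟩
def d2 : Ct := ⟨[3], [1], [[0, 0, -1, 2]], [[0, 0, -1, 0]]⟩
def d3 : Ct := ⟨[3, 2], [1, 1], [[0, -1, 1, 1]], [[0, -1, -1, 0]]⟩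
def d4 : Ct := ⟨[1, 0, 3, 2, 1, 0, 2, 1], [1, 0], [[0, -1, 1, 0]], [[0, 1, 1, 0]]⟩
def d6 : Ct := ⟨[2, 1, 0, 3, 2, 1, 0, 2, 1], [1, -1], [[0, 0, 0, -1]], [[0, 0, -1, 0]]⟩

theorem oks : ∀ c ∈ [c12, c13, c14, c16, c23, c24, c26, c11, c22, c33, c44, c66, c88, cxx, d2, d3, d4, d6],
    c.ok rows 4 = true := by
  intro c hc
  simp only [List.mem_cons, List.not_mem_nil, or_false] at hc
  rcases hc with rfl | rfl | rfl | rfl | rfl | rfl | rfl | rfl | rfl | rfl | rfl | rfl | rfl | rfl | rfl |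
    rfl | rfl | rfl <;> decide +kernel

theorem fixs : ∀ c ∈ [d2, d3, d4, d6], mc (st rows 4 c.L) (ue 4 0) = ue 4 0 := by
  intro c hc
  simp only [List.mem_cons, List.not_mem_nil, or_false] at hc
  rcases hc with rfl | rfl | rfl | rfl <;> decide +kernel

/-! ### the group -/

theorem conn {K : Type*} [Field K] (R : Rel Cfsg.Lie.chevF4 K) {a : GL Cfsg.Lie.chevF4.Idx K}
    (ha : a ∈ Hs R) (haf : IsOfFinOrder a) : Conn R rcxF4 a :=
  Conn_all R rcxF4 (a0 := ⟨47, by decide +kernel⟩) (by decide +kernel)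
    ((comb_pos_iff _ _).2 (by decide +kernel)) ha haf

theorem triv {K : Type*} [Field K] (R : Rel Cfsg.Lie.chevF4 K) {a : GL Cfsg.Lie.chevF4.Idx K}
    (ha : a ∈ Hs R) (haf : IsOfFinOrder a) : Triv R rcxF4 a :=
  Triv_all R rcxF4 (a0 := ⟨47, by decide +kernel⟩) (by decide +kernel)
    ((comb_pos_iff _ _).2 (by decide +kernel)) ha haf

theorem dt1 : dt rcxF4 = 1 := dt_eq_one H47.HomoF4.adj_mul

theorem cardW : Nat.card (comb rcxF4).W = 1152 :=
  ((H22.CoxCalc.card_W (l := 4) (comb rcxF4)).trans (H22.PoinF4.poincare 1)).trans (by decide)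

section

variable {F : Type*} [Field F] [Fintype F] {n : ℕ} (hF : Fintype.card F = 2 ^ n)

include hF in
theorem charp : CharP F 2 := by
  have : Fact (Nat.Prime 2) := ⟨Nat.prime_two⟩
  obtain ⟨p, hp⟩ := CharP.exists F
  obtain ⟨m, hpp, hm⟩ := FiniteField.card F p
  have h1 : p = 2 := by
    have h2 : p ∣ 2 ^ n := by rw [← hF, hm]; exact dvd_pow_self _ m.ne_zero
    exact (Nat.prime_dvd_prime_iff_eq hpp Nat.prime_two).1 (hpp.dvd_of_dvd_pow h2)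
  rwa [h1] at hp

include hF in
/-- elements of order `m` from a certificate -/
theorem ex_semi {m : ℕ} (hm : 0 < m) (hm2 : ¬ 2 ∣ m) (ct : Ct) (hct : ct.ok rows 4 = true)
    (hlen : 0 < ct.b.length) (hdvd : (m : ℤ) ∣ hz ct.P (2 ^ n : ℕ)) :
    ∃ g : ↥(Cfsg.Lie.chevF4.group F), orderOf g = m := by
  have : Fact (Nat.Prime 2) := ⟨Nat.prime_two⟩
  have := charp hF
  have : CharP (AlgebraicClosure F) 2 := charP_of_injective_algebraMap
    (algebraMap F (AlgebraicClosure F)).injective 2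
  exact cert_semi 2 (H22.ChevAll.rel Cfsg.Lie.chevF4 (by simp) F)
    (H22.ChevAll.rel Cfsg.Lie.chevF4 (by simp) (AlgebraicClosure F)) H22.ChevLex.lexF4 rowsOk hF hm hm2
    (by rw [dt1]; exact Nat.coprime_one_left m) ct hct hlen hdvd

include hF in
theorem ex_mixed {m : ℕ} (hm : 0 < m) (hm2 : ¬ 2 ∣ m) (ct : Ct) (hct : ct.ok rows 4 = true)
    (hlen : 0 < ct.b.length) (hfix : mc (st rows 4 ct.L) (ue 4 0) = ue 4 0)
    (hdvd : (m : ℤ) ∣ hz ct.P (2 ^ n : ℕ)) (hq1 : IsCoprime ((2 ^ n : ℕ) - 1 : ℤ) m) :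
    ∃ g : ↥(Cfsg.Lie.chevF4.group F), orderOf g = m * 2 := by
  have : Fact (Nat.Prime 2) := ⟨Nat.prime_two⟩
  have := charp hF
  have : CharP (AlgebraicClosure F) 2 := charP_of_injective_algebraMap
    (algebraMap F (AlgebraicClosure F)).injective 2
  exact cert_mixed 2 (H22.ChevAll.rel Cfsg.Lie.chevF4 (by simp) F)
    (H22.ChevAll.rel Cfsg.Lie.chevF4 (by simp) (AlgebraicClosure F)) H22.ChevLex.lexF4 rowsOk hF hm hm2
    (by rw [dt1]; exact Nat.coprime_one_left _) ct hct hlen ⟨0, by decide⟩ hfix hdvd hq1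

include hF in
/-- elements of order `2 m` with `m` dividing `q - 1` -/
theorem ex_mixed1 {m : ℕ} (hm : 0 < m) (hm2 : ¬ 2 ∣ m) (hdvd : (m : ℤ) ∣ (2 ^ n : ℕ) - 1) :
    ∃ g : ↥(Cfsg.Lie.chevF4.group F), orderOf g = m * 2 := by
  have : Fact (Nat.Prime 2) := ⟨Nat.prime_two⟩
  have := charp hF
  have : CharP (AlgebraicClosure F) 2 := charP_of_injective_algebraMap
    (algebraMap F (AlgebraicClosure F)).injective 2
  refine exists_mixed 2 (H22.ChevAll.rel Cfsg.Lie.chevF4 (by simp) F)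
    (H22.ChevAll.rel Cfsg.Lie.chevF4 (by simp) (AlgebraicClosure F)) H22.ChevLex.lexF4 hF hm hm2
    (by rw [dt1]; exact Nat.coprime_one_left _) (w := 1) (one_mem _)
    ((comb rcxF4).simple (⟨0, by decide⟩ : Fin 4)) rfl
    (fun j : Fin 4 => if j.val = 1 then 1 else 0) (fun j : Fin 4 => if j.val = 1 then 1 else 0) (δ := 1)
    ?_ ?_ ?_ isCoprime_one_left
  · have h1 := ev_simple (coord rcxF4) (fun j : Fin 4 => if j.val = 1 then 1 else 0) (⟨0, by decide⟩ : Fin 4)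
    rw [h1]; exact ⟨0, by simp⟩
  · intro s
    have e : ev (coord rcxF4) (fun j : Fin 4 => if j.val = 1 then 1 else 0) ((1 : Equiv.Perm (Fin Cfsg.Lie.chevF4.nroots)) s) -
        ((2 ^ n : ℕ) : ℤ) * ev (coord rcxF4) (fun j : Fin 4 => if j.val = 1 then 1 else 0) s =
        -(((2 ^ n : ℕ) - 1 : ℤ) * ev (coord rcxF4) (fun j : Fin 4 => if j.val = 1 then 1 else 0) s) := by
      rw [Equiv.Perm.one_apply]; ring
    rw [e, dvd_neg]; exact hdvd.mul_right _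
  · show ∑ j : Fin 4, _ = _
    decide

end

end H47.SpecF4
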