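import Cfsg.Agent.Lib.H47.MixUp
import Cfsg.Agent.Lib.H47.SpecF4

/-!
Element orders of the finite Chevalley groups of type F4 in characteristic 2: products of two primes
which are not orders of elements.
-/

set_option autoImplicit false
set_option linter.unusedVariables false
set_option maxRecDepth 10000

namespace H47.SpecF4

open H22.RGD H22.Coord H22.RCCheck H22.RCComb H22.ChevTri H22.ChevRel H22.ChevSys H22.ChevMain
open H22.ChevStd H22.ChevSolv H22.ChevUni H47.ChevSub H47.Alcove H47.LangCent H47.TorAll H47.SemiTor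
open H47.FixPt H22.ChevTorus H47.HomoTor H47.JorTor H47.UniFlag H22.LangChev H47.HomoCert H47.WEnum
open H22.Poincare H47.MixEx H47.CertEx H47.CycW H47.WEnumF4 H22.PoinF4 H47.HomoData H47.MixUp
open Polynomial
open Cfsg.Lie (ChevalleyDatum)

/-! ### arithmetic -/

section arith

theorem dvd_of_ee {r q : ℕ} [Fact r.Prime] (hrq : ¬ r ∣ q) (hq : 2 ≤ q) {z : ℤ}
    (h : ((r ^ ee r q : ℕ) : ℤ) ∣ z) : (r : ℤ) ∣ z := by
  have h1 := val_order hrq hq
  have hd0 : 0 < orderOf (q : ZMod r) := order_pos hrq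
  have h2 : r ∣ q ^ orderOf (q : ZMod r) - 1 := (order_dvd_iff hrq (by omega) _).1 dvd_rfl
  have h3 : q ^ orderOf (q : ZMod r) - 1 ≠ 0 := by
    have : 2 ^ 1 ≤ q ^ orderOf (q : ZMod r) :=
      (Nat.pow_le_pow_left hq 1).trans (Nat.pow_le_pow_right (by omega) hd0)
    omega
  have h4 := one_le_padicValNat_of_dvd h3 h2
  rw [h1] at h4
  exact (Int.natCast_dvd_natCast.2 (dvd_pow_self r (by omega))).trans h

theorem e_of_cyc {r : ℕ} [Fact r.Prime] {q d : ℕ} (hd : ¬ r ∣ d)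
    (h : (r : ℤ) ∣ (cyclotomic d ℤ).eval (q : ℤ)) : orderOf (q : ZMod r) = d := by
  have : NeZero (d : ZMod r) := ⟨by rw [Ne, ZMod.natCast_eq_zero_iff]; exact hd⟩
  have h1 : IsRoot (cyclotomic d (ZMod r)) (q : ZMod r) := by
    have h2 : (((cyclotomic d ℤ).eval (q : ℤ) : ℤ) : ZMod r) = 0 :=
      (ZMod.intCast_zmod_eq_zero_iff_dvd _ _).2 h
    have h3 : (((cyclotomic d ℤ).eval (q : ℤ) : ℤ) : ZMod r) =
        ((cyclotomic d ℤ).map (Int.castRingHom (ZMod r))).eval (((q : ℤ) : ZMod r)) := by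
      rw [eval_map]
      exact (eval₂_at_apply (Int.castRingHom (ZMod r)) (q : ℤ)).symm
    rw [IsRoot, ← map_cyclotomic_int]
    rw [h3, Int.cast_natCast] at h2
    exact h2
  exact ((isRoot_cyclotomic_iff.1 h1).eq_orderOf).symm

theorem cyc12 : (cyclotomic 12 ℤ) = X ^ 4 - X ^ 2 + 1 := by
  have h := cyclotomic_expand_eq_cyclotomic (p := 2) (n := 6) Nat.prime_two (by norm_num) ℤ
  rw [cyclotomic_six] at h
  rw [show (12 : ℕ) = 6 * 2 from rfl, ← h]
  simp only [map_sub, map_add, map_pow, map_one, expand_X]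
  ring

theorem prime_dvd_12 {r : ℕ} (hr : r.Prime) (h : r ∣ 12) : r = 2 ∨ r = 3 := by
  rw [show 12 = 2 ^ 2 * 3 from rfl, hr.dvd_mul] at h
  rcases h with h | h
  · exact Or.inl ((Nat.prime_dvd_prime_iff_eq hr Nat.prime_two).1 (hr.dvd_of_dvd_pow h))
  · exact Or.inr ((Nat.prime_dvd_prime_iff_eq hr Nat.prime_three).1 h)

theorem e8 {r : ℕ} [hr : Fact r.Prime] (hr2 : r ≠ 2) {q : ℕ} (h : (r : ℤ) ∣ (cyclotomic 8 ℤ).eval (q : ℤ)) :
    orderOf (q : ZMod r) = 8 := by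
  refine e_of_cyc (fun h8 => hr2 ?_) h
  rw [show 8 = 2 ^ 3 from rfl] at h8
  exact (Nat.prime_dvd_prime_iff_eq hr.out Nat.prime_two).1 (hr.out.dvd_of_dvd_pow h8)

theorem zm3 : ∀ z : ZMod 3, z ^ 4 - z ^ 2 + 1 ≠ 0 := by decide

theorem e12 {r : ℕ} [hr : Fact r.Prime] (hr2 : r ≠ 2) {q : ℕ} (h : (r : ℤ) ∣ (cyclotomic 12 ℤ).eval (q : ℤ)) :
    orderOf (q : ZMod r) = 12 := by
  refine e_of_cyc (fun h8 => ?_) h
  rcases prime_dvd_12 hr.out h8 with h1 | h1
  · exact hr2 h1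
  · subst h1
    rw [cyc12] at h
    simp only [eval_add, eval_sub, eval_pow, eval_X, eval_one] at h
    have h2 := (ZMod.intCast_zmod_eq_zero_iff_dvd _ _).2 h
    push_cast at h2
    exact zm3 _ h2

theorem ndvd1152 {s : ℕ} (hs : s.Prime) (h : 5 ≤ s) : ¬ s ∣ 1152 := by
  intro h1
  rw [show 1152 = 2 ^ 7 * 3 ^ 2 from rfl, hs.dvd_mul] at h1
  rcases h1 with h1 | h1
  · have := Nat.le_of_dvd (by norm_num) (hs.dvd_of_dvd_pow h1); omega
  · have := Nat.le_of_dvd (by norm_num) (hs.dvd_of_dvd_pow h1); omega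

/-- primes with multiplicative order at least 3 -/
theorem ge_five {s : ℕ} [hs : Fact s.Prime] {q : ℕ} (h0 : orderOf (q : ZMod s) ≠ 0)
    (h : 3 ≤ orderOf (q : ZMod s)) : 5 ≤ s := by
  have hne : (q : ZMod s) ≠ 0 := by
    intro h1
    rw [h1, orderOf_zero] at h0
    exact h0 rfl
  have h2 := ZMod.orderOf_dvd_card_sub_one hne
  have hs2 := hs.out.two_le
  have h3 := Nat.le_of_dvd (by omega) h2
  by_contra h4
  have h5 : s = 4 := by omega
  have := hs.out
  rw [h5] at this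
  exact absurd this (by decide)

end arith

/-! ### polynomial identities from the matrix -/

section conv

variable {Φ : Type*} {l : ℕ} {C : RootComb Φ (Fin l)} (K : CoordSys C)

theorem pchk_of {w : Equiv.Perm Φ} (hw : w ∈ C.W) {M : List (List ℤ)} (h : RepM K w M) {cs : List ℤ}
    (hc : aeval (tau K w) (poly cs) = 0) : pchk l cs M = true := by
  unfold pchk
  rw [List.all_eq_true]
  intro i hi
  rw [beq_iff_eq]
  obtain ⟨h1, h2⟩ := horM_spec K hw h cs (ue_length l i)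
  rw [hc] at h2
  apply List.ext_getElem (by simp [h1])
  intro j hj hj'
  have h3 := congrFun h2 ⟨j, by omega⟩
  unfold toF at h3
  rw [List.getD_eq_getElem _ _ hj] at h3
  rw [h3]; simp

/-- functionals of exact order are nonzero modulo the prime divisors -/
theorem nz {m r : ℕ} (hr : r.Prime) (hm : 0 < m) (hrm : r ∣ m) {x : Fin l → ℤ}
    (hprim : ∀ c : ℤ, (∀ s : Φ, (m : ℤ) ∣ c * ev K x s) → (m : ℤ) ∣ c) : ¬ ∀ j, (r : ℤ) ∣ x j := by
  intro h
  obtain ⟨m', rfl⟩ := hrm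
  have h1 : ∀ s, (r : ℤ) ∣ ev K x s := by
    intro s
    unfold ev
    exact Finset.dvd_sum fun j _ => (h j).mul_right _
  have h2 := hprim (m' : ℤ) fun s => by
    rw [Nat.cast_mul, mul_comm (r : ℤ)]
    exact mul_dvd_mul_left _ (h1 s)
  have h3 := Nat.le_of_dvd (Nat.pos_of_ne_zero (by rintro rfl; omega)) (Int.natCast_dvd_natCast.1 h2)
  have := hr.two_le
  nlinarith

/-- the eigenvector equation for the matrix -/
theorem tau_eig {w : Equiv.Perm Φ} {m q : ℤ} {x : Fin l → ℤ}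
    (hx : ∀ s, m ∣ ev K x (w s) - q * ev K x s) (j : Fin l) : m ∣ tau K w x j - q * x j := by
  have h1 := hx (C.simple j)
  have h2 := ev_simple K x j
  rw [h2] at h1
  exact h1

theorem dvd_eval {w : Equiv.Perm Φ} {r : ℕ} (hr : r.Prime) {q : ℤ} {x : Fin l → ℤ}
    (hx : ∀ j, (r : ℤ) ∣ tau K w x j - q * x j) (h0 : ¬ ∀ j, (r : ℤ) ∣ x j) {P : ℤ[X]}
    (hP : aeval (tau K w) P = 0) : (r : ℤ) ∣ P.eval q := by
  push Not at h0
  obtain ⟨j, hj⟩ := h0
  have h1 := aeval_eig (tau K w) hx P j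
  rw [hP] at h1
  have h2 : ((0 : (Fin l → ℤ) →ₗ[ℤ] (Fin l → ℤ)) x) j - P.eval q * x j = -(P.eval q * x j) := by simp
  rw [h2, dvd_neg] at h1
  exact ((Nat.prime_iff_prime_int.1 hr).dvd_mul.1 h1).resolve_right hj

theorem tau_card [Finite Φ] {w : Equiv.Perm Φ} (hw : w ∈ C.W) : tau K w ^ Nat.card C.W = 1 := by
  have : Finite C.W := Subtype.finite
  rw [← tau_pow K hw]
  have h1 : (⟨w, hw⟩ : C.W) ^ Nat.card C.W = 1 := pow_card_eq_one'
  have h2 : w ^ Nat.card C.W = 1 := congrArg Subtype.val h1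
  rw [h2, tau_one]

end conv

/-! ### the Weyl group of type F4 -/

section F4

variable {x : Fin 4 → ℤ} {w : Equiv.Perm (Fin Cfsg.Lie.chevF4.nroots)} (hw : w ∈ (comb rcxF4).W)
  {q : ℕ}

include hw in
theorem cycF4 {s : ℕ} [hs : Fact s.Prime] (hx : ∀ j, (s : ℤ) ∣ tau (coord rcxF4) w x j - (q : ℤ) * x j)
    (h0 : ¬ ∀ j, (s : ℤ) ∣ x j) (hs5 : 5 ≤ s) :
    cyclotomic (orderOf (q : ZMod s)) ℤ ∣ LinearMap.charpoly (tau (coord rcxF4) w) := by
  have h1 := cyc_dvd (tau (coord rcxF4) w) (N := Nat.card (comb rcxF4).W) (by rw [cardW]; norm_num)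
    (tau_card (coord rcxF4) hw) (s := s) (by rw [cardW]; exact ndvd1152 hs.out hs5) hx h0
  rwa [Int.cast_natCast] at h1

include hw in
/-- orders 8 and 12 -/
theorem no_a {r s : ℕ} [hr : Fact r.Prime] [hs : Fact s.Prime] (hr2 : r ≠ 2)
    (hxs : ∀ j, (s : ℤ) ∣ tau (coord rcxF4) w x j - (q : ℤ) * x j) (h0s : ¬ ∀ j, (s : ℤ) ∣ x j)
    (hxr : ∀ j, (r : ℤ) ∣ tau (coord rcxF4) w x j - (q : ℤ) * x j) (h0r : ¬ ∀ j, (r : ℤ) ∣ x j)
    (he : orderOf (q : ZMod s) = 8 ∨ orderOf (q : ZMod s) = 12) :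
    orderOf (q : ZMod r) = orderOf (q : ZMod s) := by
  have h5 : 5 ≤ s := ge_five (q := q) (by omega) (by omega)
  have h1 := cycF4 hw hxs h0s h5
  rcases he with he | he
  · rw [he] at h1 ⊢
    have h2 := charpoly_eq (tau (coord rcxF4) w) (cyclotomic.monic 8 ℤ)
      (by rw [natDegree_cyclotomic]; decide) h1
    refine e8 hr2 (dvd_eval (coord rcxF4) hr.out hxr h0r ?_)
    rw [← h2]; exact LinearMap.aeval_self_charpoly _
  · rw [he] at h1 ⊢
    have h2 := charpoly_eq (tau (coord rcxF4) w) (cyclotomic.monic 12 ℤ)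
      (by rw [natDegree_cyclotomic]; decide) h1
    refine e12 hr2 (dvd_eval (coord rcxF4) hr.out hxr h0r ?_)
    rw [← h2]; exact LinearMap.aeval_self_charpoly _

theorem e_of_hz {r : ℕ} [hr : Fact r.Prime] (hr5 : 5 ≤ r) {d : ℕ} (hd : d = 3 ∨ d = 4 ∨ d = 6) {cs : List ℤ}
    (hcs : poly cs = cyclotomic d ℤ) (h : (r : ℤ) ∣ hz cs q) : orderOf (q : ZMod r) = d := by
  refine e_of_cyc (fun h8 => ?_) (by rw [← hcs, eval_poly]; exact h)
  have h12 : r ∣ 12 := h8.trans (by rcases hd with rfl | rfl | rfl <;> decide)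
  rcases prime_dvd_12 hr.out h12 with h1 | h1 <;> omega

include hw in
/-- orders 3, 4, 6 -/
theorem no_b {r s : ℕ} [hr : Fact r.Prime] [hs : Fact s.Prime] {m : ℕ} (hrm : r ∣ m) (hsm : s ∣ m)
    (hx : ∀ t, (m : ℤ) ∣ ev (coord rcxF4) x (w t) - (q : ℤ) * ev (coord rcxF4) x t)
    (h0s : ¬ ∀ j, (s : ℤ) ∣ x j) (h0r : ¬ ∀ j, (r : ℤ) ∣ x j)
    (her : orderOf (q : ZMod r) = 3 ∨ orderOf (q : ZMod r) = 4 ∨ orderOf (q : ZMod r) = 6)
    (hes : orderOf (q : ZMod s) = 3 ∨ orderOf (q : ZMod s) = 4 ∨ orderOf (q : ZMod s) = 6) :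
    ¬ orderOf (q : ZMod r) < orderOf (q : ZMod s) := by
  intro hlt
  have h5r : 5 ≤ r := ge_five (q := q) (by omega) (by omega)
  have h5s : 5 ≤ s := ge_five (q := q) (by omega) (by omega)
  have hx' := tau_eig (coord rcxF4) hx
  have hdr : (r : ℤ) ∣ m := Int.natCast_dvd_natCast.2 hrm
  have hds : (s : ℤ) ∣ m := Int.natCast_dvd_natCast.2 hsm
  have h1 := cycF4 hw (fun j => hds.trans (hx' j)) h0s h5s
  have h2 := cycF4 hw (fun j => hdr.trans (hx' j)) h0r h5r
  have h3 := two_cyc hlt.ne h2 h1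
  obtain ⟨M, hM, hchk⟩ := all_W (coord rcxF4) rowsOk okReps_F4 goF4 w hw
  have hann : ∀ {P : ℤ[X]}, P.Monic → P.natDegree = 4 →
      P ∣ LinearMap.charpoly (tau (coord rcxF4) w) → aeval (tau (coord rcxF4) w) P = 0 := by
    intro P hP hd h
    rw [← charpoly_eq (tau (coord rcxF4) w) hP hd h]
    exact LinearMap.aeval_self_charpoly _
  have hmon : ∀ k k' : ℕ, (cyclotomic k ℤ * cyclotomic k' ℤ).Monic := fun k k' =>
    (cyclotomic.monic k ℤ).mul (cyclotomic.monic k' ℤ)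
  have hdeg : ∀ k k' : ℕ, (cyclotomic k ℤ * cyclotomic k' ℤ).natDegree = k.totient + k'.totient := by
    intro k k'
    rw [(cyclotomic.monic k ℤ).natDegree_mul (cyclotomic.monic k' ℤ), natDegree_cyclotomic,
      natDegree_cyclotomic]
  -- the contradiction from a polynomial identity
  have fin : ∀ {d : ℕ} {cs : List ℤ}, (d = 3 ∨ d = 4 ∨ d = 6) → poly cs = cyclotomic d ℤ →
      pchk 4 cs M = true → False := by
    intro d cs hd hcs hp
    have h4 : ∀ t, (m : ℤ) ∣ hz cs q * ev (coord rcxF4) x t :=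
      dvd_of_pchk (coord rcxF4) hw hM hp hx
    have h6 : ∀ {t : ℕ}, t.Prime → (t : ℤ) ∣ m → (¬ ∀ j, (t : ℤ) ∣ x j) → (t : ℤ) ∣ hz cs q := by
      intro t ht htm h0
      push Not at h0
      obtain ⟨j, hj⟩ := h0
      have h7 := htm.trans (h4 ((comb rcxF4).simple j))
      have h7' : ev (coord rcxF4) x ((comb rcxF4).simple j) = x j := ev_simple (coord rcxF4) x j
      rw [h7'] at h7
      exact ((Nat.prime_iff_prime_int.1 ht).dvd_mul.1 h7).resolve_right hj
    have h8 := e_of_hz h5r hd hcs (h6 hr.out hdr h0r)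
    have h9 := e_of_hz h5s hd hcs (h6 hs.out hds h0s)
    omega
  unfold chkF4 at hchk
  simp only [Bool.and_eq_true, Bool.or_eq_true, Bool.not_eq_true'] at hchk
  obtain ⟨c1, c2, c3⟩ := hchk
  rcases her with her | her | her <;> rcases hes with hes | hes | hes <;>
    first | (exfalso; omega) | skip
  · -- 3, 4
    rw [her, hes] at h3
    have h4 := pchk_of (coord rcxF4) hw hM (cs := [1, 1, 2, 1])
      (by rw [poly34]; exact hann (hmon _ _) (by rw [hdeg]; decide) h3)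
    rcases c2 with c2 | c2 | c2
    · exact absurd (c2.symm.trans h4) (by decide)
    · exact fin (Or.inl rfl) poly3 c2
    · exact fin (Or.inr (Or.inl rfl)) poly4 c2
  · -- 3, 6
    rw [her, hes] at h3
    have h4 := pchk_of (coord rcxF4) hw hM (cs := [1, 0, 1, 0])
      (by rw [poly36]; exact hann (hmon _ _) (by rw [hdeg]; decide) h3)
    rcases c1 with c2 | c2 | c2
    · exact absurd (c2.symm.trans h4) (by decide)
    · exact fin (Or.inl rfl) poly3 c2
    · exact fin (Or.inr (Or.inr rfl)) poly6 c2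
  · -- 4, 6
    rw [her, hes] at h3
    have h4 := pchk_of (coord rcxF4) hw hM (cs := [1, -1, 2, -1])
      (by rw [poly46]; exact hann (hmon _ _) (by rw [hdeg]; decide) h3)
    rcases c3 with c2 | c2 | c2
    · exact absurd (c2.symm.trans h4) (by decide)
    · exact fin (Or.inr (Or.inr rfl)) poly6 c2
    · exact fin (Or.inr (Or.inl rfl)) poly4 c2

end F4

end H47.SpecF4
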