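import Cfsg.Agent.Lib.H47.SpecF4b

/-!
Element orders of the finite Chevalley groups of type F4 in characteristic 2: the prime graph.
-/

set_option autoImplicit false
set_option linter.unusedVariables false
set_option maxRecDepth 10000

namespace H47.SpecF4

open H22.RGD H22.Coord H22.RCCheck H22.RCComb H22.ChevTri H22.ChevRel H22.ChevSys H22.ChevMain
open H22.ChevStd H22.ChevSolv H22.ChevUni H47.ChevSub H47.Alcove H47.LangCent H47.TorAll H47.SemiTor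
open H47.FixPt H22.ChevTorus H47.HomoTor H47.JorTor H47.UniFlag H22.LangChev H47.HomoCert H47.WEnum
open H22.Poincare H47.MixEx H47.CertEx H47.CycW H47.WEnumF4 H22.PoinF4 H47.HomoData H47.MixUp
open Polynomial
open Cfsg.Lie (ChevalleyDatum)

/-- polynomials -/
def PP : ℕ → List ℤ
  | 1 => [-1]
  | 2 => [1]
  | 3 => [1, 1]
  | 4 => [1, 0]
  | 6 => [1, -1]
  | 8 => [1, 0, 0, 0]
  | 12 => [1, 0, -1, 0]
  | _ => []

section

variable {F : Type*} [Field F] [Fintype F] {n : ℕ} (hF : Fintype.card F = 2 ^ n)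

include hF in
/-- odd prime divisors of the order -/
theorem odd_data {r : ℕ} [hr : Fact r.Prime] (hr2 : r ≠ 2)
    (hrG : r ∣ Nat.card ↥(Cfsg.Lie.chevF4.group F)) :
    orderOf ((2 ^ n : ℕ) : ZMod r) ∈ ([1, 2, 3, 4, 6, 8, 12] : List ℕ) ∧
      (r : ℤ) ∣ hz (PP (orderOf ((2 ^ n : ℕ) : ZMod r))) (2 ^ n : ℕ) := by
  have hrq : ¬ r ∣ 2 ^ n := fun h => hr2
    ((Nat.prime_dvd_prime_iff_eq hr.out Nat.prime_two).1 (hr.out.dvd_of_dvd_pow h))
  have hq2 : 2 ≤ 2 ^ n := by rw [← hF]; exact Fintype.one_lt_card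
  have R := H22.ChevAll.rel Cfsg.Lie.chevF4 (by simp) F
  have hmem := order_mem hrq hq2 (hrG.trans (HomoF4.cardDvd hF R))
  obtain ⟨m, hm, hdm⟩ := hmem
  have hds : ∀ m ∈ ([2, 6, 8, 12] : List ℕ), ∀ d ≤ m, d ∣ m → d ∈ ([1, 2, 3, 4, 6, 8, 12] : List ℕ) := by decide
  have hm0 : 0 < m := by
    have : ∀ m ∈ ([2, 6, 8, 12] : List ℕ), 0 < m := by decide
    exact this m hm
  have hd := hds m hm _ (Nat.le_of_dvd hm0 hdm) hdm
  refine ⟨hd, ?_⟩
  simp only [List.mem_cons, List.not_mem_nil, or_false] at hd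
  rcases hd with hd | hd | hd | hd | hd | hd | hd
  · rw [hd]; exact dvd_of_ee hrq hq2 (dv1 hrq hq2 hd)
  · rw [hd]; exact dvd_of_ee hrq hq2 (dv2 hrq hq2 hd)
  · rw [hd]; exact dvd_of_ee hrq hq2 (dv3 hrq hq2 hd)
  · rw [hd]; exact dvd_of_ee hrq hq2 (dv4 hrq hq2 hd)
  · rw [hd]; exact dvd_of_ee hrq hq2 (dv6 hrq hq2 hd)
  · rw [hd]; exact dvd_of_ee hrq hq2 (dv8 hrq hq2 hd)
  · rw [hd]; exact dvd_of_ee hrq hq2 (dv12 hrq hq2 hd)

include hF in
/-- products of two odd primes -/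
theorem ex_odd {r s : ℕ} [hr : Fact r.Prime] [hs : Fact s.Prime] (hrs : r ≠ s) (hr2 : r ≠ 2) (hs2 : s ≠ 2)
    (hrG : r ∣ Nat.card ↥(Cfsg.Lie.chevF4.group F)) (hsG : s ∣ Nat.card ↥(Cfsg.Lie.chevF4.group F))
    (hle : orderOf ((2 ^ n : ℕ) : ZMod r) ≤ orderOf ((2 ^ n : ℕ) : ZMod s))
    (hno : ¬ (orderOf ((2 ^ n : ℕ) : ZMod r) < orderOf ((2 ^ n : ℕ) : ZMod s) ∧
      ((orderOf ((2 ^ n : ℕ) : ZMod s) = 8 ∨ orderOf ((2 ^ n : ℕ) : ZMod s) = 12) ∨
        (orderOf ((2 ^ n : ℕ) : ZMod s) = 6 ∧ (orderOf ((2 ^ n : ℕ) : ZMod r) = 3 ∨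
          orderOf ((2 ^ n : ℕ) : ZMod r) = 4)) ∨
        (orderOf ((2 ^ n : ℕ) : ZMod s) = 4 ∧ orderOf ((2 ^ n : ℕ) : ZMod r) = 3)))) :
    ∃ g : ↥(Cfsg.Lie.chevF4.group F), orderOf g = r * s := by
  obtain ⟨h1, h2⟩ := odd_data hF hr2 hrG
  obtain ⟨h3, h4⟩ := odd_data hF hs2 hsG
  have hrs0 : 0 < r * s := Nat.mul_pos hr.out.pos hs.out.pos
  have hrs2 : ¬ 2 ∣ r * s := by
    rw [Nat.prime_two.dvd_mul, Nat.prime_dvd_prime_iff_eq Nat.prime_two hr.out,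
      Nat.prime_dvd_prime_iff_eq Nat.prime_two hs.out]
    omega
  have hcop : IsCoprime (r : ℤ) (s : ℤ) :=
    Nat.isCoprime_iff_coprime.2 ((Nat.coprime_primes hr.out hs.out).2 hrs)
  -- equal orders
  have same : ∀ (c : Ct), c.ok rows 4 = true → 0 < c.b.length →
      (r : ℤ) ∣ hz c.P (2 ^ n : ℕ) → (s : ℤ) ∣ hz c.P (2 ^ n : ℕ) →
      ∃ g : ↥(Cfsg.Lie.chevF4.group F), orderOf g = r * s := by
    intro c hc hl ha hb
    refine ex_semi hF hrs0 hrs2 c hc hl ?_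
    rw [Nat.cast_mul]
    exact hcop.mul_dvd ha hb
  have diff : ∀ (c : Ct) (P P' : List ℤ), c.ok rows 4 = true → 0 < c.b.length →
      (r : ℤ) ∣ hz P (2 ^ n : ℕ) → (s : ℤ) ∣ hz P' (2 ^ n : ℕ) →
      hz c.P ((2 ^ n : ℕ) : ℤ) = hz P ((2 ^ n : ℕ) : ℤ) * hz P' ((2 ^ n : ℕ) : ℤ) →
      ∃ g : ↥(Cfsg.Lie.chevF4.group F), orderOf g = r * s := by
    intro c P P' hc hl ha hb he
    refine ex_semi hF hrs0 hrs2 c hc hl ?_
    rw [Nat.cast_mul, he]
    exact mul_dvd_mul ha hb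
  simp only [List.mem_cons, List.not_mem_nil, or_false] at h1 h3
  rcases h1 with h1 | h1 | h1 | h1 | h1 | h1 | h1 <;>
    rcases h3 with h3 | h3 | h3 | h3 | h3 | h3 | h3 <;>
    rw [h1, h3] at hle hno <;> rw [h1] at h2 <;> rw [h3] at h4 <;>
    first | exact absurd hle (by decide) | exact absurd (by decide) hno | skip
  · exact same c11 (oks _ (by simp)) (by decide) h2 h4
  · exact diff c12 _ _ (oks _ (by simp)) (by decide) h2 h4 (by simp only [c12, PP, hz]; ring)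
  · exact diff c13 _ _ (oks _ (by simp)) (by decide) h2 h4 (by simp only [c13, PP, hz]; ring)
  · exact diff c14 _ _ (oks _ (by simp)) (by decide) h2 h4 (by simp only [c14, PP, hz]; ring)
  · exact diff c16 _ _ (oks _ (by simp)) (by decide) h2 h4 (by simp only [c16, PP, hz]; ring)
  · exact same c22 (oks _ (by simp)) (by decide) h2 h4
  · exact diff c23 _ _ (oks _ (by simp)) (by decide) h2 h4 (by simp only [c23, PP, hz]; ring)
  · exact diff c24 _ _ (oks _ (by simp)) (by decide) h2 h4 (by simp only [c24, PP, hz]; ring)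
  · exact diff c26 _ _ (oks _ (by simp)) (by decide) h2 h4 (by simp only [c26, PP, hz]; ring)
  · exact same c33 (oks _ (by simp)) (by decide) h2 h4
  · exact same c44 (oks _ (by simp)) (by decide) h2 h4
  · exact same c66 (oks _ (by simp)) (by decide) h2 h4
  · exact same c88 (oks _ (by simp)) (by decide) h2 h4
  · exact same cxx (oks _ (by simp)) (by decide) h2 h4

include hF in
/-- twice an odd prime -/
theorem ex_two {s : ℕ} [hs : Fact s.Prime] (hs2 : s ≠ 2)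
    (hsG : s ∣ Nat.card ↥(Cfsg.Lie.chevF4.group F))
    (hno : ¬ (orderOf ((2 ^ n : ℕ) : ZMod s) = 8 ∨ orderOf ((2 ^ n : ℕ) : ZMod s) = 12)) :
    ∃ g : ↥(Cfsg.Lie.chevF4.group F), orderOf g = s * 2 := by
  obtain ⟨h3, h4⟩ := odd_data hF hs2 hsG
  have hs0 := hs.out.pos
  have hs22 : ¬ 2 ∣ s := by rw [Nat.prime_dvd_prime_iff_eq Nat.prime_two hs.out]; omega
  have hsq : ¬ s ∣ 2 ^ n := fun h => hs2
    ((Nat.prime_dvd_prime_iff_eq hs.out Nat.prime_two).1 (hs.out.dvd_of_dvd_pow h))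
  have hcop : orderOf ((2 ^ n : ℕ) : ZMod s) ≠ 1 → IsCoprime ((2 ^ n : ℕ) - 1 : ℤ) s := by
    intro h
    rw [isCoprime_comm, (Nat.prime_iff_prime_int.1 hs.out).coprime_iff_not_dvd]
    intro hd
    apply h
    rw [orderOf_eq_one_iff]
    have h5 := (ZMod.intCast_zmod_eq_zero_iff_dvd _ s).2 hd
    rw [Int.cast_sub, Int.cast_natCast, Int.cast_one, sub_eq_zero] at h5
    exact h5
  simp only [List.mem_cons, List.not_mem_nil, or_false] at h3
  rcases h3 with h3 | h3 | h3 | h3 | h3 | h3 | h3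
  · rw [h3] at h4
    refine ex_mixed1 hF hs0 hs22 ?_
    have e : hz (PP 1) ((2 ^ n : ℕ) : ℤ) = ((2 ^ n : ℕ) : ℤ) - 1 := by simp only [PP, hz]; ring
    rwa [e] at h4
  · have hc := hcop (by rw [h3]; decide)
    rw [h3] at h4
    exact ex_mixed hF hs0 hs22 d2 (oks _ (by simp)) (by decide) (fixs _ (by simp)) h4 hc
  · have hc := hcop (by rw [h3]; decide)
    rw [h3] at h4
    exact ex_mixed hF hs0 hs22 d3 (oks _ (by simp)) (by decide) (fixs _ (by simp)) h4 hc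
  · have hc := hcop (by rw [h3]; decide)
    rw [h3] at h4
    exact ex_mixed hF hs0 hs22 d4 (oks _ (by simp)) (by decide) (fixs _ (by simp)) h4 hc
  · have hc := hcop (by rw [h3]; decide)
    rw [h3] at h4
    exact ex_mixed hF hs0 hs22 d6 (oks _ (by simp)) (by decide) (fixs _ (by simp)) h4 hc
  · exact absurd (Or.inl h3) hno
  · exact absurd (Or.inr h3) hno

include hF in
/-- the functional of an element -/
theorem get_fun {m k : ℕ} (hm : ¬ 2 ∣ m) (g : ↥(Cfsg.Lie.chevF4.group F)) (hg : orderOf g = m * 2 ^ k) :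
    ∃ R : Rel Cfsg.Lie.chevF4 (AlgebraicClosure F),
    ∃ x : Fin 4 → ℤ, ∃ w ∈ (comb rcxF4).W, ∃ t : ℕ → AlgebraicClosure F,
      (∀ c : ℤ, (∀ s : Fin Cfsg.Lie.chevF4.nroots, (m : ℤ) ∣ c * ev (coord rcxF4) x s) → (m : ℤ) ∣ c) ∧
      (∀ s : Fin Cfsg.Lie.chevF4.nroots, (m : ℤ) ∣ ev (coord rcxF4) x (w s) -
        ((2 ^ n : ℕ) : ℤ) * ev (coord rcxF4) x s) ∧
      (∀ r : Fin Cfsg.Lie.chevF4.nroots, rcxF4.rc.half ≤ r.val → t r ≠ 0 → (m : ℤ) ∣ ev (coord rcxF4) x r) ∧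
      orderOf (pr R t rcxF4.rc.half rcxF4.rc.half) = 2 ^ k := by
  have : Fact (Nat.Prime 2) := ⟨Nat.prime_two⟩
  have := charp hF
  have : CharP (AlgebraicClosure F) 2 := charP_of_injective_algebraMap
    (algebraMap F (AlgebraicClosure F)).injective 2
  have RF := H22.ChevAll.rel Cfsg.Lie.chevF4 (by simp) F
  have R := H22.ChevAll.rel Cfsg.Lie.chevF4 (by simp) (AlgebraicClosure F)
  obtain ⟨h1, h2, h3⟩ := asc 2 RF R hF g
  obtain ⟨x, w, hw, t, h4, h5, h6, h7⟩ := mix_fun R 2 (X := rcxF4)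
    (locFin_of_isAlgebraic (F := F) (K := AlgebraicClosure F) (p := 2))
    H22.ChevLex.lexF4 (fun a ha haf => conn R ha haf) (fun a ha haf => triv R ha haf) n hm h1 h2
    (h3.trans hg)
  exact ⟨R, x, w, hw, t, h4, h5, h6, h7⟩

theorem pr_eq_one {D : ChevalleyDatum} {K : Type*} [Field K] (R : Rel D K) {t : ℕ → K} {k m : ℕ}
    (h : ∀ r, k ≤ r → r < k + m → t r = 0) : pr R t k m = 1 := by
  unfold pr
  apply List.prod_eq_one
  intro y hy
  rw [List.mem_map] at hy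
  obtain ⟨r, hr, rfl⟩ := hy
  rw [List.mem_range'_1] at hr
  rw [h r hr.1 hr.2, xg_zero]

include hF in
/-- no element of order twice a prime of order 8 or 12 -/
theorem no_two {s : ℕ} [hs : Fact s.Prime] (hs2 : s ≠ 2)
    (he : orderOf ((2 ^ n : ℕ) : ZMod s) = 8 ∨ orderOf ((2 ^ n : ℕ) : ZMod s) = 12)
    (g : ↥(Cfsg.Lie.chevF4.group F)) (hg : orderOf g = s * 2) : False := by
  have hs22 : ¬ 2 ∣ s := by rw [Nat.prime_dvd_prime_iff_eq Nat.prime_two hs.out]; omega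
  obtain ⟨R, x, w, hw, t, h4, h5, h6, h7⟩ := get_fun hF hs22 g (k := 1) (by rw [hg, pow_one])
  have h0 := nz (coord rcxF4) hs.out hs.out.pos dvd_rfl h4
  have h5s : 5 ≤ s := ge_five (q := 2 ^ n) (by omega) (by omega)
  have hev := @not_dvd_root _ _ _ (coord rcxF4) inferInstance (by decide) s hs (by rw [cardW]; exact ndvd1152 hs.out h5s)
    (exists_simple_conj rcxF4) (q := ((2 ^ n : ℕ) : ℤ)) (by rw [Int.cast_natCast]; omega)
    (by
      rw [Int.cast_natCast, natDegree_cyclotomic]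
      rcases he with he | he <;> rw [he] <;> decide) x h0 w hw h5
  have h8 : pr R t rcxF4.rc.half rcxF4.rc.half = 1 := by
    apply pr_eq_one
    intro r hr1 hr2
    by_contra hne
    have hn : rcxF4.rc.half + rcxF4.rc.half = Cfsg.Lie.chevF4.nroots := by
      have := rcxF4.rc.nroots_eq; omega
    exact hev ⟨r, by omega⟩ (h6 ⟨r, by omega⟩ hr1 hne)
  rw [h8, orderOf_one] at h7
  omega

include hF in
/-- no elements whose order is the product of certain odd primes -/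
theorem no_odd {r s : ℕ} [hr : Fact r.Prime] [hs : Fact s.Prime] (hr2 : r ≠ 2) (hs2 : s ≠ 2)
    (hlt : orderOf ((2 ^ n : ℕ) : ZMod r) < orderOf ((2 ^ n : ℕ) : ZMod s))
    (hno : (orderOf ((2 ^ n : ℕ) : ZMod s) = 8 ∨ orderOf ((2 ^ n : ℕ) : ZMod s) = 12) ∨
        (orderOf ((2 ^ n : ℕ) : ZMod s) = 6 ∧ (orderOf ((2 ^ n : ℕ) : ZMod r) = 3 ∨
          orderOf ((2 ^ n : ℕ) : ZMod r) = 4)) ∨
        (orderOf ((2 ^ n : ℕ) : ZMod s) = 4 ∧ orderOf ((2 ^ n : ℕ) : ZMod r) = 3))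
    (g : ↥(Cfsg.Lie.chevF4.group F)) (hg : orderOf g = r * s) : False := by
  have hrs0 : 0 < r * s := Nat.mul_pos hr.out.pos hs.out.pos
  have hrs2 : ¬ 2 ∣ r * s := by
    rw [Nat.prime_two.dvd_mul, Nat.prime_dvd_prime_iff_eq Nat.prime_two hr.out,
      Nat.prime_dvd_prime_iff_eq Nat.prime_two hs.out]
    omega
  obtain ⟨R, x, w, hw, t, h4, h5, h6, h7⟩ := get_fun hF hrs2 g (k := 0) (by rw [hg]; simp)
  have h0r := nz (coord rcxF4) hr.out hrs0 (dvd_mul_right r s) h4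
  have h0s := nz (coord rcxF4) hs.out hrs0 (dvd_mul_left s r) h4
  have h5' := tau_eig (coord rcxF4) h5
  have hdr : (r : ℤ) ∣ ((r * s : ℕ) : ℤ) := Int.natCast_dvd_natCast.2 (dvd_mul_right r s)
  have hds : (s : ℤ) ∣ ((r * s : ℕ) : ℤ) := Int.natCast_dvd_natCast.2 (dvd_mul_left s r)
  rcases hno with h | h | h
  · have := no_a hw (q := 2 ^ n) hr2 (fun j => hds.trans (h5' j)) h0s (fun j => hdr.trans (h5' j)) h0r h
    omega
  · exact no_b hw (q := 2 ^ n) (dvd_mul_right r s) (dvd_mul_left s r) h5 h0s h0r (by tauto) (by tauto) hlt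
  · exact no_b hw (q := 2 ^ n) (dvd_mul_right r s) (dvd_mul_left s r) h5 h0s h0r (by tauto) (by tauto) hlt

end

end H47.SpecF4
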