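import Mathlib

/-!
Products of two regular unipotent transformations: the inductive step.
-/

set_option autoImplicit false
set_option linter.unusedVariables false

namespace H47.TwoUnipA

open Module LinearMap

variable {K : Type*} [Field K]

/-- regular unipotent transformations -/
def RU {V : Type*} [AddCommGroup V] [Module K V] (X : V →ₗ[K] V) : Prop :=
  (∃ k : ℕ, ∀ x, ((X - 1) ^ k) x = 0) ∧ finrank K (ker (X - 1)) ≤ 1

/-- `S` is a product of two regular unipotents, with side conditions on a vector and a functional -/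
def Good {V : Type*} [AddCommGroup V] [Module K V] (S : V →ₗ[K] V) (c : V) (r : V →ₗ[K] K) : Prop :=
  ∃ X Y : V →ₗ[K] V, (∀ x, X (Y x) = S x) ∧ RU X ∧ RU Y ∧ (∀ x, (X - 1) x ≠ c) ∧
    ∀ w, (Y - 1) w = 0 → r w = 0 → w = 0

variable {V : Type*} [AddCommGroup V] [Module K V]

/-- the projection onto the kernel of `φ` along `v` -/
def proj (v : V) (φ : V →ₗ[K] K) (h : φ v = 1) : V →ₗ[K] ker φ :=
  LinearMap.codRestrict (ker φ) (LinearMap.id - φ.smulRight v) (by
    intro x
    rw [mem_ker]
    simp [h])

theorem proj_apply (v : V) (φ : V →ₗ[K] K) (h : φ v = 1) (x : V) : (proj v φ h x : V) = x - φ x • v := rfl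

theorem proj_self (v : V) (φ : V →ₗ[K] K) (h : φ v = 1) : proj v φ h v = 0 := by
  apply Subtype.ext
  rw [proj_apply, h, one_smul, sub_self]
  rfl

theorem proj_mem (v : V) (φ : V →ₗ[K] K) (h : φ v = 1) (x : ker φ) : proj v φ h (x : V) = x := by
  apply Subtype.ext
  rw [proj_apply, mem_ker.1 x.2, zero_smul, sub_zero]

theorem decomp (v : V) (φ : V →ₗ[K] K) (h : φ v = 1) (x : V) : x = φ x • v + (proj v φ h x : V) := by
  rw [proj_apply]; abel

/-- the Schur complement -/
def schur (S : V →ₗ[K] V) (v : V) (φ : V →ₗ[K] K) (h : φ (S v) = 1) : ker φ →ₗ[K] ker φ :=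
  LinearMap.codRestrict (ker φ) ((S - (φ.comp S).smulRight (S v)).comp (ker φ).subtype) (by
    intro x
    rw [mem_ker]
    simp [h])

theorem schur_apply (S : V →ₗ[K] V) (v : V) (φ : V →ₗ[K] K) (h : φ (S v) = 1) (w : ker φ) :
    (schur S v φ h w : V) = S w - φ (S w) • S v := rfl

/-- reassembling -/
theorem step [FiniteDimensional K V] (S : V →ₗ[K] V) (c : V) (r : V →ₗ[K] K) (v : V) (φ : V →ₗ[K] K) (hv : φ v = 1)
    (hSv : φ (S v) = 1) (hc : φ c ≠ 0) (hr : r v ≠ 0)
    (hg : Good (schur S v φ hSv) (proj v φ hv (S v)) ((φ.comp S).comp (ker φ).subtype)) : Good S c r := by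
  obtain ⟨X', Y', hXY, ⟨⟨kx, hkx⟩, hXk⟩, ⟨⟨ky, hky⟩, hYk⟩, hXc, hYr⟩ := hg
  set π := proj v φ hv with hπ
  have hdec := decomp v φ hv
  have hpm := proj_mem v φ hv
  have hps := proj_self v φ hv
  rw [← hπ] at hpm hps
  -- the two maps
  let X : V →ₗ[K] V := φ.smulRight (S v) + (ker φ).subtype.comp (X'.comp π)
  let Y : V →ₗ[K] V := (φ + ((φ.comp S).comp (ker φ).subtype).comp π).smulRight v + (ker φ).subtype.comp (Y'.comp π)
  have hX : ∀ x, X x = φ x • S v + (X' (π x) : V) := fun x => rfl
  have hY : ∀ x, Y x = (φ x + φ (S (π x : V))) • v + (Y' (π x) : V) := fun x => rfl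
  have hc' : (π (S v) : V) = S v - v := by rw [hπ, proj_apply, hSv, one_smul]
  have hφk : ∀ w : ker φ, φ (w : V) = 0 := fun w => mem_ker.1 w.2
  have hπa : ∀ (a : K) (w : ker φ), π (a • v + (w : V)) = w := by
    intro a w
    rw [map_add, map_smul, hps, smul_zero, zero_add, hpm]
  have hφa : ∀ (a : K) (w : ker φ), φ (a • v + (w : V)) = a := by
    intro a w
    rw [map_add, map_smul, hv, hφk, add_zero, smul_eq_mul, mul_one]
  -- `X - 1`
  let A : V →ₗ[K] ker φ := φ.smulRight (π (S v)) + (X' - 1).comp π
  have hA : ∀ x, A x = φ x • π (S v) + (X' - 1) (π x) := fun x => rfl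
  have hX1 : ∀ x, (X - 1) x = (A x : V) := by
    intro x
    rw [LinearMap.sub_apply, hX, hA]
    conv_lhs => rw [show (1 : V →ₗ[K] V) x = φ x • v + (π x : V) from hdec x]
    rw [Submodule.coe_add, Submodule.coe_smul, hc', LinearMap.sub_apply, smul_sub]
    simp only [AddSubgroupClass.coe_sub, Module.End.one_apply]
    abel
  have hAk : ∀ w : ker φ, A (w : V) = (X' - 1) w := by
    intro w
    rw [hA, hφk, zero_smul, zero_add, hpm]
  have hXpow : ∀ (k : ℕ) (w : ker φ), ((X - 1) ^ k) (w : V) = (((X' - 1) ^ k) w : ker φ) := by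
    intro k
    induction k with
    | zero => intro w; rfl
    | succ k ih =>
      intro w
      rw [pow_succ, pow_succ, Module.End.mul_apply, Module.End.mul_apply, hX1, hAk, ih]
  have hRUX : RU X := by
    refine ⟨⟨kx + 1, ?_⟩, ?_⟩
    · intro x
      rw [pow_succ, Module.End.mul_apply, hX1, hXpow, hkx]
      rfl
    · have hle : ker (X - 1) ≤ (ker (X' - 1)).map (ker φ).subtype := by
        intro x hx
        rw [mem_ker, hX1] at hx
        have hx' : A x = 0 := Subtype.ext hx
        rw [hA] at hx'
        have hφx : φ x = 0 := by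
          by_contra hne
          apply hXc (-((φ x)⁻¹ • π x))
          have : φ x • π (S v) = -((X' - 1) (π x)) := eq_neg_of_add_eq_zero_left hx'
          have h2 : π (S v) = (φ x)⁻¹ • (φ x • π (S v)) := by
            rw [smul_smul, inv_mul_cancel₀ hne, one_smul]
          rw [h2, this, map_neg, map_smul, smul_neg]
        rw [hφx, zero_smul, zero_add] at hx'
        refine ⟨π x, hx', ?_⟩
        have := hdec x
        rw [hφx, zero_smul, zero_add] at this
        exact this.symm
      exact (Submodule.finrank_mono hle).trans ((Submodule.finrank_map_le _ _).trans hXk)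
  -- `Y - 1`
  have hφv1 : ∀ x, φ ((Y - 1) x) = φ (S (π x : V)) := by
    intro x
    rw [LinearMap.sub_apply, hY, map_sub, hφa, Module.End.one_apply]
    ring
  have hπY1 : ∀ x, π ((Y - 1) x) = (Y' - 1) (π x) := by
    intro x
    rw [LinearMap.sub_apply, hY, map_sub, hπa, LinearMap.sub_apply]
    rfl
  have hYpow : ∀ (k : ℕ) (x : V), π (((Y - 1) ^ k) x) = ((Y' - 1) ^ k) (π x) := by
    intro k
    induction k with
    | zero => intro x; rfl
    | succ k ih =>
      intro x
      rw [pow_succ', pow_succ', Module.End.mul_apply, Module.End.mul_apply, hπY1, ih]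
  have hY1v : (Y - 1) v = 0 := by
    rw [hdec ((Y - 1) v), ← hπ, hφv1, hπY1, hps]
    simp
  have hRUY : RU Y := by
    refine ⟨⟨ky + 1, ?_⟩, ?_⟩
    · intro x
      rw [pow_succ', Module.End.mul_apply]
      have h1 := hdec (((Y - 1) ^ ky) x)
      rw [← hπ, hYpow, hky] at h1
      rw [h1, map_add, map_smul, hY1v, smul_zero, zero_add]
      exact map_zero _
    · have hle : ker (Y - 1) ≤ Submodule.span K {v} := by
        intro x hx
        rw [mem_ker] at hx
        have h1 := hφv1 x
        have h2 := hπY1 x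
        rw [hx, map_zero] at h1 h2
        have h3 : π x = 0 := hYr (π x) h2.symm h1.symm
        rw [Submodule.mem_span_singleton]
        refine ⟨φ x, ?_⟩
        have := hdec x
        rw [← hπ, h3] at this
        rw [this]
        simp [hv]
      exact (Submodule.finrank_mono hle).trans (finrank_span_le_card (R := K) ({v} : Set V) |>.trans (by simp))
  refine ⟨X, Y, ?_, hRUX, hRUY, ?_, ?_⟩
  · intro x
    rw [hX, hY, hφa, hπa, hXY, schur_apply]
    conv_rhs => rw [hdec x, ← hπ, map_add, map_smul]
    rw [add_smul]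
    abel
  · intro x h
    apply hc
    rw [← h, hX1]
    exact hφk _
  · intro w hw hrw
    have h1 := hφv1 w
    have h2 := hπY1 w
    rw [hw, map_zero] at h1 h2
    have h3 : π w = 0 := hYr (π w) h2.symm h1.symm
    have h4 := hdec w
    rw [← hπ, h3] at h4
    have h5 : w = φ w • v := by rw [Submodule.coe_zero, add_zero] at h4; exact h4
    rw [h5, map_smul, smul_eq_mul] at hrw
    rw [h5, (mul_eq_zero.1 hrw).resolve_right hr, zero_smul]

/-- the Schur complement has the same determinant -/
theorem det_schur [FiniteDimensional K V] (S : V →ₗ[K] V) (v : V) (φ : V →ₗ[K] K) (hv : φ v = 1)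
    (hSv : φ (S v) = 1) : LinearMap.det (schur S v φ hSv) = LinearMap.det S := by
  set π := proj v φ hv with hπ
  have hdec := decomp v φ hv
  have hpm := proj_mem v φ hv
  have hps := proj_self v φ hv
  rw [← hπ] at hpm hps
  have hφk : ∀ w : ker φ, φ (w : V) = 0 := fun w => mem_ker.1 w.2
  have hπa : ∀ (a : K) (w : ker φ), π (a • v + (w : V)) = w := by
    intro a w
    rw [map_add, map_smul, hps, smul_zero, zero_add, hpm]
  have hφa : ∀ (a : K) (w : ker φ), φ (a • v + (w : V)) = a := by
    intro a w
    rw [map_add, map_smul, hv, hφk, add_zero, smul_eq_mul, mul_one]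
  -- equivalence `V ≃ K × ker φ`
  let e : V ≃ₗ[K] K × ker φ := LinearEquiv.ofLinearMap (φ.prod π)
    (LinearMap.coprod (LinearMap.toSpanSingleton K V v) (ker φ).subtype)
    (by
      apply LinearMap.ext
      rintro ⟨a, w⟩
      rw [LinearMap.comp_apply, LinearMap.coprod_apply, LinearMap.prod_apply]
      show (φ (a • v + (w : V)), π (a • v + (w : V))) = (a, w)
      rw [hφa, hπa])
    (by
      apply LinearMap.ext
      intro x
      rw [LinearMap.comp_apply, LinearMap.coprod_apply]
      exact (hdec x).symm)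
  have he : ∀ x, e x = (φ x, π x) := fun x => rfl
  have hes : ∀ y, e.symm y = y.1 • v + (y.2 : V) := fun y => rfl
  set T : V →ₗ[K] V := (e.symm : (K × ker φ) →ₗ[K] V) ∘ₗ (LinearMap.prodMap (1 : Module.End K K) (schur S v φ hSv)) ∘ₗ
    (e : V →ₗ[K] (K × ker φ)) with hT
  have hTdet : LinearMap.det T = LinearMap.det (schur S v φ hSv) := by
    have h1 := LinearMap.det_conj (LinearMap.prodMap (1 : Module.End K K) (schur S v φ hSv)) e.symm
    rw [LinearEquiv.symm_symm] at h1
    rw [hT, h1, LinearMap.det_prodMap]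
    simp
  have hTa : ∀ x, T x = φ x • v + (schur S v φ hSv (π x) : V) := fun x => rfl
  have hS : S = (LinearMap.transvection φ (S v - v)) ∘ₗ T ∘ₗ
      (LinearMap.transvection ((φ.comp S).comp ((ker φ).subtype.comp π)) v) := by
    apply LinearMap.ext
    intro x
    rw [LinearMap.comp_apply, LinearMap.comp_apply, LinearMap.transvection.apply, LinearMap.transvection.apply]
    have h1 : φ (x + (((φ.comp S).comp ((ker φ).subtype.comp π)) x) • v) = φ x + φ (S (π x : V)) := by
      rw [map_add, map_smul, hv, smul_eq_mul, mul_one]; rfl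
    have h2 : π (x + (((φ.comp S).comp ((ker φ).subtype.comp π)) x) • v) = π x := by
      rw [map_add, map_smul, hps, smul_zero, add_zero]
    rw [hTa, h1, h2, hφa, schur_apply]
    conv_lhs => rw [hdec x, ← hπ, map_add, map_smul]
    rw [add_smul, smul_sub, add_smul, add_smul]
    abel
  rw [← hTdet]
  conv_rhs => rw [hS]
  rw [LinearMap.det_comp, LinearMap.det_comp, LinearMap.transvection.det, LinearMap.transvection.det]
  have h1 : φ (S v - v) = 0 := by rw [map_sub, hSv, hv, sub_self]
  have h2 : ((φ.comp S).comp ((ker φ).subtype.comp π)) v = 0 := by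
    rw [LinearMap.comp_apply, LinearMap.comp_apply, LinearMap.comp_apply, hps, map_zero, map_zero, map_zero]
  rw [h1, h2, add_zero, one_mul, mul_one]

end H47.TwoUnipA
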