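import Mathlib
import Cfsg.Agent.Lib.H47.TwoUnipA

/-!
Products of two regular unipotent transformations: the choice of vectors and functionals.
-/

set_option autoImplicit false
set_option linter.unusedVariables false

namespace H47.TwoUnipB

open Module LinearMap H47.TwoUnipA

variable {K : Type*} [Field K]

/-- with four elements three "at most one" conditions can be avoided -/
theorem exists_avoid (hK : 4 ≤ Cardinal.mk K) (P1 P2 P3 : K → Prop) (h1 : ∀ x y, P1 x → P1 y → x = y)
    (h2 : ∀ x y, P2 x → P2 y → x = y) (h3 : ∀ x y, P3 x → P3 y → x = y) :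
    ∃ x, ¬ P1 x ∧ ¬ P2 x ∧ ¬ P3 x := by
  classical
  obtain ⟨f⟩ : Nonempty (Fin 4 ↪ K) := Cardinal.lift_mk_le'.1 (by simpa using hK)
  by_contra hcon
  push Not at hcon
  let g : Fin 4 → Fin 3 := fun i => if P1 (f i) then 0 else if P2 (f i) then 1 else 2
  obtain ⟨i, j, hij, hgij⟩ := Fintype.exists_ne_map_eq_of_card_lt g (by simp)
  have hne : f i ≠ f j := fun h => hij (f.injective h)
  simp only [g] at hgij
  by_cases a1 : P1 (f i)
  · by_cases b1 : P1 (f j)
    · exact hne (h1 _ _ a1 b1)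
    · rw [if_pos a1, if_neg b1] at hgij
      split_ifs at hgij <;> exact absurd hgij (by decide)
  · by_cases b1 : P1 (f j)
    · rw [if_neg a1, if_pos b1] at hgij
      split_ifs at hgij <;> exact absurd hgij (by decide)
    · rw [if_neg a1, if_neg b1] at hgij
      by_cases a2 : P2 (f i)
      · by_cases b2 : P2 (f j)
        · exact hne (h2 _ _ a2 b2)
        · rw [if_pos a2, if_neg b2] at hgij
          exact absurd hgij (by decide)
      · by_cases b2 : P2 (f j)
        · rw [if_neg a2, if_pos b2] at hgij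
          exact absurd hgij (by decide)
        · exact hne (h3 _ _ (hcon _ a1 a2) (hcon _ b1 b2))

variable {V : Type*} [AddCommGroup V] [Module K V]

/-- avoiding two proper subspaces -/
theorem avoid_two (W1 W2 : Submodule K V) (h1 : W1 ≠ ⊤) (h2 : W2 ≠ ⊤) : ∃ v, v ∉ W1 ∧ v ∉ W2 := by
  obtain ⟨a, ha⟩ : ∃ a, a ∉ W1 := by
    by_contra hcon; push Not at hcon; exact h1 (Submodule.eq_top_iff'.2 hcon)
  obtain ⟨b, hb⟩ : ∃ b, b ∉ W2 := by
    by_contra hcon; push Not at hcon; exact h2 (Submodule.eq_top_iff'.2 hcon)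
  by_cases ha2 : a ∈ W2
  · by_cases hb1 : b ∈ W1
    · refine ⟨a + b, fun h => ha ?_, fun h => hb ?_⟩
      · exact (Submodule.add_mem_iff_left W1 hb1).1 h
      · exact (Submodule.add_mem_iff_right W2 ha2).1 h
    · exact ⟨b, hb1, hb⟩
  · exact ⟨a, ha, ha2⟩

/-- two points of a line in a subspace -/
theorem line_mem {W : Submodule K V} {u v0 : V} {s t : K} (hs : u + s • v0 ∈ W) (ht : u + t • v0 ∈ W)
    (h : v0 ∉ W) : s = t := by
  by_contra hst
  apply h
  have h1 := W.sub_mem hs ht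
  have h2 : (u + s • v0) - (u + t • v0) = (s - t) • v0 := by rw [sub_smul]; abel
  rw [h2] at h1
  exact (Submodule.smul_mem_iff W (sub_ne_zero.2 hst)).1 h1

/-- avoiding three proper subspaces -/
theorem avoid_three (hK : 4 ≤ Cardinal.mk K) (W1 W2 W3 : Submodule K V) (h1 : W1 ≠ ⊤) (h2 : W2 ≠ ⊤) (h3 : W3 ≠ ⊤) :
    ∃ v, v ∉ W1 ∧ v ∉ W2 ∧ v ∉ W3 := by
  obtain ⟨v0, hv1, hv2⟩ := avoid_two W1 W2 h1 h2
  by_cases hv3 : v0 ∈ W3
  · obtain ⟨u, hu⟩ : ∃ a, a ∉ W3 := by
      by_contra hcon; push Not at hcon; exact h3 (Submodule.eq_top_iff'.2 hcon)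
    obtain ⟨t, ht1, ht2, -⟩ := exists_avoid hK (fun t => u + t • v0 ∈ W1) (fun t => u + t • v0 ∈ W2) (fun _ => False)
      (fun s t hs ht => line_mem hs ht hv1) (fun s t hs ht => line_mem hs ht hv2) (fun _ _ h _ => h.elim)
    refine ⟨u + t • v0, ht1, ht2, fun h => hu ?_⟩
    exact (Submodule.add_mem_iff_left W3 (W3.smul_mem t hv3)).1 h
  · exact ⟨v0, hv1, hv2, hv3⟩

/-- a vector avoiding two subspaces which is not an eigenvector -/
theorem exists_noneigen (hK : 4 ≤ Cardinal.mk K) (N : V →ₗ[K] V) (hns : ∀ μ : K, ∃ x, N x ≠ μ • x)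
    (W1 W2 : Submodule K V) (h1 : W1 ≠ ⊤) (h2 : W2 ≠ ⊤) :
    ∃ v, v ∉ W1 ∧ v ∉ W2 ∧ ∀ μ : K, N v ≠ μ • v := by
  obtain ⟨v0, hv1, hv2⟩ := avoid_two W1 W2 h1 h2
  by_cases hv : ∃ μ : K, N v0 = μ • v0
  · obtain ⟨μ, hμ⟩ := hv
    obtain ⟨u, hu⟩ := hns μ
    have hv00 : v0 ≠ 0 := by
      rintro rfl
      exact hv1 W1.zero_mem
    have hspan : ∀ a : K, u ≠ a • v0 := by
      rintro a rfl
      apply hu
      rw [map_smul, hμ, smul_comm]
    obtain ⟨t, ht1, ht2, ht3⟩ := exists_avoid hK (fun t => u + t • v0 ∈ W1) (fun t => u + t • v0 ∈ W2)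
      (fun t => ∃ ν : K, N (u + t • v0) = ν • (u + t • v0))
      (fun s t hs ht => line_mem hs ht hv1) (fun s t hs ht => line_mem hs ht hv2) (by
        rintro s t ⟨ν, hν⟩ ⟨ν', hν'⟩
        rw [map_add, map_smul, hμ] at hν hν'
        have e1 : (ν - ν') • u = ((s - t) * μ - ν * s + ν' * t) • v0 := by
          have : (N u + s • μ • v0) - (N u + t • μ • v0) = ν • (u + s • v0) - ν' • (u + t • v0) := by rw [hν, hν']
          have h3 : (ν - ν') • u = ((s • μ • v0) - (t • μ • v0)) - (ν • s • v0 - ν' • t • v0) := by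
            have h4 : (s • μ • v0) - (t • μ • v0) = (N u + s • μ • v0) - (N u + t • μ • v0) := by abel
            rw [h4, this, smul_add, smul_add, sub_smul]
            abel
          rw [h3]
          module
        have hνν : ν = ν' := by
          by_contra hne
          have hne' : ν - ν' ≠ 0 := sub_ne_zero.2 hne
          apply hspan ((ν - ν')⁻¹ * ((s - t) * μ - ν * s + ν' * t))
          rw [mul_smul, ← e1, smul_smul, inv_mul_cancel₀ hne', one_smul]
        subst hνν
        rw [sub_self, zero_smul] at e1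
        have e2 := (smul_eq_zero.1 e1.symm).resolve_right hv00
        have e3 : (s - t) * (μ - ν) = 0 := by linear_combination e2
        rcases mul_eq_zero.1 e3 with h | h
        · exact sub_eq_zero.1 h
        · exfalso
          have : ν = μ := (sub_eq_zero.1 h).symm
          subst this
          apply hu
          have h5 : N u + s • ν • v0 = ν • u + s • ν • v0 := by
            rw [hν, smul_add, smul_comm]
          exact add_right_cancel h5)
    exact ⟨u + t • v0, ht1, ht2, fun ν hν => ht3 ⟨ν, hν⟩⟩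
  · push Not at hv
    exact ⟨v0, hv1, hv2, hv⟩

end H47.TwoUnipB
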