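import Mathlib
import Cfsg.Agent.Lib.H47.TwoUnipB

/-!
Products of two regular unipotent transformations: uniqueness of bad functionals.
-/

set_option autoImplicit false
set_option linter.unusedVariables false

namespace H47.TwoUnipC

open Module LinearMap H47.TwoUnipA H47.TwoUnipB

variable {K : Type*} [Field K] {V : Type*} [AddCommGroup V] [Module K V]

/-- rank one perturbations of the identity with determinant one -/
theorem rank_one_sq {W : Type*} [AddCommGroup W] [Module K W] [FiniteDimensional K W] (T : W →ₗ[K] W)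
    (hr : finrank K (range (T - 1)) ≤ 1) (hdet : LinearMap.det T = 1) :
    (∃ g : W, ∀ w, ∃ a : K, (T - 1) w = a • g) ∧ ∀ w, (T - 1) ((T - 1) w) = 0 := by
  obtain ⟨g, hg⟩ := finrank_le_one_iff.1 hr
  have hg' : ∀ w, ∃ a : K, (T - 1) w = a • (g : W) := by
    intro w
    obtain ⟨a, ha⟩ := hg ⟨(T - 1) w, w, rfl⟩
    exact ⟨a, (congrArg Subtype.val ha).symm⟩
  refine ⟨⟨g, hg'⟩, ?_⟩
  by_cases hg0 : (g : W) = 0
  · intro w
    obtain ⟨a, ha⟩ := hg' ((T - 1) w)
    rw [ha, hg0, smul_zero]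
  · obtain ⟨f, hf, -⟩ := Submodule.exists_le_ker_of_notMem (p := (⊥ : Submodule K W)) (v := (g : W)) (by rwa [Submodule.mem_bot])
    set θ : W →ₗ[K] K := (f g)⁻¹ • (f.comp (T - 1)) with hθ
    have hθa : ∀ w, (T - 1) w = θ w • (g : W) := by
      intro w
      obtain ⟨a, ha⟩ := hg' w
      have : θ w = a := by
        rw [hθ, LinearMap.smul_apply, LinearMap.comp_apply, ha, map_smul, smul_eq_mul, smul_eq_mul, mul_comm a, ← mul_assoc,
          inv_mul_cancel₀ hf, one_mul]
      rw [ha, this]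
    have hT : T = LinearMap.transvection θ (g : W) := by
      apply LinearMap.ext
      intro w
      rw [LinearMap.transvection.apply, ← hθa, LinearMap.sub_apply, Module.End.one_apply]
      abel
    rw [hT, LinearMap.transvection.det] at hdet
    have h0 : θ g = 0 := by linear_combination hdet
    intro w
    rw [hθa ((T - 1) w), hθa w, map_smul, h0, smul_zero, zero_smul]

section pure

variable (N : V →ₗ[K] V) (v : V)

theorem coords {a b a' b' : K} (hind : ∀ a b : K, a • v + b • N v = 0 → a = 0 ∧ b = 0)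
    (h : a • v + b • N v = a' • v + b' • N v) : a = a' ∧ b = b' := by
  have h1 : (a - a') • v + (b - b') • N v = 0 := by
    have : (a - a') • v + (b - b') • N v = (a • v + b • N v) - (a' • v + b' • N v) := by module
    rw [this, h, sub_self]
  obtain ⟨h2, h3⟩ := hind _ _ h1
  exact ⟨sub_eq_zero.1 h2, sub_eq_zero.1 h3⟩

theorem pureDD (hind : ∀ a b : K, a • v + b • N v = 0 → a = 0 ∧ b = 0)
    (hinj : ∀ x, x + N x = 0 → x = 0) (φ1 φ2 : V →ₗ[K] K) (h1v : φ1 v = 1) (h1N : φ1 (N v) = 0)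
    (h2v : φ2 v = 1) (h2N : φ2 (N v) = 0) (y : V)
    {b1 b2 : K} (hD1 : ∀ w, φ1 w = 0 → N w = b1 • w + φ1 (N w) • (v + N v))
    (hD2 : ∀ w, φ2 w = 0 → N w = b2 • w + φ2 (N w) • (v + N v)) : φ1 y = φ2 y := by
  have e1 := hD1 (N v) h1N
  have e2 := hD2 (N v) h2N
  have e3 : φ1 (N (N v)) • v + (b1 + φ1 (N (N v))) • N v = φ2 (N (N v)) • v + (b2 + φ2 (N (N v))) • N v := by
    calc _ = b1 • N v + φ1 (N (N v)) • (v + N v) := by module
      _ = b2 • N v + φ2 (N (N v)) • (v + N v) := by rw [← e1, ← e2]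
      _ = _ := by module
  obtain ⟨e4, e5⟩ := coords N v hind e3
  have hb : b1 = b2 := by rw [e4] at e5; exact add_right_cancel e5
  subst hb
  have hy1 := hD1 (y - φ1 y • v) (by rw [map_sub, map_smul, h1v, smul_eq_mul, mul_one, sub_self])
  have hy2 := hD2 (y - φ2 y • v) (by rw [map_sub, map_smul, h2v, smul_eq_mul, mul_one, sub_self])
  set k1 := φ1 (N (y - φ1 y • v)) with hk1
  set k2 := φ2 (N (y - φ2 y • v)) with hk2
  rw [map_sub, map_smul] at hy1 hy2
  set z := φ2 y - φ1 y with hz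
  have e6 : (0 : K) • v + z • N v = (b1 * z + (k1 - k2)) • v + (k1 - k2) • N v := by
    have h1 : z • N v = (N y - φ1 y • N v) - (N y - φ2 y • N v) := by rw [hz]; module
    rw [zero_smul, zero_add, h1, hy1, hy2, hz]
    module
  obtain ⟨e7, e8⟩ := coords N v hind e6
  have e9 : (b1 + 1) * z = 0 := by linear_combination -e7 + e8
  rcases mul_eq_zero.1 e9 with h | h
  · exfalso
    have hb1 : b1 = -1 := eq_neg_of_add_eq_zero_left h
    rw [hb1] at e1
    generalize φ1 (N (N v)) = κ at e1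
    have h2 : (N v - κ • v) + N (N v - κ • v) = 0 := by
      rw [map_sub, map_smul, e1]
      module
    have h3 := hinj _ h2
    have h4 : (-κ) • v + (1 : K) • N v = 0 := by rw [← h3]; module
    exact one_ne_zero (hind _ _ h4).2
  · exact (sub_eq_zero.1 h).symm

/-- the two "rank one" facts in the case `N² v ∈ U`: the coefficient vanishes -/
theorem pureE_aux (hind : ∀ a b : K, a • v + b • N v = 0 → a = 0 ∧ b = 0)
    (φ : V →ₗ[K] K) (hv : φ v = 1) (hN : φ (N v) = 0) (w1 : V)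
    (hyU : ∀ a b : K, N w1 ≠ a • v + b • N v) {g : V}
    (hE1 : ∀ w, φ w = 0 → ∃ a : K, N w - φ (N w) • (v + N v) = a • g)
    {α β : K} (hNN : N (N v) = α • v + β • N v) : β = α := by
  obtain ⟨a, ha⟩ := hE1 (N v) hN
  obtain ⟨a', ha'⟩ := hE1 (w1 - φ w1 • v) (by rw [map_sub, map_smul, hv, smul_eq_mul, mul_one, sub_self])
  have h1 : φ (N (N v)) = α := by rw [hNN, map_add, map_smul, map_smul, hv, hN]; simp
  have h2 : N (N v) - φ (N (N v)) • (v + N v) = (β - α) • N v := by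
    rw [h1, hNN]; module
  rw [h2] at ha
  rw [map_sub N, map_smul N] at ha'
  have ha0 : a' ≠ 0 := by
    rintro rfl
    rw [zero_smul] at ha'
    apply hyU (φ (N w1 - φ w1 • N v)) (φ w1 + φ (N w1 - φ w1 • N v))
    calc N w1 = (N w1 - φ w1 • N v - φ (N w1 - φ w1 • N v) • (v + N v)) + (φ w1 • N v + φ (N w1 - φ w1 • N v) • (v + N v)) := by abel
      _ = _ := by rw [ha']; module
  by_contra hne
  have hne' : β - α ≠ 0 := sub_ne_zero.2 hne
  have hgg : g = a'⁻¹ • (N w1 - φ w1 • N v - φ (N w1 - φ w1 • N v) • (v + N v)) := by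
    rw [ha', smul_smul, inv_mul_cancel₀ ha0, one_smul]
  by_cases haz : a = 0
  · rw [haz, zero_smul] at ha
    have := hind 0 (β - α) (by rw [ha]; simp)
    exact hne' this.2
  · have hg2 : g = (a⁻¹ * (β - α)) • N v := by
      rw [mul_smul, ha, smul_smul, inv_mul_cancel₀ haz, one_smul]
    rw [hg2] at ha'
    apply hyU (φ (N w1 - φ w1 • N v)) (φ w1 + φ (N w1 - φ w1 • N v) + a' * (a⁻¹ * (β - α)))
    calc N w1 = (N w1 - φ w1 • N v - φ (N w1 - φ w1 • N v) • (v + N v)) + (φ w1 • N v + φ (N w1 - φ w1 • N v) • (v + N v)) := by abel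
      _ = _ := by rw [ha']; module

theorem pureDE (hind : ∀ a b : K, a • v + b • N v = 0 → a = 0 ∧ b = 0)
    (φ1 φ2 : V →ₗ[K] K) (h1v : φ1 v = 1) (h1N : φ1 (N v) = 0)
    (h2v : φ2 v = 1) (h2N : φ2 (N v) = 0) (w1 : V) (hyU : ∀ a b : K, N w1 ≠ a • v + b • N v)
    {b1 : K} (hD1 : ∀ w, φ1 w = 0 → N w = b1 • w + φ1 (N w) • (v + N v)) {g : V}
    (hE1 : ∀ w, φ2 w = 0 → ∃ a : K, N w - φ2 (N w) • (v + N v) = a • g) : False := by
  have e1 := hD1 (N v) h1N
  have hNN : N (N v) = φ1 (N (N v)) • v + (b1 + φ1 (N (N v))) • N v := by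
    calc _ = _ := e1
      _ = _ := by module
  have hb := pureE_aux N v hind φ2 h2v h2N w1 hyU hE1 hNN
  have hb1 : b1 = 0 := by linear_combination hb
  have h3 := hD1 (w1 - φ1 w1 • v) (by rw [map_sub, map_smul, h1v, smul_eq_mul, mul_one, sub_self])
  rw [hb1, map_sub N, map_smul N, zero_smul, zero_add] at h3
  obtain ⟨k, hk⟩ : ∃ k : K, N w1 - φ1 w1 • N v = k • (v + N v) := ⟨_, h3⟩
  apply hyU k (φ1 w1 + k)
  calc N w1 = (N w1 - φ1 w1 • N v) + φ1 w1 • N v := by abel
    _ = _ := by rw [hk]; module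

/-- coefficient comparison for a vector outside `U`. -/
theorem pureEE_one (hind : ∀ a b : K, a • v + b • N v = 0 → a = 0 ∧ b = 0)
    (φ : V →ₗ[K] K) (hv : φ v = 1) (hN : φ (N v) = 0)
    (hE2 : ∀ w, φ w = 0 → N (N w - φ (N w) • (v + N v)) - φ (N (N w - φ (N w) • (v + N v))) • (v + N v) = 0) :
    ∃ a b : K, N (N (N v)) - φ (N (N v)) • N (N v) = a • v + b • N v := by
  have h := hE2 (N v) hN
  generalize φ (N (N v) - φ (N (N v)) • (v + N v)) = k at h
  set y := N (N v) with hy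
  generalize φ (N (y - φ y • (v + N v))) = k at h
  refine ⟨k, k + φ y, ?_⟩
  rw [map_sub, map_smul, map_add, ← hy] at h
  have h2 : N y - φ y • y = (N y - φ y • (N v + y) - k • (v + N v)) + (φ y • N v + k • (v + N v)) := by module
  rw [h2, h]
  module

theorem pureEE_two (hind : ∀ a b : K, a • v + b • N v = 0 → a = 0 ∧ b = 0)
    (φ : V →ₗ[K] K) (hv : φ v = 1) (hN : φ (N v) = 0) (w1 : V)
    (hyU : ∀ a b : K, N w1 ≠ a • v + b • N v) {g : V}
    (hE1 : ∀ w, φ w = 0 → ∃ a : K, N w - φ (N w) • (v + N v) = a • g)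
    (hE2 : ∀ w, φ w = 0 → N (N w - φ (N w) • (v + N v)) - φ (N (N w - φ (N w) • (v + N v))) • (v + N v) = 0)
    {α β : K} (hNN : N (N v) = α • v + β • N v) :
    ∃ k : K, N (N w1) = k • v + (φ (N w1) + k) • N v := by
  have hb := pureE_aux N v hind φ hv hN w1 hyU hE1 hNN
  subst hb
  have hφNN : φ (N (N v)) = β := by rw [hNN, map_add, map_smul, map_smul, hv, hN]; simp
  have hNv0 : N (N v) - φ (N (N v)) • (v + N v) = 0 := by rw [hφNN, hNN]; module
  have h := hE2 (w1 - φ w1 • v) (by rw [map_sub, map_smul, hv, smul_eq_mul, mul_one, sub_self])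
  -- `g₁ = y - φ(w₁) N v - φ(y) S v`
  have e1 : φ (N (w1 - φ w1 • v)) = φ (N w1) := by
    rw [map_sub, map_smul, map_sub, map_smul, hN, smul_zero, sub_zero]
  rw [e1] at h
  have e2 : N (w1 - φ w1 • v) - φ (N w1) • (v + N v) = (N w1 - φ (N w1) • v) - (φ w1 + φ (N w1)) • N v := by
    rw [map_sub, map_smul]; module
  rw [e2, map_sub N, map_smul N, map_sub N, map_smul N, map_sub φ, map_smul φ, hφNN, map_sub φ, map_smul φ, hN, hNN] at h
  refine ⟨φ (N (N w1)), ?_⟩
  generalize φ (N (N w1)) = k at h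
  have h2 : N (N w1) = (N (N w1) - φ (N w1) • N v - (φ w1 + φ (N w1)) • (β • v + β • N v) -
      (k - φ (N w1) • 0 - (φ w1 + φ (N w1)) • β) • (v + N v)) +
      (φ (N w1) • N v + k • (v + N v)) := by
    simp only [smul_eq_mul, mul_zero, sub_zero]
    module
  rw [h2, h]
  module

end pure

end H47.TwoUnipC
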