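import Mathlib
import Cfsg.Agent.Lib.H47.TwoUnipC

/-!
Products of two regular unipotent transformations: the main induction.
-/

set_option autoImplicit false
set_option linter.unusedVariables false

namespace H47.TwoUnipD

open Module LinearMap H47.TwoUnipA H47.TwoUnipB H47.TwoUnipC

variable {K : Type*} [Field K]

section

variable {V : Type*} [AddCommGroup V] [Module K V]

/-- a functional adapted to `v, N v, c`. -/
theorem exists_phi (v u c : V) (hind : ∀ a b : K, a • v + b • u = 0 → a = 0 ∧ b = 0)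
    (hc : ∀ a : K, c ≠ a • u) : ∃ φ : V →ₗ[K] K, φ v = 1 ∧ φ u = 0 ∧ φ c ≠ 0 := by
  have hv : v ∉ Submodule.span K {u} := by
    intro h
    obtain ⟨a, ha⟩ := Submodule.mem_span_singleton.1 h
    have := (hind 1 (-a) (by rw [one_smul, neg_smul, ha, add_neg_cancel])).1
    exact one_ne_zero this
  obtain ⟨f, hf, hf'⟩ := Submodule.exists_le_ker_of_notMem hv
  have hfu : f u = 0 := hf' (Submodule.mem_span_singleton_self u)
  by_cases hfc : f c = 0
  · have hc2 : c ∉ Submodule.span K {v, u} := by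
      intro h
      obtain ⟨a, b, hab⟩ := Submodule.mem_span_pair.1 h
      rw [← hab, map_add, map_smul, map_smul, hfu, smul_zero, add_zero, smul_eq_mul] at hfc
      have ha : a = 0 := (mul_eq_zero.1 hfc).resolve_right hf
      rw [ha, zero_smul, zero_add] at hab
      exact hc b hab.symm
    obtain ⟨g, hg, hg'⟩ := Submodule.exists_le_ker_of_notMem hc2
    have hgv : g v = 0 := hg' (Submodule.subset_span (Set.mem_insert _ _))
    have hgu : g u = 0 := hg' (Submodule.subset_span (Set.mem_insert_of_mem _ rfl))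
    refine ⟨(f v)⁻¹ • f + g, ?_, ?_, ?_⟩
    · simp [hgv, hf]
    · simp [hgu, hfu]
    · simp [hfc, hg]
  · refine ⟨(f v)⁻¹ • f, ?_, ?_, ?_⟩
    · simp [hf]
    · simp [hfu]
    · simp [hf, hfc]

/-- a functional vanishing on `v, u` with `ψ y = 1` -/
theorem exists_psi (v u y : V) (hy : ∀ a b : K, y ≠ a • v + b • u) :
    ∃ ψ : V →ₗ[K] K, ψ v = 0 ∧ ψ u = 0 ∧ ψ y = 1 := by
  have hc2 : y ∉ Submodule.span K {v, u} := by
    intro h
    obtain ⟨a, b, hab⟩ := Submodule.mem_span_pair.1 h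
    exact hy a b hab.symm
  obtain ⟨g, hg, hg'⟩ := Submodule.exists_le_ker_of_notMem hc2
  have hgv : g v = 0 := hg' (Submodule.subset_span (Set.mem_insert _ _))
  have hgu : g u = 0 := hg' (Submodule.subset_span (Set.mem_insert_of_mem _ rfl))
  refine ⟨(g y)⁻¹ • g, ?_, ?_, ?_⟩
  · simp [hgv]
  · simp [hgu]
  · simp [hg]

/-- the bad functionals -/
def Bad (S : V →ₗ[K] V) (v : V) (φ : V →ₗ[K] K) (h : φ (S v) = 1) : Prop :=
  (∃ l : K, ∀ w, schur S v φ h w = l • w) ∨ finrank K (range (schur S v φ h - 1)) ≤ 1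

theorem bad_unique [FiniteDimensional K V] (S : V →ₗ[K] V) (hdet : LinearMap.det S = 1) (v : V)
    (hind : ∀ a b : K, a • v + b • (S - 1) v = 0 → a = 0 ∧ b = 0) (w1 : V)
    (hyU : ∀ a b : K, (S - 1) w1 ≠ a • v + b • (S - 1) v)
    (hcase : w1 = (S - 1) v ∨ ∃ a b : K, (S - 1) ((S - 1) v) = a • v + b • (S - 1) v)
    (φ1 φ2 : V →ₗ[K] K) (h1v : φ1 v = 1) (h1 : φ1 (S v) = 1) (h2v : φ2 v = 1) (h2 : φ2 (S v) = 1)
    (hb1 : Bad S v φ1 h1) (hb2 : Bad S v φ2 h2) : φ1 ((S - 1) w1) = φ2 ((S - 1) w1) := by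
  set N := S - 1 with hN
  have hSN : ∀ x, S x = x + N x := by
    intro x; rw [hN, LinearMap.sub_apply, Module.End.one_apply]; abel
  have hinj : ∀ x, x + N x = 0 → x = 0 := by
    intro x hx
    rw [← hSN] at hx
    have hu : IsUnit S := (LinearMap.isUnit_iff_isUnit_det S).2 (by rw [hdet]; exact isUnit_one)
    have := (Module.End.isUnit_iff S).1 hu
    exact this.1 (by rw [hx, map_zero])
  have h1N : φ1 (N v) = 0 := by
    have := h1; rw [hSN, map_add, h1v] at this; linear_combination this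
  have h2N : φ2 (N v) = 0 := by
    have := h2; rw [hSN, map_add, h2v] at this; linear_combination this
  -- reformulations
  have hsch : ∀ (φ : V →ₗ[K] K) (hv : φ v = 1) (h : φ (S v) = 1) (w : ker φ),
      (((schur S v φ h - 1) w : ker φ) : V) = N w - φ (N w) • (v + N v) := by
    intro φ hv h w
    have hw : φ (w : V) = 0 := mem_ker.1 w.2
    rw [LinearMap.sub_apply, Module.End.one_apply, Submodule.coe_sub, schur_apply, hSN, hSN v, map_add, hw, zero_add]
    abel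
  have hD : ∀ (φ : V →ₗ[K] K) (hv : φ v = 1) (h : φ (S v) = 1), (∃ l : K, ∀ w, schur S v φ h w = l • w) →
      ∃ b : K, ∀ w, φ w = 0 → N w = b • w + φ (N w) • (v + N v) := by
    rintro φ hv h ⟨l, hl⟩
    refine ⟨l - 1, fun w hw => ?_⟩
    have e1 := hsch φ hv h ⟨w, mem_ker.2 hw⟩
    rw [LinearMap.sub_apply, hl, Module.End.one_apply, Submodule.coe_sub, Submodule.coe_smul] at e1
    have e1' : l • w - w = N w - φ (N w) • (v + N v) := e1
    rw [sub_smul, one_smul, e1']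
    abel
  have hE : ∀ (φ : V →ₗ[K] K) (hv : φ v = 1) (h : φ (S v) = 1), finrank K (range (schur S v φ h - 1)) ≤ 1 →
      (∃ g : V, ∀ w, φ w = 0 → ∃ a : K, N w - φ (N w) • (v + N v) = a • g) ∧
      (∀ w, φ w = 0 → N (N w - φ (N w) • (v + N v)) - φ (N (N w - φ (N w) • (v + N v))) • (v + N v) = 0) := by
    intro φ hv h hr
    obtain ⟨⟨g, hg⟩, h2⟩ := rank_one_sq (schur S v φ h) hr (by rw [det_schur S v φ hv h, hdet])
    refine ⟨⟨(g : V), ?_⟩, ?_⟩
    · intro w hw
      obtain ⟨a, ha⟩ := hg ⟨w, mem_ker.2 hw⟩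
      refine ⟨a, ?_⟩
      have e1 := hsch φ hv h ⟨w, mem_ker.2 hw⟩
      rw [ha] at e1
      exact e1.symm
    · intro w hw
      have e1 := hsch φ hv h ⟨w, mem_ker.2 hw⟩
      have e2 := hsch φ hv h ((schur S v φ h - 1) ⟨w, mem_ker.2 hw⟩)
      rw [h2, e1] at e2
      exact e2.symm
  rcases hb1 with hd1 | he1
  · obtain ⟨b1, hD1⟩ := hD φ1 h1v h1 hd1
    rcases hb2 with hd2 | he2
    · obtain ⟨b2, hD2⟩ := hD φ2 h2v h2 hd2
      exact pureDD N v hind hinj φ1 φ2 h1v h1N h2v h2N _ hD1 hD2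
    · obtain ⟨⟨g, hg⟩, -⟩ := hE φ2 h2v h2 he2
      exact (pureDE N v hind φ1 φ2 h1v h1N h2v h2N w1 hyU hD1 hg).elim
  · obtain ⟨⟨g, hg⟩, hE1⟩ := hE φ1 h1v h1 he1
    rcases hb2 with hd2 | he2
    · obtain ⟨b2, hD2⟩ := hD φ2 h2v h2 hd2
      exact (pureDE N v hind φ2 φ1 h2v h2N h1v h1N w1 hyU hD2 hg).elim
    · obtain ⟨⟨g', hg'⟩, hE2⟩ := hE φ2 h2v h2 he2
      rcases hcase with hc | ⟨α, β, hNN⟩
      · subst hc
        obtain ⟨a, b, e1⟩ := pureEE_one N v hind φ1 h1v h1N hE1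
        obtain ⟨a', b', e2⟩ := pureEE_one N v hind φ2 h2v h2N hE2
        by_contra hne
        have hne' : φ2 (N (N v)) - φ1 (N (N v)) ≠ 0 := sub_ne_zero.2 (Ne.symm hne)
        apply hyU ((φ2 (N (N v)) - φ1 (N (N v)))⁻¹ * (a - a')) ((φ2 (N (N v)) - φ1 (N (N v)))⁻¹ * (b - b'))
        have e3 : (φ2 (N (N v)) - φ1 (N (N v))) • N (N v) = (a - a') • v + (b - b') • N v := by
          have : (φ2 (N (N v)) - φ1 (N (N v))) • N (N v) = (N (N (N v)) - φ1 (N (N v)) • N (N v)) - (N (N (N v)) - φ2 (N (N v)) • N (N v)) := by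
            module
          rw [this, e1, e2]
          module
        rw [mul_smul, mul_smul, ← smul_add, ← e3, smul_smul, inv_mul_cancel₀ hne', one_smul]
      · obtain ⟨k, hk⟩ := pureEE_two N v hind φ1 h1v h1N w1 hyU hg hE1 hNN
        obtain ⟨k', hk'⟩ := pureEE_two N v hind φ2 h2v h2N w1 hyU hg' hE2 hNN
        obtain ⟨e1, e2⟩ := coords N v hind (hk.symm.trans hk')
        rw [e1] at e2
        exact add_right_cancel e2

/-- choice of the functional -/
theorem exists_functional [FiniteDimensional K V] (hK : 4 ≤ Cardinal.mk K) (S : V →ₗ[K] V)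
    (hdet : LinearMap.det S = 1) (v c : V)
    (hind : ∀ a b : K, a • v + b • (S - 1) v = 0 → a = 0 ∧ b = 0)
    (hc : ∀ a : K, c ≠ a • (S - 1) v) (hrange : ∃ w1 : V, ∀ a b : K, (S - 1) w1 ≠ a • v + b • (S - 1) v) :
    ∃ (φ : V →ₗ[K] K) (hv : φ v = 1) (hS : φ (S v) = 1), φ c ≠ 0 ∧ (∃ w, φ ((S - 1) w) ≠ 0) ∧
      ¬ Bad S v φ hS := by
  obtain ⟨w1, hyU, hcase⟩ : ∃ w1 : V, (∀ a b : K, (S - 1) w1 ≠ a • v + b • (S - 1) v) ∧
      (w1 = (S - 1) v ∨ ∃ a b : K, (S - 1) ((S - 1) v) = a • v + b • (S - 1) v) := by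
    by_cases h : ∃ a b : K, (S - 1) ((S - 1) v) = a • v + b • (S - 1) v
    · obtain ⟨w1, hw1⟩ := hrange
      exact ⟨w1, hw1, Or.inr h⟩
    · push Not at h
      exact ⟨(S - 1) v, h, Or.inl rfl⟩
  obtain ⟨φ0, h0v, h0N, h0c⟩ := exists_phi v ((S - 1) v) c hind hc
  obtain ⟨ψ, hψv, hψN, hψy⟩ := exists_psi v ((S - 1) v) ((S - 1) w1) hyU
  have hSN : ∀ x, S x = x + (S - 1) x := by
    intro x; rw [LinearMap.sub_apply, Module.End.one_apply]; abel
  have hφv : ∀ x : K, (φ0 + x • ψ) v = 1 := by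
    intro x; simp [h0v, hψv]
  have hφN : ∀ x : K, (φ0 + x • ψ) ((S - 1) v) = 0 := by
    intro x
    rw [LinearMap.add_apply, LinearMap.smul_apply, h0N, hψN, smul_zero, add_zero]
  have hφS : ∀ x : K, (φ0 + x • ψ) (S v) = 1 := by
    intro x; rw [hSN, map_add, hφv, hφN, add_zero]
  obtain ⟨x, hx1, hx2, hx3⟩ := exists_avoid hK (fun x => (φ0 + x • ψ) c = 0)
    (fun x => (φ0 + x • ψ) ((S - 1) w1) = 0) (fun x => Bad S v (φ0 + x • ψ) (hφS x))
    (by
      intro x y hx hy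
      simp only [LinearMap.add_apply, LinearMap.smul_apply, smul_eq_mul] at hx hy
      by_cases hψc : ψ c = 0
      · rw [hψc, mul_zero, add_zero] at hx
        exact absurd hx h0c
      · have : (x - y) * ψ c = 0 := by linear_combination hx - hy
        exact sub_eq_zero.1 ((mul_eq_zero.1 this).resolve_right hψc))
    (by
      intro x y hx hy
      simp only [LinearMap.add_apply _ _ ((S - 1) w1), LinearMap.smul_apply _ _ ((S - 1) w1), smul_eq_mul, hψy] at hx hy
      linear_combination hx - hy)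
    (by
      intro x y hx hy
      have h := bad_unique S hdet v hind w1 hyU hcase (φ0 + x • ψ) (φ0 + y • ψ) (hφv x) (hφS x) (hφv y) (hφS y) hx hy
      simp only [LinearMap.add_apply _ _ ((S - 1) w1), LinearMap.smul_apply _ _ ((S - 1) w1), smul_eq_mul, hψy] at h
      linear_combination h)
  exact ⟨φ0 + x • ψ, hφv x, hφS x, hx1, ⟨w1, hx2⟩, hx3⟩

end

end H47.TwoUnipD
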