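import Mathlib
import Cfsg.Agent.Lib.H47.TwoUnipD

/-!
Products of two regular unipotent transformations: conclusion for transformations.
-/

set_option autoImplicit false
set_option linter.unusedVariables false

namespace H47.TwoUnipE

open Module LinearMap H47.TwoUnipA H47.TwoUnipB H47.TwoUnipC H47.TwoUnipD

variable {K : Type*} [Field K]

section

variable {V : Type*} [AddCommGroup V] [Module K V]

theorem hind_of {N : V →ₗ[K] V} {v : V} (hv : ∀ μ : K, N v ≠ μ • v) : ∀ a b : K, a • v + b • N v = 0 → a = 0 ∧ b = 0 := by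
  intro a b h
  have hv0 : v ≠ 0 := by
    rintro rfl
    exact hv 0 (by simp)
  have hb : b = 0 := by
    by_contra hb
    apply hv (-(b⁻¹ * a))
    have h1 : b • N v = -(a • v) := by rw [eq_neg_iff_add_eq_zero, add_comm]; exact h
    have h2 : N v = b⁻¹ • (b • N v) := by rw [smul_smul, inv_mul_cancel₀ hb, one_smul]
    rw [h2, h1, smul_neg, smul_smul, neg_smul]
  rw [hb, zero_smul, add_zero] at h
  exact ⟨(smul_eq_zero.1 h).resolve_right hv0, hb⟩

/-- choice of `v` -/
theorem exists_v [FiniteDimensional K V] (hK : 4 ≤ Cardinal.mk K) (N : V →ₗ[K] V)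
    (hns : ∀ μ : K, ∃ x, N x ≠ μ • x) (hr : 2 ≤ finrank K (range N)) (hdim : 3 ≤ finrank K V)
    (c : V) (r : V →ₗ[K] K) (hr0 : r ≠ 0) :
    ∃ v, r v ≠ 0 ∧ (∀ a : K, N v ≠ a • c) ∧ (∀ μ : K, N v ≠ μ • v) ∧
      ∃ w1 : V, ∀ a b : K, N w1 ≠ a • v + b • N v := by
  have hW1 : ker r ≠ ⊤ := by rwa [Ne, ker_eq_top]
  have hW2 : (Submodule.span K {c}).comap N ≠ ⊤ := by
    intro h
    have h1 : range N ≤ Submodule.span K {c} := by
      rintro _ ⟨x, rfl⟩
      have : x ∈ (Submodule.span K {c}).comap N := by rw [h]; trivial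
      exact this
    have h2 := Submodule.finrank_mono h1
    have h3 : finrank K (Submodule.span K {c}) ≤ 1 := (finrank_span_le_card (R := K) ({c} : Set V)).trans (by simp)
    omega
  have hfin : ∀ v : V, (finrank K (range N) ≠ 2 ∨ v ∉ range N) → ∃ w1 : V, ∀ a b : K, N w1 ≠ a • v + b • N v := by
    intro v hv
    by_contra hcon
    push Not at hcon
    have h1 : range N ≤ Submodule.span K {v, N v} := by
      rintro _ ⟨x, rfl⟩
      obtain ⟨a, b, hab⟩ := hcon x
      exact Submodule.mem_span_pair.2 ⟨a, b, hab.symm⟩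
    have h2 : finrank K (Submodule.span K {v, N v}) ≤ 2 := by
      classical
      have := finrank_span_le_card (R := K) ({v, N v} : Set V)
      refine this.trans ?_
      rw [Set.toFinset_insert, Set.toFinset_singleton]
      exact Finset.card_le_two
    have h3 := Submodule.finrank_mono h1
    have h4 : range N = Submodule.span K {v, N v} := Submodule.eq_of_le_of_finrank_le h1 (by omega)
    rcases hv with hv | hv
    · omega
    · apply hv
      rw [h4]
      exact Submodule.subset_span (Set.mem_insert _ _)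
  by_cases h2 : finrank K (range N) = 2
  · have hW3 : range N ≠ ⊤ := by
      intro h
      rw [h, finrank_top] at h2
      omega
    obtain ⟨v, hv1, hv2, hv3⟩ := avoid_three hK _ _ _ hW1 hW2 hW3
    have hvc : ∀ a : K, N v ≠ a • c := by
      intro a ha
      exact hv2 (by rw [Submodule.mem_comap, ha]; exact Submodule.smul_mem _ _ (Submodule.mem_span_singleton_self c))
    refine ⟨v, fun h => hv1 h, hvc, ?_, hfin v (Or.inr hv3)⟩
    intro μ hμ
    have hμ0 : μ ≠ 0 := by
      rintro rfl
      exact hvc 0 (by rw [hμ, zero_smul, zero_smul])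
    apply hv3
    refine ⟨μ⁻¹ • v, ?_⟩
    rw [map_smul, hμ, smul_smul, inv_mul_cancel₀ hμ0, one_smul]
  · obtain ⟨v, hv1, hv2, hv3⟩ := exists_noneigen hK N hns _ _ hW1 hW2
    exact ⟨v, fun h => hv1 h, fun a ha => hv2 (by rw [Submodule.mem_comap, ha]; exact Submodule.smul_mem _ _ (Submodule.mem_span_singleton_self c)),
      hv3, hfin v (Or.inl h2)⟩

end

/-- a one-dimensional endomorphism of determinant one is the identity -/
theorem eq_one_of_det {W : Type*} [AddCommGroup W] [Module K W] (hd : finrank K W = 1) (T : W →ₗ[K] W)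
    (hdet : LinearMap.det T = 1) : ∀ w, T w = w := by
  have : Module.Finite K W := Module.finite_of_finrank_eq_succ hd
  obtain ⟨v, hv0, hv⟩ := finrank_eq_one_iff'.1 hd
  obtain ⟨a, ha⟩ := hv (T v)
  have hT : T = a • LinearMap.id := by
    apply LinearMap.ext
    intro w
    obtain ⟨b, rfl⟩ := hv w
    rw [map_smul, ← ha, LinearMap.smul_apply, LinearMap.id_apply, smul_comm]
  rw [hT, LinearMap.det_smul, LinearMap.det_id, hd, pow_one, mul_one] at hdet
  intro w
  rw [hT, hdet, one_smul, LinearMap.id_apply]

/-- the base case of dimension one -/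
theorem good_one {W : Type*} [AddCommGroup W] [Module K W] (hd : finrank K W = 1) (T : W →ₗ[K] W)
    (hdet : LinearMap.det T = 1) (c : W) (hc : c ≠ 0) (r : W →ₗ[K] K) (hr : ∃ w, r w ≠ 0) : Good T c r := by
  have hT := eq_one_of_det hd T hdet
  have : Module.Finite K W := Module.finite_of_finrank_eq_succ hd
  refine ⟨1, 1, fun x => by rw [hT]; rfl, ?_, ?_, fun x h => hc ?_, ?_⟩
  · refine ⟨⟨1, fun x => by simp⟩, ?_⟩
    exact (Submodule.finrank_le _).trans hd.le
  · refine ⟨⟨1, fun x => by simp⟩, ?_⟩
    exact (Submodule.finrank_le _).trans hd.le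
  · rw [← h]; simp
  · intro w _ hw
    by_contra hw0
    obtain ⟨u, hu⟩ := hr
    obtain ⟨v, hv0, hv⟩ := finrank_eq_one_iff'.1 hd
    obtain ⟨a, rfl⟩ := hv w
    obtain ⟨b, rfl⟩ := hv u
    rw [map_smul, smul_eq_mul] at hw hu
    rcases mul_eq_zero.1 hw with h | h
    · exact hw0 (by rw [h, zero_smul])
    · exact hu (by rw [h, mul_zero])

/-- the main induction -/
theorem good_main (hK : 4 ≤ Cardinal.mk K) : ∀ (n : ℕ) (V : Type*) [AddCommGroup V] [Module K V] (hV : finrank K V = n + 2)
    (S : V →ₗ[K] V) (hdet : LinearMap.det S = 1) (hns : ∀ μ : K, ∃ x, S x ≠ μ • x)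
    (hr : 2 ≤ finrank K (range (S - 1))) (c : V) (hc : c ≠ 0) (r : V →ₗ[K] K) (hr0 : r ≠ 0), Good S c r := by
  intro n
  induction n with
  | zero =>
    intro V _ _ hV S hdet hns hr c hc r hr0
    have : Module.Finite K V := Module.finite_of_finrank_eq_succ hV
    have hsN : ∀ x, S x = x + (S - 1) x := by
      intro x; rw [LinearMap.sub_apply, Module.End.one_apply]; abel
    have hnsN : ∀ μ : K, ∃ x, (S - 1) x ≠ μ • x := by
      intro μ
      obtain ⟨x, hx⟩ := hns (μ + 1)
      refine ⟨x, fun h => hx ?_⟩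
      rw [hsN, h, add_smul, one_smul, add_comm]
    have hW1 : ker r ≠ ⊤ := by rwa [Ne, ker_eq_top]
    have hW2 : (Submodule.span K {c}).comap (S - 1) ≠ ⊤ := by
      intro h
      have h1 : range (S - 1) ≤ Submodule.span K {c} := by
        rintro _ ⟨x, rfl⟩
        have : x ∈ (Submodule.span K {c}).comap (S - 1) := by rw [h]; trivial
        exact this
      have h2 := Submodule.finrank_mono h1
      have h3 : finrank K (Submodule.span K {c}) ≤ 1 := (finrank_span_le_card (R := K) ({c} : Set V)).trans (by simp)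
      omega
    obtain ⟨v, hv1, hv2, hv3⟩ := exists_noneigen hK (S - 1) hnsN _ _ hW1 hW2
    have hind := hind_of hv3
    have hNv0 : (S - 1) v ≠ 0 := fun h => hv3 0 (by rw [h, zero_smul])
    have hcv : ∀ a : K, c ≠ a • (S - 1) v := by
      intro a ha
      have ha0 : a ≠ 0 := by
        rintro rfl
        exact hc (by rw [ha, zero_smul])
      apply hv2
      rw [Submodule.mem_comap, Submodule.mem_span_singleton]
      exact ⟨a⁻¹, by rw [ha, smul_smul, inv_mul_cancel₀ ha0, one_smul]⟩
    obtain ⟨φ, hφv, hφN, hφc⟩ := exists_phi v ((S - 1) v) c hind hcv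
    have hφS : φ (S v) = 1 := by rw [hsN, map_add, hφv, hφN, add_zero]
    refine step S c r v φ hφv hφS hφc (fun h => hv1 h) ?_
    have hkd : finrank K (ker φ) = 1 := by
      have h1 := LinearMap.finrank_range_add_finrank_ker φ
      have h2 : range φ = ⊤ := by
        rw [LinearMap.range_eq_top]
        intro a
        exact ⟨a • v, by rw [map_smul, hφv, smul_eq_mul, mul_one]⟩
      rw [h2, finrank_top, finrank_self, hV] at h1
      omega
    refine good_one hkd _ (by rw [det_schur S v φ hφv hφS, hdet]) _ ?_ _ ?_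
    · intro h
      have h1 := congrArg (Subtype.val) h
      rw [TwoUnipA.proj_apply, hφS, one_smul] at h1
      apply hNv0
      rw [LinearMap.sub_apply, Module.End.one_apply]
      exact h1
    · by_contra hcon
      push Not at hcon
      -- then `φ ∘ (S - 1) = 0`, contradicting surjectivity of `S - 1`
      have h1 : ∀ x, φ ((S - 1) x) = 0 := by
        intro x
        rw [decomp v φ hφv x, map_add, map_smul, map_add, map_smul, hφN, smul_zero, zero_add]
        have h2 := hcon (proj v φ hφv x)
        rw [LinearMap.comp_apply, LinearMap.comp_apply, Submodule.subtype_apply] at h2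
        rw [LinearMap.sub_apply, map_sub, h2, Module.End.one_apply, mem_ker.1 (proj v φ hφv x).2, sub_zero]
      have h2 : range (S - 1) ≤ ker φ := by
        rintro _ ⟨x, rfl⟩
        exact h1 x
      have h3 := Submodule.finrank_mono h2
      omega
  | succ n ih =>
    intro V _ _ hV S hdet hns hr c hc r hr0
    have : Module.Finite K V := Module.finite_of_finrank_eq_succ hV
    have hsN : ∀ x, S x = x + (S - 1) x := by
      intro x; rw [LinearMap.sub_apply, Module.End.one_apply]; abel
    have hnsN : ∀ μ : K, ∃ x, (S - 1) x ≠ μ • x := by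
      intro μ
      obtain ⟨x, hx⟩ := hns (μ + 1)
      refine ⟨x, fun h => hx ?_⟩
      rw [hsN, h, add_smul, one_smul, add_comm]
    obtain ⟨v, hv1, hv2, hv3, hw1⟩ := exists_v hK (S - 1) hnsN hr (by omega) c r hr0
    have hind := hind_of hv3
    have hNv0 : (S - 1) v ≠ 0 := fun h => hv3 0 (by rw [h, zero_smul])
    have hcv : ∀ a : K, c ≠ a • (S - 1) v := by
      intro a ha
      have ha0 : a ≠ 0 := by
        rintro rfl
        exact hc (by rw [ha, zero_smul])
      exact hv2 a⁻¹ (by rw [ha, smul_smul, inv_mul_cancel₀ ha0, one_smul])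
    obtain ⟨φ, hφv, hφS, hφc, ⟨w, hw⟩, hbad⟩ := exists_functional hK S hdet v c hind hcv hw1
    refine step S c r v φ hφv hφS hφc hv1 ?_
    have hkd : finrank K (ker φ) = n + 2 := by
      have h1 := LinearMap.finrank_range_add_finrank_ker φ
      have h2 : range φ = ⊤ := by
        rw [LinearMap.range_eq_top]
        intro a
        exact ⟨a • v, by rw [map_smul, hφv, smul_eq_mul, mul_one]⟩
      rw [h2, finrank_top, finrank_self, hV] at h1
      omega
    have hφN : φ ((S - 1) v) = 0 := by
      rw [LinearMap.sub_apply, map_sub, hφS, Module.End.one_apply, hφv, sub_self]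
    unfold Bad at hbad
    push Not at hbad
    obtain ⟨hb1, hb2⟩ := hbad
    refine ih (ker φ) hkd _ (by rw [det_schur S v φ hφv hφS, hdet]) hb1 hb2 _ ?_ _ ?_
    · intro h
      have h1 := congrArg (Subtype.val) h
      rw [TwoUnipA.proj_apply, hφS, one_smul] at h1
      apply hNv0
      rw [LinearMap.sub_apply, Module.End.one_apply]
      exact h1
    · intro hcon
      apply hw
      rw [decomp v φ hφv w, map_add, map_smul, map_add, map_smul, hφN, smul_zero, zero_add]
      have h2 := LinearMap.congr_fun hcon (proj v φ hφv w)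
      rw [LinearMap.comp_apply, LinearMap.comp_apply, Submodule.subtype_apply, LinearMap.zero_apply] at h2
      rw [LinearMap.sub_apply, map_sub, h2, Module.End.one_apply, mem_ker.1 (proj v φ hφv w).2, sub_zero]

end H47.TwoUnipE
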