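import Cfsg.Agent.Lib.H47.HomoCert

/-!
Enumeration of Weyl groups through chains of coset representatives.
-/

set_option autoImplicit false
set_option linter.unusedVariables false
set_option linter.unusedSectionVars false

namespace H47.WEnum

open H22.RGD H22.Coord H47.Alcove H47.HomoCert H22.Poincare Polynomial

variable {Φ : Type*} {l : ℕ} {C : RootComb Φ (Fin l)} (K : CoordSys C) {rows : List (List ℤ)}

/-- unit vectors -/
def ue (l i : ℕ) : List ℤ := (List.range l).map fun j => if j = i then 1 else 0

theorem ue_length (l i : ℕ) : (ue l i).length = l := by simp [ue]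

/-- unit functionals -/
def un (i : Fin l) : Fin l → ℤ := fun j => if j = i then 1 else 0

theorem toF_ue (i : Fin l) : toF l (ue l i.val) = un i := by
  funext j
  unfold toF ue un
  have hj := j.2
  simp only [List.getD_eq_getElem?_getD, List.getElem?_map, List.getElem?_range hj, Option.map_some,
    Option.getD_some, Fin.ext_iff]

theorem ev_un (i : Fin l) (a : Φ) : ev K (un i) a = K.co a i := by
  unfold ev un
  simp

theorem decomp_un (x : Fin l → ℤ) : x = ∑ i, x i • un i := by
  funext j
  rw [Finset.sum_apply]
  simp [un]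

/-- elements of the Weyl group are determined by the action on functionals -/
theorem ext_act {w w' : Equiv.Perm Φ} (hw : w ∈ C.W) (hw' : w' ∈ C.W)
    (h : ∀ i, act K (un i) w = act K (un i) w') : w = w' := by
  apply Equiv.ext
  intro a
  apply K.co_inj
  funext i
  rw [← ev_un K i, ← ev_un K i, ← ev_act K _ hw, ← ev_act K _ hw', h]

/-- a matrix representing an element of the Weyl group -/
def RepM (w : Equiv.Perm Φ) (M : List (List ℤ)) : Prop :=
  M.length = l ∧ ∀ i : Fin l, (M.getD i.val []).length = l ∧ toF l (M.getD i.val []) = act K (un i) w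

/-- the matrix of a word -/
def st (rows : List (List ℤ)) (l : ℕ) (L : List ℕ) : List (List ℤ) :=
  (List.range l).map fun i => tw rows L (ue l i)

theorem st_rep (hr : RowsOk K rows) (L : List (Fin l)) : RepM K (C.w L) (st rows l (L.map Fin.val)) := by
  refine ⟨by simp [st], fun i => ?_⟩
  have h1 : (st rows l (L.map Fin.val)).getD i.val [] = tw rows (L.map Fin.val) (ue l i.val) := by
    unfold st
    simp only [List.getD_eq_getElem?_getD, List.getElem?_map, List.getElem?_range i.2, Option.map_some,
      Option.getD_some]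
  rw [h1]
  have h2 := tw_spec K hr L (ue_length l i.val)
  rw [toF_ue] at h2
  exact h2

theorem tw_append (rows : List (List ℤ)) (L L' : List ℕ) (x : List ℤ) :
    tw rows (L ++ L') x = tw rows L' (tw rows L x) := by
  unfold tw; rw [List.foldl_append]

theorem st_append (rows : List (List ℤ)) (l : ℕ) (L L' : List ℕ) :
    st rows l (L ++ L') = (st rows l L).map (tw rows L') := by
  unfold st
  rw [List.map_map]
  exact List.map_congr_left fun i _ => tw_append rows L L' _

theorem eq_of_st (hr : RowsOk K rows) (L L' : List (Fin l))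
    (h : st rows l (L.map Fin.val) = st rows l (L'.map Fin.val)) : C.w L = C.w L' := by
  apply ext_act K (C.w_mem L) (C.w_mem L')
  intro i
  have h1 := (st_rep K hr L).2 i
  have h2 := (st_rep K hr L').2 i
  rw [h] at h1
  rw [← h1.2, h2.2]

/-- concatenations of words from the lists -/
def inN : List (List (List ℕ)) → List ℕ → Prop
  | [], L => L = []
  | R :: Rs, L => ∃ d ∈ R, ∃ e, inN Rs e ∧ L = d ++ e

theorem inN_snoc (Rs : List (List (List ℕ))) (R : List (List ℕ)) {a d : List ℕ} (ha : inN Rs a)
    (hd : d ∈ R) : inN (Rs ++ [R]) (a ++ d) := by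
  induction Rs generalizing a with
  | nil =>
    have : a = [] := ha
    subst this
    exact ⟨d, hd, [], rfl, by simp⟩
  | cons R' Rs ih =>
    obtain ⟨d', hd', e, he, rfl⟩ := ha
    exact ⟨d', hd', e ++ d, ih he, by simp⟩

/-- the check of the coset representatives at one level -/
def okR (rows : List (List ℤ)) (l k : ℕ) (R : List (List ℕ)) : Bool :=
  R.contains [] && R.all (fun d => d.all fun i => Nat.blt i (k + 1)) &&
  R.all fun d => (List.range (k + 1)).all fun i =>
    (R.any fun d' => st rows l d' == st rows l (d ++ [i])) ||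
    (List.range k).any fun j => st rows l (j :: d) == st rows l (d ++ [i])

/-- the check of the chain of coset representatives -/
def okReps (rows : List (List ℤ)) (l : ℕ) (reps : List (List (List ℕ))) : Bool :=
  Nat.beq reps.length l && (List.range l).all fun k => okR rows l k (reps.getD k [])

theorem lift_word {L : List ℕ} (h : ∀ i ∈ L, i < l) : ∃ L' : List (Fin l), L'.map Fin.val = L :=
  ⟨List.pmap Fin.mk L h, by rw [List.map_pmap]; simp⟩

theorem exists_norm (hr : RowsOk K rows) {reps : List (List (List ℕ))}
    (hok : okReps rows l reps = true) : ∀ k ≤ l, ∀ L : List (Fin l), (∀ i ∈ L, i.val < k) →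
      ∃ N : List (Fin l), inN (reps.take k) (N.map Fin.val) ∧ C.w L = C.w N ∧ ∀ i ∈ N, i.val < k := by
  unfold okReps at hok
  simp only [Bool.and_eq_true, List.all_eq_true, List.mem_range] at hok
  obtain ⟨hlen, hok⟩ := hok
  have hlen : reps.length = l := Nat.eq_of_beq_eq_true hlen
  intro k
  induction k with
  | zero =>
    intro _ L hL
    have : L = [] := by
      rcases L with _ | ⟨i, L⟩
      · rfl
      · exact absurd (hL i (by simp)) (by omega)
    subst this
    exact ⟨[], by simp [inN], rfl, by simp⟩
  | succ k ih =>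
    intro hk
    have ih := ih (by omega)
    have hokR := hok k (by omega)
    unfold okR at hokR
    simp only [Bool.and_eq_true, List.all_eq_true, List.mem_range, Bool.or_eq_true, List.any_eq_true,
      List.contains_iff_mem, beq_iff_eq] at hokR
    obtain ⟨⟨h0, h1⟩, h2⟩ := hokR
    have h1 : ∀ d ∈ reps.getD k [], ∀ i ∈ d, i < k + 1 := fun d hd i hi => by simpa using h1 d hd i hi
    have htake : reps.take (k + 1) = reps.take k ++ [reps.getD k []] := by
      rw [List.take_add_one, List.getElem?_eq_getElem (by omega), List.getD_eq_getElem _ _ (by omega)]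
      rfl
    have key : ∀ L : List (Fin l), (∀ i ∈ L, i.val < k + 1) → ∃ a d : List (Fin l),
        (∀ i ∈ a, i.val < k) ∧ d.map Fin.val ∈ reps.getD k [] ∧ C.w L = C.w (a ++ d) := by
      intro L
      induction L using List.reverseRecOn with
      | nil => intro _; exact ⟨[], [], by simp, by simpa using h0, rfl⟩
      | append_singleton L i ihL =>
        intro hL
        obtain ⟨a, d, ha, hd, e⟩ := ihL fun j hj => hL j (by simp [hj])
        have hi : i.val < k + 1 := hL i (by simp)
        have hdl := h1 _ hd
        rcases h2 _ hd i.val hi with ⟨d', hd', he⟩ | ⟨j, hj, he⟩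
        · obtain ⟨d'', rfl⟩ := lift_word (l := l) (L := d') fun i hi => by
            have := h1 _ hd' i hi; omega
          have e1 : C.w d'' = C.w (d ++ [i]) := eq_of_st K hr _ _ (by rw [he]; simp)
          refine ⟨a, d'', ha, hd', ?_⟩
          rw [C.w_append, e, C.w_append, C.w_append, e1, C.w_append, mul_assoc]
        · have e1 : C.w ((⟨j, by omega⟩ : Fin l) :: d) = C.w (d ++ [i]) :=
            eq_of_st K hr _ _ (by simpa using he)
          refine ⟨a ++ [⟨j, by omega⟩], d, ?_, hd, ?_⟩
          · intro b hb
            rcases List.mem_append.1 hb with hb | hb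
            · exact ha b hb
            · simp only [List.mem_singleton] at hb
              subst hb
              exact hj
          · rw [C.w_append, e, C.w_append, mul_assoc, ← C.w_append d, ← e1, ← C.w_append, List.append_assoc]
            rfl
    intro L hL
    obtain ⟨a, d, ha, hd, e⟩ := key L hL
    obtain ⟨N, hN, e1, hN2⟩ := ih a ha
    refine ⟨N ++ d, ?_, ?_, ?_⟩
    · rw [htake, List.map_append]
      exact inN_snoc _ _ hN hd
    · rw [e, C.w_append, e1, ← C.w_append]
    · intro i hi
      rcases List.mem_append.1 hi with hi | hi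
      · have := hN2 i hi; omega
      · exact h1 _ hd i.val (List.mem_map.2 ⟨i, hi, rfl⟩)

/-- running a check over the whole group -/
def go (rows : List (List ℤ)) : List (List (List ℕ)) → List (List ℤ) → (List (List ℤ) → Bool) → Bool
  | [], S, chk => chk S
  | R :: Rs, S, chk => R.all fun d => go rows Rs (S.map (tw rows d)) chk

theorem go_spec {chk : List (List ℤ) → Bool} (Rs : List (List (List ℕ))) : ∀ (L : List ℕ)
    (h : go rows Rs (st rows l L) chk = true) (N : List ℕ) (hN : inN Rs N),
    chk (st rows l (L ++ N)) = true := by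
  induction Rs with
  | nil =>
    intro L h N hN
    have : N = [] := hN
    subst this
    rw [List.append_nil]; exact h
  | cons R Rs ih =>
    intro L h N hN
    obtain ⟨d, hd, e, he, rfl⟩ := hN
    unfold go at h
    rw [List.all_eq_true] at h
    have h1 := h d hd
    rw [← st_append] at h1
    rw [← List.append_assoc]
    exact ih _ h1 e he

/-- **Checks over the Weyl group.** -/
theorem all_W (hr : RowsOk K rows) {reps : List (List (List ℕ))} (hok : okReps rows l reps = true)
    {chk : List (List ℤ) → Bool} (hgo : go rows reps (st rows l []) chk = true) :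
    ∀ w ∈ C.W, ∃ M, RepM K w M ∧ chk M = true := by
  intro w hw
  obtain ⟨L, rfl⟩ := C.exists_word hw
  obtain ⟨N, hN, e, _⟩ := exists_norm K hr hok l le_rfl L fun i _ => i.2
  have hlen : reps.length = l := by
    unfold okReps at hok
    simp only [Bool.and_eq_true] at hok
    exact Nat.eq_of_beq_eq_true hok.1
  rw [List.take_of_length_le hlen.le] at hN
  rw [e]
  refine ⟨_, st_rep K hr N, ?_⟩
  have := go_spec (rows := rows) (l := l) reps [] hgo _ hN
  simpa using this

/-! ### linear algebra with lists -/

/-- row vector times matrix -/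
def vm (l : ℕ) : List ℤ → List (List ℤ) → List ℤ
  | a :: x, r :: M => List.zipWith (fun u v => a * u + v) r (vm l x M)
  | _, _ => List.replicate l 0

theorem vm_spec : ∀ (n : ℕ) (x : List ℤ) (M : List (List ℤ)), x.length = n → M.length = n →
    (∀ r ∈ M, r.length = l) → (vm l x M).length = l ∧ ∀ j < l, (vm l x M).getD j 0 =
      ∑ i ∈ Finset.range n, x.getD i 0 * (M.getD i []).getD j 0 := by
  intro n
  induction n with
  | zero =>
    intro x M hx hM _
    rw [List.length_eq_zero_iff] at hx hM
    subst hx; subst hM
    refine ⟨by simp [vm], fun j hj => ?_⟩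
    simp [vm, hj]
  | succ n ih =>
    intro x M hx hM hr
    obtain ⟨a, x, rfl⟩ := List.exists_cons_of_length_eq_add_one hx
    obtain ⟨r, M, rfl⟩ := List.exists_cons_of_length_eq_add_one hM
    obtain ⟨h1, h2⟩ := ih x M (by simpa using hx) (by simpa using hM) fun r hr' => hr r (by simp [hr'])
    have hrl := hr r (by simp)
    have hlen : (vm l (a :: x) (r :: M)).length = l := by
      rw [vm, List.length_zipWith, hrl, h1, min_self]
    refine ⟨hlen, fun j hj => ?_⟩
    rw [Finset.sum_range_succ', List.getD_eq_getElem _ _ (by omega)]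
    simp only [vm, List.getElem_zipWith, List.getD_cons_zero, List.getD_cons_succ]
    rw [← h2 j hj, List.getD_eq_getElem r _ (by omega), List.getD_eq_getElem (vm l x M) _ (by omega)]
    ring

theorem RepM.row_length {w : Equiv.Perm Φ} {M : List (List ℤ)} (h : RepM K w M) :
    ∀ r ∈ M, r.length = l := by
  intro r hr
  obtain ⟨i, hi, rfl⟩ := List.getElem_of_mem hr
  have h1 := (h.2 ⟨i, by rw [← h.1]; exact hi⟩).1
  rwa [List.getD_eq_getElem _ _ hi] at h1

theorem vm_act {w : Equiv.Perm Φ} (hw : w ∈ C.W) {M : List (List ℤ)} (h : RepM K w M) {x : List ℤ}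
    (hx : x.length = l) : (vm l x M).length = l ∧ toF l (vm l x M) = act K (toF l x) w := by
  obtain ⟨h1, h2⟩ := vm_spec (l := l) l x M hx h.1 h.row_length
  refine ⟨h1, ?_⟩
  funext j
  unfold toF at *
  rw [h2 j j.2, Finset.sum_range]
  unfold act ev
  refine Finset.sum_congr rfl fun i _ => ?_
  congr 1
  have h3 := congrFun (h.2 i).2 j
  rw [show act K (un i) w j = ev K (un i) (w (C.simple j)) from rfl, ev_un] at h3
  exact h3

/-- Horner evaluation -/
def horM (l : ℕ) (M : List (List ℤ)) : List ℤ → List ℤ → List ℤ
  | [], x => x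
  | c :: cs, x => List.zipWith (fun a b => c * a + b) x (horM l M cs (vm l x M))

theorem horM_spec {w : Equiv.Perm Φ} (hw : w ∈ C.W) {M : List (List ℤ)} (h : RepM K w M) (cs : List ℤ) :
    ∀ {x : List ℤ} (hx : x.length = l), (horM l M cs x).length = l ∧
      toF l (horM l M cs x) = aeval (tau K w) (poly cs) (toF l x) := by
  induction cs with
  | nil => intro x hx; exact ⟨hx, by rw [horM, poly, map_one]; rfl⟩
  | cons c cs ih =>
    intro x hx
    obtain ⟨h1, h2⟩ := vm_act K hw h hx
    obtain ⟨h3, h4⟩ := ih h1
    have hlen : (horM l M (c :: cs) x).length = l := by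
      rw [horM, List.length_zipWith, hx, h3, min_self]
    refine ⟨hlen, ?_⟩
    funext j
    have e1 : aeval (tau K w) (poly (c :: cs)) (toF l x) =
        c • toF l x + aeval (tau K w) (poly cs) (toF l (vm l x M)) := by
      rw [poly, map_add, aeval_C, X_mul, map_mul, aeval_X, h2]
      rfl
    rw [e1, ← h4, Pi.add_apply, Pi.smul_apply, smul_eq_mul]
    unfold toF
    have hj := j.2
    rw [List.getD_eq_getElem _ _ (by omega), List.getD_eq_getElem x _ (by omega),
      List.getD_eq_getElem (horM l M cs (vm l x M)) _ (by omega)]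
    simp only [horM, List.getElem_zipWith]

/-- the check of a polynomial identity -/
def pchk (l : ℕ) (cs : List ℤ) (M : List (List ℤ)) : Bool :=
  (List.range l).all fun i => horM l M cs (ue l i) == List.replicate l 0

theorem pchk_spec {w : Equiv.Perm Φ} (hw : w ∈ C.W) {M : List (List ℤ)} (h : RepM K w M) {cs : List ℤ}
    (hc : pchk l cs M = true) (y : Fin l → ℤ) : aeval (tau K w) (poly cs) y = 0 := by
  unfold pchk at hc
  rw [List.all_eq_true] at hc
  rw [decomp_un y, map_sum]
  refine Finset.sum_eq_zero fun i _ => ?_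
  rw [map_smul, ← toF_ue, ← (horM_spec K hw h cs (ue_length l i.val)).2]
  have h1 := hc i.val (List.mem_range.2 i.2)
  rw [beq_iff_eq] at h1
  rw [h1]
  have : toF l (List.replicate l 0) = 0 := by
    funext j; simp [toF]
  rw [this, smul_zero]

/-- polynomials on eigenvectors -/
theorem eig {w : Equiv.Perm Φ} (hw : w ∈ C.W) {m q : ℤ} (cs : List ℤ) : ∀ {x : Fin l → ℤ}
    (hx : ∀ s, m ∣ ev K x (w s) - q * ev K x s) (s : Φ),
    m ∣ ev K (aeval (tau K w) (poly cs) x) s - hz cs q * ev K x s := by
  induction cs with
  | nil =>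
    intro x _ s
    rw [poly, map_one, hz, one_mul]
    exact ⟨0, by rw [mul_zero]; exact sub_self _⟩
  | cons c cs ih =>
    intro x hx s
    have hx' : ∀ s, m ∣ ev K (act K x w) (w s) - q * ev K (act K x w) s := by
      intro s
      rw [ev_act K x hw, ev_act K x hw]
      exact hx (w s)
    have h1 := ih hx' s
    have e1 : aeval (tau K w) (poly (c :: cs)) x = c • x + aeval (tau K w) (poly cs) (act K x w) := by
      rw [poly, map_add, aeval_C, X_mul, map_mul, aeval_X]
      rfl
    rw [e1, ev_add, ev_smul, hz]
    rw [ev_act K x hw] at h1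
    have h2 := (hx s).mul_left (hz cs q)
    have h3 := dvd_add h1 h2
    have e2 : ev K (aeval (tau K w) (poly cs) (act K x w)) s - hz cs q * ev K x (w s) +
        hz cs q * (ev K x (w s) - q * ev K x s) =
        c * ev K x s + ev K (aeval (tau K w) (poly cs) (act K x w)) s - (c + q * hz cs q) * ev K x s := by
      ring
    rwa [e2] at h3

theorem dvd_of_pchk {w : Equiv.Perm Φ} (hw : w ∈ C.W) {M : List (List ℤ)} (h : RepM K w M) {cs : List ℤ}
    (hc : pchk l cs M = true) {m q : ℤ} {x : Fin l → ℤ} (hx : ∀ s, m ∣ ev K x (w s) - q * ev K x s)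
    (s : Φ) : m ∣ hz cs q * ev K x s := by
  have h1 := eig K hw cs hx s
  rw [pchk_spec K hw h hc x] at h1
  have h2 : ev K (0 : Fin l → ℤ) s = 0 := by simp [ev]
  rw [h2, zero_sub] at h1
  exact (dvd_neg).1 h1

/-! ### coordinates of roots -/

/-- matrix times column -/
def mc (M : List (List ℤ)) (c : List ℤ) : List ℤ := M.map fun r => dotl r c

/-- coordinates of a root -/
def RepC (a : Φ) (c : List ℤ) : Prop := c.length = l ∧ ∀ j : Fin l, toF l c j = K.co a j

theorem mc_spec {w : Equiv.Perm Φ} (hw : w ∈ C.W) {M : List (List ℤ)} (h : RepM K w M) {a : Φ}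
    {c : List ℤ} (hc : RepC K a c) : RepC K (w a) (mc M c) := by
  refine ⟨by simp [mc, h.1], fun j => ?_⟩
  have hj : j.val < M.length := by rw [h.1]; exact j.2
  have h1 : toF l (mc M c) j = dotl (M.getD j.val []) c := by
    unfold toF mc
    rw [List.getD_eq_getElem _ _ (by simpa using hj), List.getElem_map, List.getD_eq_getElem _ _ hj]
  rw [h1, dotl_spec (h.2 j).1 hc.1, (h.2 j).2, ← ev_un K j (w a), ← ev_act K _ hw]
  unfold ev
  exact Finset.sum_congr rfl fun t _ => by rw [hc.2]

theorem repC_simple (i : Fin l) : RepC K (C.simple i) (ue l i.val) := by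
  refine ⟨ue_length _ _, fun j => ?_⟩
  rw [toF_ue, K.co_simple]; rfl

/-- orbits of a root under a matrix -/
def orb (M : List (List ℤ)) (c : List ℤ) : ℕ → List (List ℤ)
  | 0 => []
  | n + 1 => c :: orb M (mc M c) n

theorem orb_spec {w : Equiv.Perm Φ} (hw : w ∈ C.W) {M : List (List ℤ)} (h : RepM K w M) {m q : ℤ}
    {x : Fin l → ℤ} (hx : ∀ s, m ∣ ev K x (w s) - q * ev K x s) (n : ℕ) : ∀ {a : Φ} {c : List ℤ}
    (hc : RepC K a c) (ha : m ∣ ev K x a), ∀ d ∈ orb M c n, d.length = l ∧ m ∣ ∑ j, x j * toF l d j := by
  induction n with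
  | zero => intro a c _ _ d hd; simp [orb] at hd
  | succ n ih =>
    intro a c hc ha d hd
    rw [orb, List.mem_cons] at hd
    rcases hd with rfl | hd
    · refine ⟨hc.1, ?_⟩
      have : ∑ j, x j * toF l d j = ev K x a := by
        unfold ev; exact Finset.sum_congr rfl fun j _ => by rw [hc.2]
      rw [this]; exact ha
    · refine ih (mc_spec K hw h hc) ?_ d hd
      have := dvd_add (hx a) (ha.mul_left q)
      rwa [sub_add_cancel] at this

/-- the check that the rows of `N` span a lattice containing `d` times the unit vectors -/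
def spanChk (l : ℕ) (N : List (List ℤ)) (d : ℤ) (A : List (List ℤ)) : Bool :=
  (List.range l).all fun j => Nat.beq (A.getD j []).length N.length &&
    (vm l (A.getD j []) N == (ue l j).map (d * ·))

theorem spanChk_spec {N : List (List ℤ)} {d : ℤ} {A : List (List ℤ)} (hc : spanChk l N d A = true)
    {m : ℤ} {x : Fin l → ℤ} (hN : ∀ c ∈ N, c.length = l ∧ m ∣ ∑ j, x j * toF l c j) (j : Fin l) :
    m ∣ d * x j := by
  unfold spanChk at hc
  simp only [List.all_eq_true, Bool.and_eq_true, List.mem_range, beq_iff_eq] at hc
  obtain ⟨h1, h2⟩ := hc j.val j.2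
  have h1 := Nat.eq_of_beq_eq_true h1
  obtain ⟨h3, h4⟩ := vm_spec (l := l) N.length _ N h1 rfl fun c hc => (hN c hc).1
  have e1 : d * x j = ∑ k : Fin l, x k * (vm l (A.getD j.val []) N).getD k.val 0 := by
    rw [h2]
    rw [Finset.sum_eq_single j]
    · have : ((ue l j.val).map (d * ·)).getD j.val 0 = d := by
        unfold ue
        simp only [List.map_map, List.getD_eq_getElem?_getD, List.getElem?_map, List.getElem?_range j.2,
          Option.map_some, Option.getD_some, Function.comp_apply, if_true, mul_one]
      rw [this]; ring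
    · intro k _ hk
      have : ((ue l j.val).map (d * ·)).getD k.val 0 = 0 := by
        unfold ue
        simp only [List.map_map, List.getD_eq_getElem?_getD, List.getElem?_map, List.getElem?_range k.2,
          Option.map_some, Option.getD_some, Function.comp_apply]
        rw [if_neg (fun h => hk (Fin.ext h)), mul_zero]
      rw [this, mul_zero]
    · intro h; exact absurd (Finset.mem_univ _) h
  rw [e1]
  have e2 : ∑ k : Fin l, x k * (vm l (A.getD j.val []) N).getD k.val 0 =
      ∑ i ∈ Finset.range N.length, (A.getD j.val []).getD i 0 *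
        ∑ k : Fin l, x k * toF l (N.getD i []) k := by
    simp_rw [Finset.mul_sum]
    rw [Finset.sum_comm]
    refine Finset.sum_congr rfl fun k _ => ?_
    rw [h4 k.val k.2, Finset.mul_sum]
    refine Finset.sum_congr rfl fun i _ => ?_
    unfold toF
    ring
  rw [e2]
  refine Finset.dvd_sum fun i hi => ?_
  rw [Finset.mem_range] at hi
  refine Dvd.dvd.mul_left ?_ _
  refine (hN _ ?_).2
  rw [List.getD_eq_getElem _ _ hi]; exact List.getElem_mem _

/-- determinants -/
def detL : ℕ → List (List ℤ) → ℤ
  | 0, _ => 1
  | n + 1, M => match M with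
    | [] => 0
    | r :: M => ((List.range (n + 1)).map fun j =>
        (if j % 2 = 0 then 1 else -1) * r.getD j 0 * detL n (M.map fun r => r.eraseIdx j)).sum

/-- adjugates -/
def adjL (n : ℕ) (M : List (List ℤ)) : List (List ℤ) :=
  (List.range n).map fun j => (List.range n).map fun i =>
    (if (i + j) % 2 = 0 then 1 else -1) * detL (n - 1) ((M.eraseIdx i).map fun r => r.eraseIdx j)

end H47.WEnum
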